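import Cfsg.Agent.H25.FCS
import Cfsg.Agent.H1.Solvable
import Cfsg.Agent.H3.PComp

/-! The normal Z-subgroup of a Frobenius complement with quotient `1, V₄, A₄, S₄, A₅, S₅`. -/

set_option autoImplicit false

namespace H25

open Subgroup Equiv Cfsg

universe u

variable {G : Type u} [Group G]

theorem two_aut_cyclic [Finite G] [IsCyclic G] (h : IsPGroup 2 G) : IsPGroup 2 (MulAut G) := by
  obtain ⟨k, hk⟩ := IsPGroup.iff_card.1 h
  refine IsPGroup.of_card_dvd_pow (n := k) ?_
  rw [IsCyclic.card_mulAut, hk]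
  rcases k with _ | k
  · simp
  · rw [Nat.totient_prime_pow_succ Nat.prime_two]; simp [pow_succ]

theorem two_aut_quat (n : ℕ) : IsPGroup 2 (MulAut (QuaternionGroup (2 ^ (n + 2)))) := by
  have hc : Nat.card (QuaternionGroup (2 ^ (n + 2))) = 2 ^ (n + 4) := by
    rw [Nat.card_eq_fintype_card, QuaternionGroup.card]; ring
  have ho : orderOf (QuaternionGroup.a 1 : QuaternionGroup (2 ^ (n + 2))) = 2 ^ (n + 3) := by
    rw [QuaternionGroup.orderOf_a_one]; ring
  refine Cfsg.Agent.S3116.aux (.of_card hc) (x := .a 1) (k := n + 3)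
    (by rw [← ho, pow_orderOf_eq_one]) ?_ ?_
  · have := (zpowers (QuaternionGroup.a 1 : QuaternionGroup (2 ^ (n + 2)))).card_mul_index
    rw [Nat.card_zpowers, ho, hc, pow_succ _ (n + 3)] at this
    rw [relIndex_top_right]
    exact Nat.eq_of_mul_eq_mul_left (by positivity) this
  · rintro (i | i) h
    · exact ⟨i.val, by simp only [zpow_natCast, QuaternionGroup.a_one_pow, ZMod.natCast_zmod_val]⟩
    · rw [QuaternionGroup.orderOf_xa, ho, pow_add] at h
      omega

theorem index_center_q8 : (center (QuaternionGroup 2)).index = 4 := by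
  have h1 := (center (QuaternionGroup 2)).card_mul_index
  have h2 : center (QuaternionGroup 2) = zpowers (.a 2) := by
    ext g
    rw [mem_center_iff, mem_zpowers_iff_mem_range_orderOf,
      orderOf_eq_prime (p := 2) (by decide) (by decide)]
    revert g; decide
  rw [h2, Nat.card_zpowers, orderOf_eq_prime (p := 2) (by decide) (by decide),
    Nat.card_eq_fintype_card, QuaternionGroup.card] at h1
  rw [h2]; omega

theorem mem_centralizer_of_mem_commutator {N : Subgroup G} [N.Normal] [Finite N] [IsCyclic N]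
    {x : G} (hx : x ∈ commutator G) : x ∈ centralizer (N : Set G) := by
  let φ : G →* (ZMod (Nat.card N))ˣ :=
    (IsCyclic.mulAutMulEquiv N).toMonoidHom.comp (MulAut.conjNormal (H := N))
  have h1 : φ x = 1 := Abelianization.commutator_subset_ker φ hx
  have h2 : MulAut.conjNormal (H := N) x = 1 := (IsCyclic.mulAutMulEquiv N).map_eq_one_iff.1 h1
  intro y hy
  exact (mul_inv_eq_iff_eq_mul.1 (congrArg Subtype.val (DFunLike.congr_fun h2 ⟨y, hy⟩))).symm

theorem ker_conjNormal (N : Subgroup G) [N.Normal] :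
    (MulAut.conjNormal (H := N)).ker = centralizer (N : Set G) := by
  ext g
  simp only [MonoidHom.mem_ker, MulEquiv.ext_iff, Subtype.ext_iff, MulAut.conjNormal_apply,
    MulAut.one_apply, mul_inv_eq_iff_eq_mul, mem_centralizer_iff, Subtype.forall, SetLike.mem_coe]
  exact forall₂_congr fun _ _ => eq_comm

/-- the quotient by `N` is one of the listed groups. -/
def FCQuot (N : Subgroup G) : Prop := N = ⊤ ∨
  (∃ f : G →* DihedralGroup 2, Function.Surjective f ∧ f.ker = N) ∨
  (∃ f : G →* alternatingGroup (Fin 4), Function.Surjective f ∧ f.ker = N) ∨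
  (∃ f : G →* Perm (Fin 4), Function.Surjective f ∧ f.ker = N) ∨
  (∃ f : G →* alternatingGroup (Fin 5), Function.Surjective f ∧ f.ker = N) ∨
  (∃ f : G →* Perm (Fin 5), Function.Surjective f ∧ f.ker = N)

namespace FC

variable [Finite G] (h : FC G)
include h

theorem two_aut {R : Subgroup G} (hR : IsPGroup 2 R) (hA : ¬ IsPGroup 2 (MulAut R)) :
    Nonempty (R ≃* QuaternionGroup 2) := by
  rcases h.pgroup hR with h1 | ⟨-, _ | _ | n, ⟨e⟩⟩
  · exact (hA (two_aut_cyclic hR)).elim
  · have := QuaternionGroup.quaternionGroup_one_isCyclic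
    have := isCyclic_of_injective e.toMonoidHom e.injective
    exact (hA (two_aut_cyclic hR)).elim
  · exact ⟨e⟩
  · exact (hA ((two_aut_quat n).of_equiv (MulAut.congr e.symm))).elim

theorem isZGroup_of_two (K : Subgroup G) (h2 : ∀ T ≤ K, IsPGroup 2 T → IsCyclic T) :
    IsZGroup K := by
  refine ⟨fun p hp P => ?_⟩
  have := Fact.mk hp
  have e := (P : Subgroup K).equivMapOfInjective _ K.subtype_injective
  have : IsCyclic ((P : Subgroup K).map K.subtype) := by
    by_cases h3 : p = 2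
    · subst h3
      exact h2 _ (map_subtype_le _) (P.isPGroup'.map _)
    · exact h.pgroup_odd h3 (P.isPGroup'.map _)
  exact isCyclic_of_injective e.toMonoidHom e.injective

theorem isZGroup_of_four (K : Subgroup G) (h4 : ∀ t ∈ K, orderOf t ≠ 4) : IsZGroup K := by
  refine h.isZGroup_of_two K fun T hT h2 => (h.pgroup h2).resolve_right ?_
  rintro ⟨-, n, ⟨e⟩⟩
  exact h4 _ (hT (e.symm (.xa 0)).2)
    (by rw [orderOf_coe, MulEquiv.orderOf_eq, QuaternionGroup.orderOf_xa])

theorem isZGroup_centralizer {S : Set G} {i j : G} (hi : i ∈ S) (hj : j ∈ S) (h4 : orderOf i = 4)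
    (hij : i * j ≠ j * i) : IsZGroup (centralizer S) := by
  refine h.isZGroup_of_four _ fun t ht ho => hij ?_
  have sq : ∀ x : G, orderOf x = 4 → (x ^ 2) ^ 2 = 1 ∧ x ^ 2 ≠ 1 := fun x hx =>
    ⟨by rw [← pow_mul, show 2 * 2 = orderOf x from hx.symm, pow_orderOf_eq_one], fun e => by
      have := orderOf_dvd_of_pow_eq_one e; rw [hx] at this; omega⟩
  have c : Commute t i := (ht i hi).symm
  have e1 : (t * i) ^ 2 = 1 := by
    rw [c.mul_pow, h.invol_eq (sq t ho).1 (sq t ho).2 (sq i h4).1 (sq i h4).2, ← pow_two, (sq i h4).1]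
  have e2 := mem_center_iff.1 (h.invol_central e1) j
  rw [← mul_assoc, ht j hj, mul_assoc, mul_assoc] at e2
  exact (mul_left_cancel e2).symm

/-- A solvable Frobenius complement without normal `2`-complement has `O₂ = Q₈` with an element
of order `3` acting. -/
theorem exists_odd_not_centralizing [Group.IsSolvable G] (h2 : ¬ HasNormalPComplement 2 G) :
    ∃ g : G, Odd (orderOf g) ∧ g ∉ centralizer (pCore 2 G : Set G) := by
  obtain ⟨Q, hQ, q, hq, hq2, -, g, k, hk, hg, hg'⟩ :=
    H3.exists_primePow_not_centralizing (default : Sylow 2 G) h2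
  have hQ' := (default : Sylow 2 G).isPGroup'.to_le hQ
  have ho : Odd (orderOf g) := hk ▸ (hq.odd_of_ne_two hq2).pow
  refine ⟨g, ho, fun hc => hg' fun x hx => ?_⟩
  have c1 : g * x * g⁻¹ * x⁻¹ ∈ Q := Q.mul_mem ((mem_normalizer_iff.1 hg x).1 hx) (Q.inv_mem hx)
  have c0 : centralizer (pCore 2 G : Set G) ⊓ commutator G ≤
      centralizer (fittingSubgroup G : Set G) := by
    rw [le_centralizer_iff, H1.fitting_eq_iSup_pCore]
    refine iSup_le fun ⟨p, hp⟩ => le_centralizer_iff.1 ?_
    by_cases h3 : p = 2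
    · subst h3; exact inf_le_left
    · have := Fact.mk hp
      have := h.pgroup_odd h3 (H1.isPGroup_pCore (G := G) p)
      exact fun y hy => mem_centralizer_of_mem_commutator hy.2
  have c2 : g * x * g⁻¹ * x⁻¹ ∈ fittingSubgroup G := H1.centralizer_fitting_le (c0 (mem_inf.2 ⟨by
    simpa only [mul_assoc, inv_inv] using mul_mem hc
      (Normal.conj_mem inferInstance _ (inv_mem hc) x),
    commutator_mem_commutator (mem_top g) (mem_top x)⟩))
  have c3 : g * x * g⁻¹ * x⁻¹ ∈ pCore 2 G := H1.le_pCore_of_le_fitting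
    (hQ'.to_le (zpowers_le.2 c1)) (zpowers_le.2 c2) (mem_zpowers _)
  set c := g * x * g⁻¹ * x⁻¹ with hcd
  have c4 : Commute c g := hc c c3
  have c5 : ∀ n : ℕ, g ^ n * x * (g ^ n)⁻¹ = c ^ n * x := fun n => by
    induction n with
    | zero => simp
    | succ n ih =>
      calc _ = g * (g ^ n * x * (g ^ n)⁻¹) * g⁻¹ := by rw [pow_succ']; group
        _ = c ^ n * (g * x * g⁻¹) := by
          rw [ih, ← mul_assoc, ← (c4.pow_left n).eq]; group
        _ = _ := by rw [pow_succ, hcd]; group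
  have c6 := c5 (orderOf g)
  rw [pow_orderOf_eq_one, inv_one, one_mul, mul_one, right_eq_mul] at c6
  obtain ⟨m, hm⟩ := hQ' ⟨c, c1⟩
  have c7 : c = 1 := by
    rw [← orderOf_eq_one_iff]
    exact Nat.eq_one_of_dvd_coprimes ((Nat.coprime_two_left.2 ho).pow_left m)
      (orderOf_dvd_of_pow_eq_one (congrArg Subtype.val hm)) (orderOf_dvd_of_pow_eq_one c6)
  rw [hcd, mul_inv_eq_one, mul_inv_eq_iff_eq_mul] at c7
  exact c7.symm

theorem exists_q8 [Group.IsSolvable G] (h2 : ¬ HasNormalPComplement 2 G) :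
    Nonempty (pCore 2 G ≃* QuaternionGroup 2) ∧ IsZGroup (centralizer (pCore 2 G : Set G)) ∧
      12 ∣ (centralizer (pCore 2 G : Set G)).index ∧
      ∃ φ : G →* Perm (Fin 4), φ.ker = centralizer (pCore 2 G : Set G) := by
  obtain ⟨g, ho, hg⟩ := h.exists_odd_not_centralizing h2
  rw [← ker_conjNormal] at hg
  have h3 : Odd (orderOf (MulAut.conjNormal (H := pCore 2 G) g)) :=
    ho.of_dvd_nat (orderOf_map_dvd _ g)
  obtain ⟨e⟩ := h.two_aut (H1.isPGroup_pCore (G := G) 2) fun hA => by
    obtain ⟨k, hk⟩ := hA (MulAut.conjNormal (H := pCore 2 G) g)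
    exact hg (orderOf_eq_one_iff.1 (Nat.eq_one_of_dvd_coprimes
      ((Nat.coprime_two_left.2 h3).pow_left k) (orderOf_dvd_of_pow_eq_one hk) dvd_rfl))
  obtain ⟨a⟩ := Cfsg.Agent.S3742.result
  let b := (MulAut.congr e).trans a
  let φ := b.toMonoidHom.comp (MulAut.conjNormal (H := pCore 2 G))
  have hφ : φ.ker = centralizer (pCore 2 G : Set G) := by
    rw [← ker_conjNormal]
    ext g
    exact b.map_eq_one_iff
  refine ⟨⟨e⟩, h.isZGroup_centralizer (e.symm (.a 1)).2 (e.symm (.xa 0)).2 ?_ fun h4 => ?_,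
    Nat.Coprime.mul_dvd_of_dvd_of_dvd (m := 3) (n := 4) (by norm_num) ?_ ?_, φ, hφ⟩
  · rw [orderOf_coe, MulEquiv.orderOf_eq, QuaternionGroup.orderOf_a_one]
  · have : e.symm (.a 1) * e.symm (.xa 0) = e.symm (.xa 0) * e.symm (.a 1) := Subtype.ext h4
    rw [← map_mul, ← map_mul, e.symm.injective.eq_iff] at this
    exact absurd this (by decide)
  · have h4 : orderOf (φ g) ∣ 24 := by
      have := _root_.orderOf_dvd_natCard (φ g)
      rwa [Nat.card_perm, Nat.card_fin] at this
    have h5 : Odd (orderOf (φ g)) := ho.of_dvd_nat (orderOf_map_dvd _ g)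
    have h6 : orderOf (φ g) ≠ 1 := fun e =>
      hg (by rw [ker_conjNormal, ← hφ]; exact orderOf_eq_one_iff.1 e)
    have h7 : orderOf (φ g) = 3 := by
      have := Nat.le_of_dvd (by norm_num) h4
      generalize orderOf (φ g) = n at *
      interval_cases n <;> simp_all (decide := true)
    rw [← hφ, index_ker, ← h7]
    exact orderOf_dvd_natCard _ ⟨g, rfl⟩
  · refine dvd_trans (dvd_of_eq ?_) (relIndex_dvd_index_of_normal _ (pCore 2 G))
    rw [relIndex, ← index_center_q8, ← index_comap_of_surjective _ (f := e.toMonoidHom) e.surjective]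
    congr 1
    ext s
    rw [mem_comap, mem_center_iff, mem_subgroupOf]
    exact ⟨fun h t ht => congrArg Subtype.val (e.injective
      ((map_mul e ⟨t, ht⟩ s).trans ((h _).trans (map_mul e s ⟨t, ht⟩).symm))), fun h t => by
        obtain ⟨t, rfl⟩ := e.surjective t
        exact (map_mul e t s).symm.trans ((congrArg e (Subtype.ext (h t t.2))).trans (map_mul e s t))⟩

theorem exists_fcQuot : ∃ N : Subgroup G, N.Normal ∧ IsZGroup N ∧ FCQuot N ∧
    (Group.IsSolvable G → ∃ f : G →* Perm (Fin 4), f.ker = N) := by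
  by_cases hs : Group.IsSolvable G
  · by_cases h2 : HasNormalPComplement 2 G
    · obtain ⟨P, N, hN, hc⟩ := h2
      by_cases hP : IsCyclic P
      · refine ⟨⊤, inferInstance, h.isZGroup_of_two _ fun T _ hT => ?_, Or.inl rfl,
          fun _ => ⟨1, MonoidHom.ker_one⟩⟩
        obtain ⟨Q, hQ⟩ := hT.exists_le_sylow
        have := isCyclic_of_surjective _ (P.equiv Q).surjective
        exact isCyclic_of_injective _ (inclusion_injective hQ)
      obtain ⟨-, n, ⟨e⟩⟩ := (h.pgroup P.isPGroup').resolve_left hP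
      rcases n with _ | n
      · have := QuaternionGroup.quaternionGroup_one_isCyclic
        exact (hP (isCyclic_of_injective e.toMonoidHom e.injective)).elim
      rw [pow_succ'] at e
      let b := hc.symm.QuotientMulEquiv.trans e
      let π := b.toMonoidHom.comp (QuotientGroup.mk' N)
      let f := (quatV4 (2 ^ n)).comp π
      obtain ⟨ι, hι⟩ : ∃ ι : DihedralGroup 2 →* Perm (Fin 4), Function.Injective ι := by
        let a := (Fintype.equivFinOfCardEq (DihedralGroup.card (n := 2))).permCongrHom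
        exact ⟨a.toMonoidHom.comp (MulAction.toPermHom _ _),
          a.injective.comp MulAction.toPerm_injective⟩
      refine ⟨f.ker, inferInstance, h.isZGroup_of_two _ fun T hT hT2 => ?_,
        Or.inr (Or.inl ⟨f, (quatV4_surj _).comp (b.surjective.comp (QuotientGroup.mk'_surjective _)),
          rfl⟩), fun _ => ⟨ι.comp f, MonoidHom.ker_comp_of_injective f ι hι⟩⟩
      refine isCyclic_of_injective ((π.comp T.subtype).codRestrict (zpowers (.a 1))
        fun t => quatV4_ker _ (hT t.2)) ((injective_iff_map_eq_one _).2 fun t ht => ?_)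
      have h1 : (t : G) ∈ N :=
        (QuotientGroup.eq_one_iff _).1 (b.map_eq_one_iff.1 (congrArg Subtype.val ht))
      exact Subtype.ext ((H1.inf_eq_bot_of_isPGroup_of_coprime hT2 (by
        rw [← hc.index_eq_card]
        exact (Nat.prime_two.coprime_iff_not_dvd.2 P.not_dvd_index).symm)).le ⟨t.2, h1⟩)
    · obtain ⟨-, h3, h4, φ, hφ⟩ := h.exists_q8 h2
      refine ⟨_, inferInstance, h3, ?_, fun _ => ⟨φ, hφ⟩⟩
      rcases surj_or_alt φ (by
        have := Nat.le_of_dvd (Nat.pos_of_ne_zero index_ne_zero_of_finite) h4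
        simp only [Nat.card_perm, Nat.card_fin, Nat.factorial, hφ]; omega) with ⟨f, h5, h6⟩ | h5
      · exact Or.inr (Or.inr (Or.inl ⟨f, h5, h6.trans hφ⟩))
      · exact Or.inr (Or.inr (Or.inr (Or.inl ⟨φ, h5, hφ⟩)))
  · obtain ⟨f, M, hf, hn, -⟩ := h.nonsolvable_structure hs
    obtain ⟨ι, hι⟩ := exists_aut_sl25_hom
    let e := MonoidHom.ofInjective hf
    let φ := ι.comp ((MulAut.congr e.symm).toMonoidHom.comp (MulAut.conjNormal (H := f.range)))
    have hφ : φ.ker = centralizer (f.range : Set G) := by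
      rw [← ker_conjNormal, MonoidHom.ker_comp_of_injective _ _ hι,
        MonoidHom.ker_comp_of_injective _ _ (MulAut.congr e.symm).injective]
    refine ⟨centralizer (f.range : Set G), inferInstance, h.isZGroup_centralizer
      (i := f (sx * sy)) (j := f sx) ⟨_, rfl⟩ ⟨_, rfl⟩ ?_ ?_, ?_, fun h => (hs h).elim⟩
    · rw [orderOf_injective f hf]
      exact orderOf_eq_prime_pow (p := 2) (n := 1) (by decide) (by decide)
    · rw [← map_mul, ← map_mul, hf.ne_iff]; decide
    have h4 : 60 ∣ φ.ker.index := by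
      refine dvd_trans (dvd_of_eq ?_) (relIndex_dvd_index_of_normal _ f.range)
      have h1 : φ.ker.comap f = center SL25 := by
        ext s
        rw [mem_comap, hφ, mem_center_iff]
        exact ⟨fun h t => hf (by rw [map_mul, map_mul]; exact h _ ⟨t, rfl⟩), by
          rintro h _ ⟨t, rfl⟩; rw [← map_mul, h, map_mul]⟩
      have h2 := (center SL25).card_mul_index
      rw [card_center_sl25, card_sl25, ← h1, index_comap] at h2
      omega
    rcases surj_or_alt φ (by
      have := Nat.le_of_dvd (Nat.pos_of_ne_zero index_ne_zero_of_finite) h4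
      simp only [Nat.card_perm, Nat.card_fin, Nat.factorial]; omega) with ⟨f, h5, h6⟩ | h5
    · exact Or.inr (Or.inr (Or.inr (Or.inr (Or.inl ⟨f, h5, h6.trans hφ⟩))))
    · exact Or.inr (Or.inr (Or.inr (Or.inr (Or.inr ⟨φ, h5, hφ⟩))))

theorem ker_le_ker_V4 {f₁ f₂ : G →* DihedralGroup 2} (h1 : Function.Surjective f₁) :
    f₁.ker ≤ f₂.ker := by
  obtain ⟨P⟩ : Nonempty (Sylow 2 G) := inferInstance
  obtain ⟨a, b, hab⟩ : ∃ a b : G, ∀ g ∈ (P : Subgroup G), ∃ k : ℤ, g = a ^ k ∨ g = a ^ k * b := by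
    rcases h.pgroup P.isPGroup' with h2 | ⟨-, n, ⟨e⟩⟩
    · obtain ⟨a, ha⟩ := h2.exists_generator
      exact ⟨a, 1, fun g hg => by
        obtain ⟨k, hk⟩ := ha ⟨g, hg⟩
        exact ⟨k, Or.inl (congrArg Subtype.val hk).symm⟩⟩
    · obtain ⟨a, b, -, -, -, -, -, -, h3⟩ := H6.exists_gens_of_quaternion_subgroup e
      exact ⟨a, b, h3⟩
  let F := f₁.prod f₂
  obtain ⟨k, -, hk⟩ := (Nat.dvd_prime_pow Nat.prime_two (m := 4)).1 (show F.ker.index ∣ _ by
    rw [index_ker]
    exact (card_subgroup_dvd_card _).trans (by simp))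
  have h3 := H3.sup_sylow_eq_top_of_index P hk
  have h4 : ∀ g, F g = 1 ∨ F g = F a ∨ F g = F b ∨ F g = F a * F b := fun g => by
    obtain ⟨x, hx, y, hy, rfl⟩ := mem_sup_of_normal_left.1 (h3.ge (mem_top g))
    have e : ∀ (t : DihedralGroup 2 × DihedralGroup 2) (k : ℤ), t ^ k = 1 ∨ t ^ k = t := by
      intro t k
      have : t ^ (2 : ℤ) = 1 := by revert t; decide
      obtain ⟨j, rfl | rfl⟩ := Int.even_or_odd' k
      · exact Or.inl (by rw [zpow_mul, this, one_zpow])
      · exact Or.inr (by rw [zpow_add, zpow_mul, this, one_zpow, one_mul, zpow_one])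
    rw [map_mul, show F x = 1 from hx, one_mul]
    obtain ⟨k, rfl | rfl⟩ := hab y hy <;> rcases e (F a) k with e | e <;> simp [e]
  have h5 : ∀ x y : DihedralGroup 2, (∀ t, t = 1 ∨ t = x ∨ t = y ∨ t = x * y) →
      x ≠ 1 ∧ y ≠ 1 ∧ x * y ≠ 1 := by decide
  obtain ⟨h6, h7, h8⟩ := h5 (f₁ a) (f₁ b) fun t => by
    obtain ⟨g, rfl⟩ := h1 t
    exact (h4 g).imp (congrArg Prod.fst) (Or.imp (congrArg Prod.fst)
      (Or.imp (congrArg Prod.fst) (congrArg Prod.fst)))
  intro g hg
  rcases h4 g with e | e | e | e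
  · exact congrArg Prod.snd e
  · exact (h6 ((congrArg Prod.fst e).symm.trans hg)).elim
  · exact (h7 ((congrArg Prod.fst e).symm.trans hg)).elim
  · exact (h8 ((congrArg Prod.fst e).symm.trans hg)).elim

theorem fcQuot_unique {N₁ N₂ : Subgroup G} [N₁.Normal] [N₂.Normal] (z1 : IsZGroup N₁)
    (z2 : IsZGroup N₂) (h1 : FCQuot N₁) (h2 : FCQuot N₂) : N₁ = N₂ := by
  have k1 : ∀ {Q : Type} [Group Q] (f : G →* Q), Function.Surjective f → NoZ Q →
      4 < Nat.card Q → 4 < f.ker.index ∧ ∀ M : Subgroup G, M.Normal → IsZGroup M → M ≤ f.ker :=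
    fun f hf hQ h4 => ⟨by rwa [index_ker, MonoidHom.range_eq_top.2 hf, card_top], fun M hM hZ =>
      (map_eq_bot_iff M).1 (hQ _ (hM.map f hf) (IsZGroup.of_surjective (f.subgroupMap_surjective M)))⟩
  have k2 : ∀ N : Subgroup G, FCQuot N → N = ⊤ ∨
      (∃ f : G →* DihedralGroup 2, Function.Surjective f ∧ f.ker = N) ∨
      (4 < N.index ∧ ∀ M : Subgroup G, M.Normal → IsZGroup M → M ≤ N) := by
    have a4 := two_mul_nat_card_alternatingGroup (α := Fin 4)
    have a5 := two_mul_nat_card_alternatingGroup (α := Fin 5)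
    have s4 : Nat.card (Perm (Fin 4)) = 24 := by rw [Nat.card_perm, Nat.card_fin]; rfl
    have s5 : Nat.card (Perm (Fin 5)) = 120 := by rw [Nat.card_perm, Nat.card_fin]; rfl
    rintro N (e | e | ⟨f, hf, rfl⟩ | ⟨f, hf, rfl⟩ | ⟨f, hf, rfl⟩ | ⟨f, hf, rfl⟩)
    exacts [Or.inl e, Or.inr (Or.inl e), Or.inr (Or.inr (k1 f hf noZ_four.1 (by omega))),
      Or.inr (Or.inr (k1 f hf noZ_four.2 (by omega))),
      Or.inr (Or.inr (k1 f hf noZ_five.1 (by omega))),
      Or.inr (Or.inr (k1 f hf noZ_five.2 (by omega)))]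
  have k3 : ∀ f : G →* DihedralGroup 2, Function.Surjective f → f.ker.index = 4 := fun f hf => by
    rw [index_ker, MonoidHom.range_eq_top.2 hf, card_top, DihedralGroup.nat_card]
  have k4 : ∀ f : G →* DihedralGroup 2, Function.Surjective f → ¬ IsZGroup (⊤ : Subgroup G) :=
    fun f hf hZ => by
      have := IsZGroup.of_surjective (f := f.comp (Subgroup.subtype ⊤))
        (hf.comp fun g => ⟨⟨g, trivial⟩, rfl⟩)
      exact absurd (eq_of_zgroup (c := (.r 1 : DihedralGroup 2)) (d := .sr 0)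
        (orderOf_eq_prime (by decide) (by decide)) (orderOf_eq_prime (by decide) (by decide))
        (show _ * _ = _ * _ by decide)) (by decide)
  have k5 : ∀ {A B : Subgroup G}, A ≤ B → B.index ≤ A.index := fun h =>
    Nat.le_of_dvd (Nat.pos_of_ne_zero index_ne_zero_of_finite) (index_dvd_of_le h)
  rcases k2 _ h1 with rfl | ⟨f₁, a1, rfl⟩ | ⟨a1, a2⟩ <;>
    rcases k2 _ h2 with rfl | ⟨f₂, b1, rfl⟩ | ⟨b1, b2⟩
  · rfl
  · exact (k4 _ b1 z1).elim
  · have := k5 (b2 _ inferInstance z1); rw [index_top] at this; omega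
  · exact (k4 _ a1 z2).elim
  · exact le_antisymm (h.ker_le_ker_V4 a1) (h.ker_le_ker_V4 b1)
  · have := k5 (b2 _ inferInstance z1); rw [k3 _ a1] at this; omega
  · have := k5 (a2 _ inferInstance z2); rw [index_top] at this; omega
  · have := k5 (a2 _ inferInstance z2); rw [k3 _ b1] at this; omega
  · exact le_antisymm (b2 _ inferInstance z1) (a2 _ inferInstance z2)

end FC

end H25
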