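import Cfsg.Agent.H25.EO3
import Cfsg.Agent.H10.SG4
import Cfsg.Agent.H6.QDFus
import Cfsg.Agent.S3224
import Cfsg.Agent.Lead.GW

/-! Simple groups whose involution centralizers have normal `2`-complements. -/

set_option autoImplicit false
set_option linter.unusedSectionVars false

namespace H25.NC
open Subgroup Cfsg H10 H1.CIT H25.EO
open H10.Sg (EA)
open H6 (ord2_of ord2_mul_self ord2_ne_one ord2_inv ord2_conj)
open H5.Gd (TB TD TR SE)
open scoped MatrixGroups commutatorElement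

universe u
variable {G : Type u} [Group G] [Finite G]

local notation "C₁(" a ")" => Subgroup.centralizer (Singleton.singleton a : Set _)

/-- involution centralizers have normal `2`-complements -/
def N2 (G : Type*) [Group G] : Prop :=
  ∀ t : G, orderOf t = 2 → HasNormalPComplement 2 C₁(t)

theorem N2.ex (h : N2 G) {t : G} (ht : orderOf t = 2) : ∃ K : Subgroup G, K ≤ C₁(t) ∧ C₁(t) ≤ NN(K) ∧
    Odd (Nat.card K) ∧ (∀ x ∈ C₁(t), Odd (orderOf x) → x ∈ K) ∧
      ∀ S, IsSylowIn 2 S C₁(t) → C₁(t) ≤ K ⊔ S := by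
  obtain ⟨P, N, hN, hc⟩ := h t ht
  obtain ⟨k, hk⟩ := IsPGroup.iff_card.1 P.isPGroup'
  have hi : N.index = 2 ^ k := hc.symm.index_eq_card.trans hk
  have hr : (N.map C₁(t).subtype).relIndex C₁(t) = 2 ^ k := by
    rw [relIndex, subgroupOf, comap_map_eq_self_of_injective C₁(t).subtype_injective, hi]
  refine ⟨N.map C₁(t).subtype, map_subtype_le _, le_NN_map_subtype N, ?_, fun x hx ho => ?_,
    fun S hS => ?_⟩
  · rw [card_map_of_injective C₁(t).subtype_injective, ← hc.index_eq_card, ← Nat.not_even_iff_odd,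
      even_iff_two_dvd]
    exact P.not_dvd_index
  · refine ⟨⟨x, hx⟩, ?_, rfl⟩
    have h1 := N.pow_index_mem ⟨x, hx⟩
    rw [hi] at h1
    obtain ⟨m, hm⟩ := exists_pow_eq_self_of_coprime (x := (⟨x, hx⟩ : C₁(t))) (n := 2 ^ k)
      (by rw [Subgroup.orderOf_mk]; exact (Nat.coprime_two_left.2 ho).pow_left k)
    exact hm ▸ N.pow_mem h1 m
  · rw [← relIndex_eq_one]
    have h1 := relIndex_dvd_of_le_left C₁(t) (le_sup_left : N.map C₁(t).subtype ≤ _ ⊔ S)
    have h2 := relIndex_dvd_of_le_left C₁(t) (le_sup_right : S ≤ N.map C₁(t).subtype ⊔ S)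
    rw [hr] at h1
    exact Nat.eq_one_of_dvd_coprimes (((Nat.Prime.coprime_iff_not_dvd Nat.prime_two).2
      hS.not_dvd_relIndex).pow_left k) h1 h2

theorem N2.solv (h : N2 G) {t : G} (ht : orderOf t = 2) : Group.IsSolvable C₁(t) := by
  obtain ⟨P, N, hN, hc⟩ := h t ht
  refine solv_of_quot N (FT.odd_solvable _ ?_) (solv_of_pg (p := 2) ?_)
  · rw [← hc.index_eq_card, ← Nat.not_even_iff_odd, even_iff_two_dvd]
    exact P.not_dvd_index
  · obtain ⟨k, hk⟩ := IsPGroup.iff_card.1 P.isPGroup'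
    exact IsPGroup.of_card (hc.symm.index_eq_card.trans hk)

theorem eq_one_of_odd {K U : Subgroup G} (hK : Odd (Nat.card K)) (hU : IsPGroup 2 U) {a : G}
    (h1 : a ∈ K) (h2 : a ∈ U) : a = 1 := by
  obtain ⟨k, hk⟩ := orderOf_eq_pow_of_mem hU h2
  have := H6.odd_orderOf_of_odd_card hK h1
  rw [hk] at this
  rcases k with _ | k
  · simpa using hk
  · exact absurd this (by simp [pow_succ])

theorem N2.cent (h : N2 G) {t : G} (ht : orderOf t = 2) {U : Subgroup G} (hU : IsPGroup 2 U)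
    (hUt : U ≤ C₁(t)) {x : G} (hx : x ∈ C₁(t)) (ho : Odd (orderOf x)) (hn : x ∈ NN(U)) : x ∈ CC(U) := by
  obtain ⟨K, -, h2, h3, h4, -⟩ := h.ex ht
  intro u hu
  have := eq_one_of_odd h3 hU (a := u * x * u⁻¹ * x⁻¹)
    (K.mul_mem (conj_mem_of_mem_NN (h2 (hUt hu)) (h4 x hx ho)) (K.inv_mem (h4 x hx ho)))
    (by rw [show u * x * u⁻¹ * x⁻¹ = u * (x * u⁻¹ * x⁻¹) by group]
        exact U.mul_mem hu (conj_mem_of_mem_NN hn (U.inv_mem hu)))
  exact (commutatorElement_eq_one_iff_commute.1 this).eq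

theorem N2.syl (h : N2 G) {S P : Subgroup G} (hS : IsSylowIn 2 S ⊤) {z t : G} (hz : orderOf z = 2)
    (hzS : S ≤ C₁(z)) (ht : t ∈ S) (hP : IsPGroup 2 P) (h1 : S ⊓ C₁(t) ≤ P) (h2 : P ≤ C₁(z))
    (h3 : P ≤ C₁(t)) : P ≤ S := by
  obtain ⟨K, k1, k2, k3, -, k5⟩ := h.ex hz
  have hS' := hS.of_le hzS le_top
  obtain ⟨c, hc, e⟩ := hS'.exists_cj_le hP h2
  obtain ⟨s, hs, k, hk, rfl⟩ := (mem_sup_of_NN (hzS.trans k2)).1 (sup_comm K S ▸ k5 S hS' hc)
  have e2 : cj k P ≤ S := by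
    rw [cj_mul, cj_le_iff, cj_eq_of_mem_NN (le_NN_self S (S.inv_mem hs))] at e
    exact e
  have htP : t ∈ P := h1 ⟨ht, mem_centralizer_singleton_iff.2 rfl⟩
  have e3 := eq_one_of_odd k3 hS.isPGroup (a := k * t * k⁻¹ * t⁻¹)
    (by rw [show k * t * k⁻¹ * t⁻¹ = k * (t * k⁻¹ * t⁻¹) by group]
        exact K.mul_mem hk (conj_mem_of_mem_NN (k2 (hzS ht)) (K.inv_mem hk)))
    (S.mul_mem (e2 (conj_mem_cj htP)) (S.inv_mem ht))
  have e4 : k ∈ C₁(t) := mem_centralizer_singleton_iff.2 (commutatorElement_eq_one_iff_commute.1 e3).eq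
  have e5 : cj k P ≤ S ⊓ C₁(t) := le_inf e2 (cj_le_of_mem e4 h3)
  have := eq_of_le_of_card_ge h1 (by rw [← card_cj k P]; exact card_le_of_le e5)
  exact this ▸ inf_le_left

theorem N2.not_u3 (h : N2 G) : ¬ H26.J.U3E G := by
  rintro ⟨F, _, _, n, h1, hF, ⟨e⟩⟩
  haveI : CharP F 2 := H26.charTwo_of_card (n := n * 2) (by rw [hF, pow_mul])
  have h2 : (2 : F) = 0 := CharTwo.two_eq_zero
  obtain ⟨s, hs⟩ : ∃ s : F, s + H23.conj hF s = H23.conj hF 1 * 1 := by
    have := H23.card_trace_eq hF (μ := H23.conj hF 1 * 1) (by simp)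
    obtain ⟨s, hs⟩ := (Nat.card_pos_iff.1 (this ▸ Nat.two_pow_pos n)).1
    exact ⟨s, hs⟩
  obtain ⟨l, hl⟩ := H13.exists_unit_orderOf (K := F) (d := 2 ^ n + 1) (by
    rw [hF, sq_sub_one]; exact dvd_mul_right _ _)
  have hl1 : (l : F) * H23.conj hF l = 1 := by
    rw [H23.conj_apply, ← pow_succ', ← Units.val_pow_eq_pow_val, ← hl, pow_orderOf_eq_one]; rfl
  have l0 : (l : F) ≠ 0 := l.ne_zero
  have hc : H23.conj hF l = (l : F)⁻¹ := eq_inv_of_mul_eq_one_right hl1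
  let D : Fˣ →* SL(3, F) := MonoidHom.mk' (fun m => ⟨Matrix.diagonal ![m, m, (m : F)⁻¹ * (m : F)⁻¹], by
      simp [Matrix.det_diagonal, Fin.prod_univ_three]; field_simp⟩) fun a b => Subtype.ext (by
    change Matrix.diagonal _ = Matrix.diagonal _ * Matrix.diagonal _
    rw [Matrix.diagonal_mul_diagonal]
    congr 1
    ext i
    fin_cases i <;> simp <;> ring)
  let d : SU 3 F (2 ^ n) := ⟨D l, (H13.mem_SU_iff_mat hF).2 (by
    change (Matrix.diagonal _).transpose * (Matrix.diagonal _).map _ = 1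
    rw [Matrix.diagonal_transpose, Matrix.diagonal_map (map_zero _), Matrix.diagonal_mul_diagonal,
      ← Matrix.diagonal_one]
    congr 1
    ext i
    fin_cases i <;> simp [-H23.conj_apply, hc] <;> field_simp)⟩
  let π := e.symm.toMonoidHom.comp (QuotientGroup.mk' (center (SU 3 F (2 ^ n))))
  let f := π.comp (H6.UG.toSU (hF := hF))
  have hU : IsPGroup 2 (H6.UG hF) := IsPGroup.of_card (n := n * 3) (by rw [H6.UG.card, pow_mul])
  have hf : ∀ x, f x = 1 → x = 1 := fun x k => by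
    have k1 : H6.UG.toSU x ∈ center (SU 3 F (2 ^ n)) :=
      (QuotientGroup.eq_one_iff _).1 ((map_eq_one_iff _ e.symm.injective).1 k)
    have k3 := orderOf_dvd_natCard (⟨_, k1⟩ : center (SU 3 F (2 ^ n)))
    rw [H22.card_center_SU hF 3 (by norm_num), ← orderOf_coe] at k3
    obtain ⟨j, hj⟩ := IsPGroup.iff_orderOf.1 hU x
    have k5 := k3.trans (Nat.gcd_dvd_left _ _)
    rw [orderOf_injective _ H6.UG.toSU_injective, hj] at k5
    rw [← orderOf_eq_one_iff, hj]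
    exact Nat.eq_one_of_dvd_coprimes (Nat.Coprime.pow_left j (by norm_num : Nat.Coprime 2 3)) dvd_rfl k5
  let g : H6.UG hF → H6.UG hF := fun x => ⟨(l : F)⁻¹ ^ 3 * x.a, x.s, by
    rw [map_mul, map_pow, map_inv₀, hc, x.tr]; field_simp⟩
  have hd : ∀ x, d * H6.UG.toSU x * d⁻¹ = H6.UG.toSU (g x) := fun x => by
    rw [mul_inv_eq_iff_eq_mul]
    refine Subtype.ext (Subtype.ext ?_)
    change Matrix.diagonal _ * H6.UG.mat x = H6.UG.mat (g x) * Matrix.diagonal _
    ext i j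
    fin_cases i <;> fin_cases j <;> simp [H6.UG.mat, g, -H23.conj_apply, hc] <;> field_simp
  have hd' : ∀ x, π d * f x * (π d)⁻¹ = f (g x) := fun x => by
    simp only [f, MonoidHom.comp_apply, ← hd, map_mul, map_inv]
  let t : H6.UG hF := ⟨0, 1, by simp [CharTwo.add_self_eq_zero]⟩
  have ot : orderOf (f t) = 2 := ord2_of (by rw [← map_mul, H6.UG.mul_self_eq_one.2 rfl, map_one])
    fun k => by simpa [t] using congrArg H6.UG.s (hf t k)
  have od : Odd (orderOf (π d)) := by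
    refine Odd.of_dvd_nat (n := 2 ^ n + 1) (by
      obtain ⟨m, rfl⟩ : ∃ m, n = m + 1 := ⟨n - 1, by omega⟩
      rw [pow_succ, Nat.odd_iff]; omega) (orderOf_dvd_of_pow_eq_one ?_)
    rw [← map_pow, show d ^ (2 ^ n + 1) = 1 from Subtype.ext (by
      change D l ^ _ = 1
      rw [← map_pow, ← hl, pow_orderOf_eq_one, map_one]), map_one]
  have := h.cent ot (hU.of_surjective _ f.rangeRestrict_surjective) (by
      rintro _ ⟨x, rfl⟩
      rw [mem_centralizer_singleton_iff, ← map_mul, ← map_mul]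
      congr 1
      ext <;> simp [t, add_comm])
    (x := π d) (by
      rw [mem_centralizer_singleton_iff, ← mul_inv_eq_iff_eq_mul, hd']
      congr 1
      ext <;> simp [t, g]) od (by
      refine mem_NN_of_cj_le ?_
      rintro _ ⟨_, ⟨x, rfl⟩, rfl⟩
      exact ⟨g x, (hd' x).symm⟩)
  let x : H6.UG hF := ⟨1, s, hs⟩
  have k := this (f x) ⟨x, rfl⟩
  have k2 : f (g x * x⁻¹) = 1 := by rw [map_mul, map_inv, ← hd', ← k]; group
  have k3 := congrArg H6.UG.a (hf _ k2)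
  simp only [H6.UG.mul_a, H6.UG.inv_a, H6.UG.one_a, g, x, mul_one] at k3
  have k4 : l ^ 3 = 1 := Units.ext (by
    have : (l : F)⁻¹ ^ 3 = 1 := by linear_combination k3 - h2
    simpa using this)
  have := Nat.le_of_dvd (by norm_num) (hl ▸ orderOf_dvd_of_pow_eq_one k4)
  have := four_le_pow h1
  omega

/-- the groups of the conclusion -/
def Con (G : Type*) [Group G] : Prop :=
  (∃ (F : Type) (_ : Field F) (_ : Fintype F), 3 < Fintype.card F ∧ Nonempty (G ≃* PSL(2, F))) ∨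
    Lie.IsoSuzuki G ∨ Nonempty (G ≃* alternatingGroup (Fin 7)) ∨
    ∃ (F : Type) (_ : Field F) (_ : Fintype F), Fintype.card F = 4 ∧ Nonempty (G ≃* PSL(3, F))

theorem N2.types [hs : IsSimpleGroup G] (hn : ¬ IsMulCommutative G) (h : N2 G)
    (k : TB G ∨ TD G ∨ TR G) : Con G := by
  rcases k with k | ⟨-, F, i, j, -, h1, h2⟩ | k
  · rcases H26.J.tri_of_tb hs hn k with ⟨F, i, j, n, h1, h2, h3⟩ | k | k
    · exact .inl ⟨F, i, j, by have := eight_le_pow h1; omega, h3⟩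
    · exact .inr (.inl k)
    · exact absurd k h.not_u3
  · exact .inl ⟨F, i, j, h1, h2⟩
  · obtain ⟨t, ht⟩ := exists_ord2 (G := G) fun h => hn ⟨⟨IsSimpleGroup.comm_iff_isSolvable.2 h⟩⟩
    obtain ⟨L, h1, h2⟩ := TR.cent k ht
    exact absurd (H1.isSolvable_of_le (h.solv ht) h1) h2

theorem N2.max_class [hs : IsSimpleGroup G] (hn : ¬ IsMulCommutative G) (h : N2 G) {S : Subgroup G}
    (hS : IsSylowIn 2 S ⊤) {t : G} (ht : t ∈ S) (ot : orderOf t = 2)
    (h4 : Nat.card (S ⊓ C₁(t) : Subgroup G) = 4) (hne : S ⊓ C₁(t) ≠ S) : Con G := by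
  obtain ⟨S, rfl⟩ := hS.exists_sylow_top
  have e : centralizer ({⟨t, ht⟩} : Set (S : Subgroup G)) = ((S : Subgroup G) ⊓ C₁(t)).subgroupOf S := by
    ext x
    simp [mem_subgroupOf, mem_centralizer_singleton_iff, Subtype.ext_iff]
  rcases Cfsg.Agent.S3224.result S.isPGroup' ⟨t, ht⟩ (by simpa using ot)
    (by rw [e, Nat.card_congr (subgroupOfEquivOfLe inf_le_left).toEquiv, h4]) with ⟨n, ⟨f⟩⟩ | k | k
  · have he : Even (Nat.card G) := even_iff_two_dvd.2 (ot ▸ orderOf_dvd_natCard t)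
    haveI : Group.IsPerfect G := ⟨(IsSimpleGroup.eq_bot_or_eq_top_of_normal _ inferInstance).resolve_left
      fun e => hn ((commutator_eq_bot_iff G).1 e)⟩
    have g : G ⧸ oddCore G ≃* G :=
      (QuotientGroup.quotientMulEquivOfEq (H10.Sg.core_bot_of_simple he)).trans QuotientGroup.quotientBot
    rcases GW.perf_known (GW.dih_of_sylow S f) he.two_dvd with ⟨F, i, j, -, h1, ⟨h2⟩⟩ | ⟨⟨k⟩⟩
    · exact .inl ⟨F, i, j, h1, ⟨g.symm.trans h2⟩⟩
    · exact .inr (.inr (.inl ⟨g.symm.trans k⟩))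
  · obtain ⟨k, x, y, q⟩ := H6.qd_sub k
    obtain ⟨K, -, -, hK⟩ := H6.exists_normal_of_fusion_index_two S q.D_le q.relIndex_D fun a ha g hg =>
      (H6.closed_of_relIndex_two S q.relIndex_D (fun E hE _ hE2 => by
        rcases q.classify hE hE2 with h1 | ⟨⟨e'⟩⟩
        · exact q.four_le_D h1 hE
        refine absurd (fun g hg ho => ?_) hE2
        have hp := S.isPGroup'.to_le hE
        obtain ⟨z, hz, oz⟩ := exists_orderOf_eq_of_ne_bot hp (by
          rintro rfl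
          have := Nat.card_congr e'.toEquiv
          rw [card_bot, Nat.card_eq_fintype_card, QuaternionGroup.card] at this
          omega)
        have key : ∀ a ∈ NN(E), a ∈ C₁(z) := fun a ha => by
          rw [mem_centralizer_singleton_iff, ← mul_inv_eq_iff_eq_mul]
          exact congrArg Subtype.val (H6.quaternion_ord2_unique two_ne_zero e'
            (x := ⟨_, conj_mem_of_mem_NN ha hz⟩) (y := ⟨z, hz⟩) (by simpa using ord2_conj oz a)
            (by simpa using oz))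
        exact h.cent oz hp (fun a ha => key a (le_NN_self E ha)) (key g hg) ho hg) (q.D_le ha) g hg).2 ha
    exact absurd hK (H6.simple_no_index_two hn K)
  · exact absurd (eq_of_le_of_card_ge inf_le_left (by rw [h4, k])) hne

section two
variable (h8 : ∀ B : Subgroup G, ¬ EA 3 B) {z t : G} (f : H4.Four z t)
include h8 f

theorem mem_four {a : G} (h1 : a ∈ C₁(z)) (h2 : a ∈ C₁(t)) (h3 : a * a = 1) :
    a = 1 ∨ a = z ∨ a = t ∨ a = z * t := by
  refine f.mem.1 (by_contra fun hn => h8 _ (H10.Sg.EA.succ (H5.elemAb_of_kleinFour f.klein) h3 ?_ hn))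
  rw [closure_le]
  rintro _ (rfl | rfl)
  exacts [mem_centralizer_singleton_iff.2 (mem_centralizer_singleton_iff.1 h1).symm,
    mem_centralizer_singleton_iff.2 (mem_centralizer_singleton_iff.1 h2).symm]

theorem swap {a : G} (h1 : a ∈ C₁(z)) (h2 : a ∉ C₁(t)) (h3 : a * t * a⁻¹ ∈ C₁(t)) :
    a * t * a⁻¹ = z * t := by
  have e := mem_centralizer_singleton_iff.1 h1
  rcases mem_four h8 f (a := a * t * a⁻¹) (C₁(z).mul_mem (C₁(z).mul_mem h1
    (mem_centralizer_singleton_iff.2 f.comm.eq.symm)) (C₁(z).inv_mem h1)) h3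
    (ord2_mul_self (ord2_conj f.ob a)) with k | k | k | k
  · exact absurd k (ord2_ne_one (ord2_conj f.ob a))
  · refine absurd ?_ f.ne
    calc z = a⁻¹ * (a * z) := by group
      _ = t := by rw [e, ← k]; group
  · exact absurd (mem_centralizer_singleton_iff.2 (mul_inv_eq_iff_eq_mul.1 k)) h2
  · exact k

variable {S : Subgroup G} (hS : IsSylowIn 2 S ⊤) (hz : z ∈ S) (hzS : S ≤ C₁(z)) (ht : t ∈ S)
include hS hz hzS ht

omit hS hz in
theorem sq_mem {a : G} (ha : a ∈ S ⊓ NN((S ⊓ C₁(t) : Subgroup G))) : a * a ∈ S ⊓ C₁(t) := by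
  refine ⟨S.mul_mem ha.1 ha.1, ?_⟩
  by_cases h : a ∈ C₁(t)
  · exact C₁(t).mul_mem h h
  have e := swap h8 f (hzS ha.1) h (conj_mem_of_mem_NN ha.2 ⟨ht, mem_centralizer_singleton_iff.2 rfl⟩).2
  have e2 := mem_centralizer_singleton_iff.1 (hzS ha.1)
  refine mem_centralizer_singleton_iff.2 (mul_inv_eq_iff_eq_mul.1 ?_)
  calc a * a * t * (a * a)⁻¹ = a * (a * t * a⁻¹) * a⁻¹ := by group
    _ = (a * z) * a⁻¹ * (a * t * a⁻¹) := by nth_rw 1 [e]; group
    _ = t := by rw [e2, e, mul_inv_cancel_right, ← mul_assoc, ord2_mul_self f.oa, one_mul]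

theorem N2.four (h : N2 G) {g : G} (hg : g * z * g⁻¹ = t) (hne : S ⊓ C₁(t) ≠ S)
    (hsq : ∀ u ∈ S ⊓ C₁(t), u * u ≠ t) : Nat.card (S ⊓ C₁(t) : Subgroup G) = 4 := by
  set T := S ⊓ C₁(t)
  have hT : IsPGroup 2 T := hS.isPGroup.to_le inf_le_left
  have htT : t ∈ T := ⟨ht, mem_centralizer_singleton_iff.2 rfl⟩
  have hzT : z ∈ T := ⟨hz, mem_centralizer_singleton_iff.2 f.comm.eq⟩
  have hlt : T < S := lt_of_le_of_ne inf_le_left hne
  obtain ⟨a, ha, haT⟩ := SetLike.exists_of_lt (lt_inf_NN hS.isPGroup hlt)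
  have ea := swap h8 f (hzS ha.1) (fun k => haT ⟨ha.1, k⟩) (conj_mem_of_mem_NN ha.2 htT).2
  obtain ⟨U, hU, hTU⟩ := exists_isSylowIn_ge hT (inf_le_right : T ≤ C₁(t))
  have hc : Nat.card U = Nat.card S := by
    rw [hU.card_eq ((hS.cj_top g).of_le (by
      rw [← hg, ← cj_centralizer_singleton]; exact cj_mono g hzS) le_top), card_cj]
  obtain ⟨b, hb, hbT⟩ := SetLike.exists_of_lt (lt_inf_NN hU.isPGroup (lt_of_le_of_ne hTU fun e =>
    (card_lt_of_lt hlt).ne (by rw [e, hc])))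
  have f' : H4.Four t z := ⟨f.ob, f.oa, f.ne.symm, f.comm.symm⟩
  have eb := swap h8 f' (hU.le hb.1) (fun k => hbT ⟨h.syl hS f.oa hzS ht
    (hU.isPGroup.to_le (sup_le hTU (zpowers_le.2 hb.1))) le_sup_left
    (sup_le (inf_le_left.trans hzS) (zpowers_le.2 k))
    ((sup_le hTU (zpowers_le.2 hb.1)).trans hU.le) (mem_sup_right (mem_zpowers b)), hU.le hb.1⟩)
    (hzS (conj_mem_of_mem_NN hb.2 hzT).1)
  have h1 : ∀ u ∈ T, u * u ≠ z * t := fun u hu e => hsq _ (conj_mem_of_mem_NN (NN(T).inv_mem ha.2) hu) (by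
    calc a⁻¹ * u * a⁻¹⁻¹ * (a⁻¹ * u * a⁻¹⁻¹) = a⁻¹ * (u * u) * a := by group
      _ = t := by rw [e, ← ea]; group)
  have h2 : ∀ u ∈ T, u * u ≠ z := fun u hu e => h1 _ (conj_mem_of_mem_NN hb.2 hu) (by
    calc b * u * b⁻¹ * (b * u * b⁻¹) = b * (u * u) * b⁻¹ := by group
      _ = z * t := by rw [e, eb, f.comm.eq])
  have h3 : ∀ u ∈ T, u * u = 1 := fun u hu => by
    by_contra hn
    obtain ⟨j, k1, k2⟩ := exists_sq' (Q := ⊥) hT (T.mul_mem hu hu) (by simpa using hn)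
    rw [mem_bot] at k1 k2
    have hw := T.pow_mem hu j
    have e : (u * u) ^ j = u ^ j * u ^ j := (Commute.refl u).mul_pow _
    rw [e] at k1 k2
    rcases mem_four h8 f (hzS (T.mul_mem hw hw).1) (T.mul_mem hw hw).2 k2 with k | k | k | k
    exacts [k1 k, h2 _ hw k, hsq _ hw k, h1 _ hw k]
  have e : T = H4.V4 z t :=
    le_antisymm (fun u hu => f.mem.2 (mem_four h8 f (hzS hu.1) hu.2 (h3 u hu)))
      ((closure_le _).2 (by rintro _ (rfl | rfl); exacts [hzT, htT]))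
  rw [e, f.klein.card_four]

end two

theorem N2.rank_two [hs : IsSimpleGroup G] (hn : ¬ IsMulCommutative G) (h : N2 G)
    (h8 : ∀ B : Subgroup G, ¬ EA 3 B) : Con G := by
  obtain ⟨S, hS⟩ := exists_isSylowIn 2 (⊤ : Subgroup G)
  obtain ⟨z, hz, oz⟩ := exists_orderOf_eq_of_ne_bot (hS.isPGroup.to_le (ZO_le S))
    (ZO_ne_bot hS.isPGroup (H26.J.syl_ne_bot hs hn hS))
  have hzS : S ≤ C₁(z) := fun s h => mem_centralizer_singleton_iff.2 (ZO_le_CC S hz s h)
  replace hz := ZO_le S hz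
  obtain ⟨g, hg, g1⟩ : ∃ g, g * z * g⁻¹ ∈ S ∧ g * z * g⁻¹ ≠ z := by
    by_contra hc
    push Not at hc
    have := H19.zstar_center ⟨oz, fun g e => by
      obtain ⟨c, k1, k2⟩ := (hS.of_le hzS le_top).exists_cj_le (GW.isPGroup_zp2 (ord2_conj oz g))
        (zpowers_le.2 (mem_centralizer_singleton_iff.2 e.eq.symm))
      have := hc (c * g) (by simpa [mul_assoc] using k2 (conj_mem_cj (mem_zpowers _)))
      calc g * z * g⁻¹ = c⁻¹ * (c * g * z * (c * g)⁻¹) * c := by group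
        _ = z := by rw [this, mul_assoc, ← mem_centralizer_singleton_iff.1 k1]; group⟩
      (H10.Sg.core_bot_of_simple (even_iff_two_dvd.2 (oz ▸ orderOf_dvd_natCard z)))
    rcases (inferInstance : (center G).Normal).eq_bot_or_eq_top with e | e
    · exact ord2_ne_one oz (mem_bot.1 (e ▸ this))
    · exact hn ⟨⟨fun a b => (mem_center_iff.1 (e.ge (mem_top b)) a)⟩⟩
  have four : ∀ g, g * z * g⁻¹ ∈ S → g * z * g⁻¹ ≠ z → H4.Four z (g * z * g⁻¹) := fun g h1 h2 =>
    ⟨oz, ord2_conj oz g, h2.symm, (mem_centralizer_singleton_iff.1 (hzS h1)).symm⟩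
  set t := g * z * g⁻¹
  have f := four g hg g1
  by_cases h1 : S ⊓ C₁(t) = S
  · refine h.types hn (H26.J.types_inv hs hn hS fun a ha b hb a2 b2 => ?_)
    have hb1 := mem_centralizer_singleton_iff.1 (hzS hb)
    have hb2 := mem_centralizer_singleton_iff.1 (h1.ge hb).2
    rcases mem_four h8 f (hzS ha) (h1.ge ha).2 a2 with k | k | k | k <;> rw [k]
    · simp
    exacts [hb1.symm, hb2.symm, by rw [mul_assoc, ← hb2, ← mul_assoc, ← hb1, mul_assoc]]
  by_cases h2 : ∃ g, g * z * g⁻¹ ∈ S ∧ g * z * g⁻¹ ≠ z ∧ S ⊓ C₁(g * z * g⁻¹) ≠ S ∧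
    ∀ u ∈ S ⊓ C₁(g * z * g⁻¹), u * u ≠ g * z * g⁻¹
  · obtain ⟨g, k1, k2, k3, k4⟩ := h2
    exact h.max_class hn hS k1 (ord2_conj oz g) (h.four h8 (four g k1 k2) hS hz hzS k1 rfl k3 k4) k3
  push Not at h2
  set T := S ⊓ C₁(t)
  have htT : t ∈ T := ⟨hg, mem_centralizer_singleton_iff.2 rfl⟩
  have key : ∀ c, c * z * c⁻¹ ∈ S → S ⊓ C₁(c * z * c⁻¹) ≤ NN(T) ∨ c * z * c⁻¹ = z →
      c * z * c⁻¹ = z ∨ c * z * c⁻¹ = t ∨ c * z * c⁻¹ = z * t := fun c k1 k2 => by
    by_cases k3 : c * z * c⁻¹ = z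
    · exact .inl k3
    refine (mem_four h8 f (hzS k1) ?_ (ord2_mul_self (ord2_conj oz c))).resolve_left
      (ord2_ne_one (ord2_conj oz c))
    by_cases k4 : S ⊓ C₁(c * z * c⁻¹) = S
    · exact mem_centralizer_singleton_iff.2 (mem_centralizer_singleton_iff.1 (k4.ge hg).2).symm
    obtain ⟨u, hu, e⟩ := h2 c k1 k3 k4
    exact e ▸ (sq_mem h8 f hzS hg ⟨hu.1, k2.resolve_right k3 hu⟩).2
  have hN : S ≤ NN(T) := by
    by_contra hn
    obtain ⟨y, hy, hyN⟩ := SetLike.exists_of_lt (lt_inf_NN hS.isPGroup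
      (lt_of_le_of_ne (inf_le_left : S ⊓ NN(T) ≤ S) fun e => hn (e.ge.trans inf_le_right)))
    have e : cj y T = S ⊓ C₁(y * g * z * (y * g)⁻¹) := by
      rw [cj_inf, cj_eq_of_mem hy.1, cj_centralizer_singleton]
      congr 3
      simp only [t]; group
    have e2 : y * g * z * (y * g)⁻¹ = y * t * y⁻¹ := by simp only [t]; group
    refine hyN ⟨hy.1, mem_NN.2 ?_⟩
    rcases key (y * g) (e2 ▸ S.mul_mem (S.mul_mem hy.1 hg) (S.inv_mem hy.1)) (.inl (by
      rw [← e]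
      exact (cj_le_of_mem_NN hy.2 (le_inf inf_le_left (le_NN_self T))).trans inf_le_right)) with k | k | k
    · refine absurd ?_ f.ne
      rw [e2] at k
      calc z = y⁻¹ * (y * z) := by group
        _ = t := by rw [mem_centralizer_singleton_iff.1 (hzS hy.1), ← k]; group
    · rw [e, k]
    · rw [e, k]
      ext x
      refine and_congr_right fun hx => ?_
      have := mem_centralizer_singleton_iff.1 (hzS hx)
      change x ∈ C₁(z * t) ↔ x ∈ C₁(t)
      rw [mem_centralizer_singleton_iff, mem_centralizer_singleton_iff, ← mul_assoc x z t, this,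
        mul_assoc z x t, mul_assoc z t x, mul_right_inj]
  obtain ⟨a, ha, haT⟩ := SetLike.exists_of_lt (lt_of_le_of_ne (inf_le_left : T ≤ S) h1)
  have ea := swap h8 f (hzS ha) (fun k => haT ⟨ha, k⟩) (conj_mem_of_mem_NN (hN ha) htT).2
  refine h.types hn (H5.Gd.types_of_closed hs hn hS (A := H4.V4 z t) ?_ (fun e => ?_)
    (H16.GD.k_cent f.klein) fun v hv _ c hc => f.mem.2 ?_)
  · rw [closure_le]
    rintro _ (rfl | rfl)
    exacts [hz, hg]
  · exact ord2_ne_one oz (mem_bot.1 (e ▸ f.mem.2 (.inr (.inl rfl))))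
  · have k := fun c k1 => key c k1 (.inl (inf_le_left.trans hN))
    rcases f.mem.1 hv with rfl | rfl | rfl | rfl
    · exact .inl (by group)
    · exact .inr (k c hc)
    · have e : c * t * c⁻¹ = c * g * z * (c * g)⁻¹ := by simp only [t]; group
      rw [e] at hc ⊢
      exact .inr (k _ hc)
    · have e : c * (z * t) * c⁻¹ = c * a * g * z * (c * a * g)⁻¹ := by rw [← ea]; group
      rw [e] at hc ⊢
      exact .inr (k _ hc)

/-- Gorenstein's theorem -/
theorem N2.main [hs : IsSimpleGroup G] (hn : ¬ IsMulCommutative G) (h : N2 G) : Con G := by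
  by_cases h3 : PRankLE 2 2 G
  · exact h.rank_two hn fun B hB => H5.not_pRankLE_iff_top.2 ⟨B, hB⟩ h3
  have hC : Cit G := fun t x ot ox hc => by
    obtain ⟨K, k1, k2, k3, k4, -⟩ := h.ex ot
    have := H10.Sg.core_eq_bot (H10.Sg.core_bot_of_simple (H10.Sg.even_of_rank h3))
      (fun t ht => H5.plOf_eq_bot_of_solvable (h.solv ht))
      (H10.Sg.h8_of_index (fun N _ => H6.simple_no_index_two hn N) h3) ot
    exact this.le (H5.le_oppOf k1 k2 (Nat.coprime_two_right.2 k3)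
      (k4 x (mem_centralizer_singleton_iff.2 hc.eq.symm) ox))
  rcases hC.simple hn with (⟨F, i, j, n, h1, h2, h3⟩ | k) | ⟨F, i, j, k, h1, h2, -, h3⟩ | k
  · exact .inl ⟨F, i, j, by have := four_le_pow h1; omega, h3⟩
  · exact .inr (.inl k)
  · exact .inl ⟨F, i, j, by have := eight_le_pow h1; omega, h3⟩
  · exact .inr (.inr (.inr ⟨F4, _, _, card_F4, k⟩))

end H25.NC
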