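import Cfsg.Agent.H29.U0
import Cfsg.Agent.S5563
import Cfsg.Agent.S5564

/-! Elements of order three in groups of Janko-four type. -/

set_option autoImplicit false

namespace H25.TriJ
open Cfsg H29 H29.U Subgroup

universe u
variable {G : Type u} [Group G] [Finite G]

theorem xs {z : G} {P : Subgroup G} (hJ : IsOfJankoFourTypeWith z P) :
    ∃ N, H29.U.XS z (twoCoreOfCentralizer z) N ∧ P ≤ N := by
  obtain ⟨π, Q, h, -⟩ := H13.exists_jt0 hJ
  have s : H13.XS z (twoCoreOfCentralizer z) 6 := h.toXQ.toXS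
  have cH : Nat.card (H13.Cz z) = 2661120 * 2 ^ 13 := h.card_H
  obtain ⟨z2, -, cE, -, ⟨N, EN, NH, HN, cN, -, PN⟩, -⟩ := hJ
  refine ⟨N, ⟨z2, s.zm, EN, NH, s.le_norm, HN, cE, by rw [cN, cE], fun a ha b hb => ?_, fun a ha => ?_,
    fun c hc => s.cen.le ⟨s.self hc, hc⟩, cH.trans (by norm_num)⟩, PN⟩
  · rcases s.conj ha hb with e | e
    · rw [e, mul_inv_cancel]; exact one_mem _
    · rw [e, s.comm hb, mul_inv_cancel_right]; exact mem_zpowers z
  · rcases s.sq ha with e | e <;> rw [e]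
    exacts [one_mem _, mem_zpowers z]

theorem tri [IsSimpleGroup G] (hG : ¬ IsMulCommutative G) (hJ : IsOfJankoFourType G) :
    (∀ r : G, orderOf r = 3 → ∃ t R N, H29.U.XS t R N ∧ r ∈ N ∧
      normalizer (zpowers r : Set G) ≤ centralizer {t}) ∧
    ∀ z : G, IsOfJankoFourTypeAt z → ∃ R N, H29.U.XS z R N ∧ R = twoCoreOfCentralizer z := by
  refine ⟨fun r hr => ?_, fun z ⟨P, h⟩ => (xs h).elim fun N k => ⟨_, N, k.1, rfl⟩⟩
  have cl := Cfsg.Agent.S5564.result hG hJ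
  obtain ⟨z, P, h⟩ := hJ
  have nP := (Cfsg.Agent.S5563.result hG z P h).2.2.2.2
  obtain ⟨N, k, PN⟩ := xs h
  obtain ⟨π, Q, -, x, -, -, rfl⟩ := H13.exists_jt0 h
  have o : orderOf x.1 = 3 := by rw [← Nat.card_zpowers]; exact h.2.2.2.2.2.1
  obtain ⟨g, rfl⟩ := isConj_iff.1 (cl _ _ o hr)
  refine ⟨_, _, _, k.cj g, ⟨x.1, PN (mem_zpowers _), rfl⟩, fun u hu => ?_⟩
  have m : ∀ v, v ∈ zpowers (g * x.1 * g⁻¹) ↔ g⁻¹ * v * g ∈ zpowers x.1 := fun v =>
    ⟨fun ⟨n, e⟩ => ⟨n, by simp only [conj_zpow] at e ⊢; rw [← e]; group⟩,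
      fun ⟨n, e⟩ => ⟨n, by simp only [conj_zpow] at e ⊢; rw [e]; group⟩⟩
  have a : g⁻¹ * u * g ∈ normalizer (zpowers x.1 : Set G) := mem_normalizer_iff.2 fun v => by
    have := mem_normalizer_iff.1 hu (g * v * g⁻¹)
    rw [m, m, show g⁻¹ * (g * v * g⁻¹) * g = v by group] at this
    rw [this]
    exact iff_of_eq (congrArg (· ∈ zpowers x.1) (by group))
  have b := mem_centralizer_singleton_iff.1 (nP a)
  refine mem_centralizer_singleton_iff.2 ?_
  calc u * (g * z * g⁻¹) = g * (g⁻¹ * u * g * z) * g⁻¹ := by group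
    _ = _ := by rw [b]; group

end H25.TriJ
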