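import Cfsg.Agent.H25.ConjRep

/-! A permutation group with a transitive elementary abelian normal subgroup is affine. -/

set_option autoImplicit false

namespace H25

open Subgroup
open scoped IsMulCommutative

universe u

theorem exists_affine {G : Type u} {α : Type*} [Group G] [MulAction G α] [FaithfulSMul G α]
    (N : Subgroup G) [N.Normal] (hc : IsMulCommutative N) {p : ℕ} [Fact p.Prime]
    (hNp : ∀ n ∈ N, n ^ p = 1) (h5 : ∀ c d : α, ∃ m ∈ N, m • c = d) (a : α) :
    ∃ (V : Type u) (_ : AddCommGroup V) (_ : Module (ZMod p) V) (β : V ≃ α)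
      (ρ : G →* (V ≃ₗ[ZMod p] V)), β 0 = a ∧ (∀ g v, g • β v = β (ρ g v + β.symm (g • a))) ∧
      (∀ v, ∃ n ∈ N, ∀ w, n • β w = β (w + v)) ∧ ρ.ker = N ∧ Nat.card V = Nat.card N := by
  have h6 : Function.Bijective fun v : Additive N => (v.toMul : G) • a := ⟨fun v w e =>
    Additive.toMul.injective (Subtype.ext (eq_of_smul_eq_smul fun x : α => by
      obtain ⟨m, hm, rfl⟩ := h5 a x
      rw [← mul_smul, ← mul_smul, setLike_mul_comm v.toMul.2 hm, setLike_mul_comm w.toMul.2 hm,
        mul_smul, mul_smul, show (v.toMul : G) • a = _ from e])), fun x => by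
    obtain ⟨m, hm, rfl⟩ := h5 a x
    exact ⟨.ofMul ⟨m, hm⟩, rfl⟩⟩
  let β := Equiv.ofBijective _ h6
  obtain ⟨inst⟩ : Nonempty (Module (ZMod p) (Additive N)) := ⟨elemModule N hNp⟩
  refine ⟨Additive N, inferInstance, inst, β, conjRep N p, one_smul G a, fun g v => ?_,
    fun v => ⟨v.toMul, v.toMul.2, fun w => ?_⟩, le_antisymm (fun g hg => ?_) fun g hg => ?_, rfl⟩
  · change _ = (g * v.toMul * g⁻¹ * (β.symm (g • a)).toMul : G) • a
    rw [mul_smul, show ((β.symm (g • a)).toMul : G) • a = g • a from β.apply_symm_apply _,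
      mul_smul, mul_smul, inv_smul_smul]; rfl
  · rw [add_comm]; exact (mul_smul _ _ a).symm
  · have h1 := (conjRep_eq_iff N p g 1).1 (hg.trans (map_one _).symm)
    rw [inv_one, one_mul] at h1
    obtain ⟨m, hm, e⟩ := h5 a (g • a)
    rwa [← eq_of_smul_eq_smul (m₁ := m) (m₂ := g) fun x : α => ?_]
    obtain ⟨n, hn, rfl⟩ := h5 a x
    rw [← mul_smul, ← mul_smul, ← h1 n hn, setLike_mul_comm hm hn, mul_smul, mul_smul, e]
  · exact ((conjRep_eq_iff N p g 1).2 (by
      rw [inv_one, one_mul]; exact le_centralizer N hg)).trans (map_one _)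

end H25
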