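import Cfsg.Agent.H25.Tri4

/-! Elementary abelian of order 27 extended by a four-group. -/

set_option autoImplicit false
set_option linter.unusedSectionVars false

namespace H25

open Cfsg H17 H19 Subgroup

variable {G : Type*} [Group G]

/-- Three-space over the field with three elements. -/
abbrev V27 := ZMod 3 × ZMod 3 × ZMod 3

theorem exists_omega : ∃ ω : ℂ, ω ^ 2 + ω + 1 = 0 := by
  refine ⟨(-1 + Complex.I * (Real.sqrt 3 : ℝ)) / 2, ?_⟩
  have h : ((Real.sqrt 3 : ℝ) : ℂ) ^ 2 = 3 := by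
    rw [← Complex.ofReal_pow, Real.sq_sqrt (by norm_num)]; simp
  have h2 := Complex.I_sq
  linear_combination (Complex.I ^ 2 / 4) * h + 3 / 4 * h2

theorem pow_val_add' {M : Type*} [Monoid M] {a : M} (ha : a ^ 3 = 1) (i j : ZMod 3) :
    a ^ (i + j).val = a ^ i.val * a ^ j.val := by
  rw [ZMod.val_add, ← pow_add]
  conv_rhs => rw [← Nat.mod_add_div (i.val + j.val) 3, pow_add, pow_mul, ha, one_pow, mul_one]

theorem sum_Z3 {M : Type*} [AddCommMonoid M] (F : ZMod 3 → M) : ∑ v, F v = F 0 + F 1 + F 2 :=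
  Fin.sum_univ_three (M := M) F

/-- A sign function on the field with three elements. -/
def eta3 (x : ZMod 3) : ℤ := if x = 0 then 0 else if x = 1 then 1 else -1

theorem T3.gamma [Finite G] {f : V27 → G} {N : Subgroup G} (h : T3 f N) {ω : ℂ}
    (hω : ω ^ 2 + ω + 1 = 0)
    (h0 : ∀ v : V27, v.1 * v.2.1 * v.2.2 = 0 → IsConj (f v) (f (-v)))
    (h1 : ∀ v : V27, v.1 * v.2.1 * v.2.2 = 1 → IsConj (f (1, 1, 1)) (f v)) (χ : IrrCharacter G) :
    ∃ γ : ℤ, (χ : G → ℂ) (f (1, 1, 1)) - (χ : G → ℂ) (f (-(1, 1, 1))) = 3 * (ω - ω ^ 2) * γ := by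
  have h3 : ω ^ 3 = 1 := by linear_combination (ω - 1) * hω
  obtain ⟨m, hm⟩ := h.sum_mul χ.2.isCharacter (fun v => ω ^ (v.1 + v.2.1 + v.2.2).val) (by simp)
    fun u v => by rw [← pow_val_add' h3]; congr 2; simp only [Prod.fst_add, Prod.snd_add]; ring
  obtain ⟨m', hm'⟩ := h.sum_mul χ.2.isCharacter (fun v => ω ^ (-(v.1 + v.2.1 + v.2.2)).val)
    (by simp)
    fun u v => by rw [← pow_val_add' h3]; congr 2; simp only [Prod.fst_add, Prod.snd_add]; ring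
  rw [← Equiv.sum_comp (Equiv.neg V27)] at hm'
  set D := (χ : G → ℂ) (f (1, 1, 1)) - (χ : G → ℂ) (f (-(1, 1, 1))) with hD
  have E : ∀ v : V27, (χ : G → ℂ) (f v) - (χ : G → ℂ) (f (-v)) =
      D * (eta3 v.1 * eta3 v.2.1 * eta3 v.2.2 : ℤ) := fun v => by
    have : v.1 * v.2.1 * v.2.2 = 0 ∧ eta3 v.1 * eta3 v.2.1 * eta3 v.2.2 = 0 ∨
        v.1 * v.2.1 * v.2.2 = 1 ∧ eta3 v.1 * eta3 v.2.1 * eta3 v.2.2 = 1 ∨
        (-v).1 * (-v).2.1 * (-v).2.2 = 1 ∧ eta3 v.1 * eta3 v.2.1 * eta3 v.2.2 = -1 := by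
      revert v; decide
    have k : ∀ v : V27, v.1 * v.2.1 * v.2.2 = 1 →
        (χ : G → ℂ) (f v) - (χ : G → ℂ) (f (-v)) = D := fun v e => by
      have c := h1 v e
      have c' : IsConj (f (-(1, 1, 1))) (f (-v)) := by
        rw [h.neg, h.neg]
        obtain ⟨g, hg⟩ := isConj_iff.1 c
        exact isConj_iff.2 ⟨g, by rw [← hg]; group⟩
      rw [hD, χ.2.isClassFunction.of_isConj c, χ.2.isClassFunction.of_isConj c']
    rcases this with ⟨e1, e2⟩ | ⟨e1, e2⟩ | ⟨e1, e2⟩ <;> rw [e2]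
    · rw [χ.2.isClassFunction.of_isConj (h0 v e1)]; simp
    · rw [k v e1]; simp
    · have := k _ e1
      rw [neg_neg] at this
      push_cast
      linear_combination -this
  have S : ∑ v : V27, D * (eta3 v.1 * eta3 v.2.1 * eta3 v.2.2 : ℤ) *
      ω ^ (v.1 + v.2.1 + v.2.2).val = 27 * (m - m') := by
    have c : (Fintype.card V27 : ℂ) = 27 := by simp
    rw [c] at hm hm'
    rw [mul_sub, ← hm, ← hm', ← Finset.sum_sub_distrib]
    refine Finset.sum_congr rfl fun v _ => ?_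
    rw [← E, sub_mul]
    simp only [Equiv.neg_apply, Prod.fst_neg, Prod.snd_neg, ← neg_add, neg_neg]
  simp only [Fintype.sum_prod_type, sum_Z3, pow_val_add' h3] at S
  have v0 : (0 : ZMod 3).val = 0 := rfl
  have v1 : (1 : ZMod 3).val = 1 := rfl
  have v2 : (2 : ZMod 3).val = 2 := rfl
  have e0 : eta3 0 = 0 := rfl
  have e1 : eta3 1 = 1 := rfl
  have e2 : eta3 2 = -1 := rfl
  simp only [v0, v1, v2, e0, e1, e2] at S
  push_cast at S
  refine ⟨m - m', ?_⟩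
  push_cast
  have t : (ω - ω ^ 2) ^ 2 = -3 := by linear_combination (ω ^ 2 - 3 * ω + 3) * hω
  have S' : D * (ω - ω ^ 2) ^ 3 = 27 * (m - m') := by rw [← S]; ring
  linear_combination ((ω - ω ^ 2) / 9) * S' - D * ((ω - ω ^ 2) ^ 2 - 3) / 9 * t

theorem s27_arith {ι : Type*} [Fintype ι] {A d γ : ι → ℤ} {n : ℕ} (n0 : 0 < n)
    (d0 : ∀ i, 0 < d i) (sd : ∑ i, d i ^ 2 = n) (s2 : ∑ i, γ i ^ 2 = 2)
    (s0 : ∑ i, γ i * d i = 0) (sa : ∑ i, γ i * A i = 0)
    (t : (n : ℚ) * ∑ i, (γ i ^ 2 * A i : ℚ) / d i = -108) : n ≤ 1458 := by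
  obtain ⟨i, j, ij, hi, hj, hd, hk⟩ := exists_pair_sq s2 s0 d0
  rw [Fintype.sum_eq_add i j ij fun k hk' => by rw [hk k hk'.1 hk'.2]; simp, hi, hj, ← hd] at t
  rw [Fintype.sum_eq_add i j ij fun k hk' => by rw [hk k hk'.1 hk'.2]; simp, hi, hj] at sa
  rw [show A j = A i by omega] at t
  have di := d0 i
  have dq : (d i : ℚ) ≠ 0 := by exact_mod_cast di.ne'
  have e : (n : ℤ) * A i = -54 * d i := by
    field_simp at t
    push_cast at t
    exact_mod_cast (by linear_combination t / 2 : (n : ℚ) * A i = -54 * d i)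
  have b := two_sq_le (d := d) ij
  rw [sd, ← hd] at b
  have G1 : (0 : ℤ) < n := by exact_mod_cast n0
  have e6 : A i ≤ -1 := by
    by_contra! h'
    nlinarith
  have e7 : (n : ℤ) ≤ 54 * d i := by nlinarith
  have e8 : d i ≤ 27 := by nlinarith
  omega

/-- Fusion pattern of the four-group of even sign changes. -/
def rE27 (u w : V27) : Prop := (u.1 = 0 ↔ w.1 = 0) ∧ (u.2.1 = 0 ↔ w.2.1 = 0) ∧
  (u.2.2 = 0 ↔ w.2.2 = 0) ∧ u.1 * u.2.1 * u.2.2 = w.1 * w.2.1 * w.2.2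

instance : DecidableRel rE27 := fun _ _ => by unfold rE27; infer_instance

theorem col_ne [Finite G] {g k : G} (hn : ¬ IsConj g k) :
    ∑ χ : IrrCharacter G, (χ : G → ℂ) g * (χ : G → ℂ) k⁻¹ = 0 := by
  have := column_orthogonality g k
  rw [if_neg hn] at this
  simpa only [irr_conj] using this

theorem col_self [Finite G] (g : G) :
    ∑ χ : IrrCharacter G, (χ : G → ℂ) g * (χ : G → ℂ) g⁻¹ = cz g := by
  simpa only [irr_conj] using column_orthogonality_self g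

theorem T3.e27_top [Finite G] {f : V27 → G} {N : Subgroup G} (h : T3 f N)
    (hb : ∀ v, ¬ T3Bad f N v) (hr : ∀ a b, a ≠ 0 → (IsConj (f a) (f b) ↔ rE27 a b))
    (hN : Nat.card N = 108) : N = ⊤ := by
  obtain ⟨ω, hω⟩ := exists_omega
  have t : (ω - ω ^ 2) ^ 2 = -3 := by linear_combination (ω ^ 2 - 3 * ω + 3) * hω
  have t0 : ω - ω ^ 2 ≠ 0 := fun e => by rw [e] at t; norm_num at t
  choose γ hγ using h.gamma hω (fun v hv => by
    by_cases e : v = 0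
    · rw [e, neg_zero]
    · rw [hr _ _ e]; revert v; decide) (fun v hv => by rw [hr _ _ (by decide)]; revert v; decide)
  have ra : RatE (f (1, 0, 0)) :=
    ratE_of_three (h.cube _) (by rw [← h.neg, hr _ _ (by decide)]; decide)
  have cc := h.cz_eq hr hN (1, 1, 1) 27 (by decide)
  have cd := h.cz_eq hr hN (-(1, 1, 1)) 27 (by decide)
  have st : ∀ (u v : V27) (n : ℕ), (u ≠ 0 ∧ v ≠ 0 ∧ ¬ (rE27 u v ∧ rE27 v (-(1, 0, 0))) ∧
      (Finset.univ.filter fun a => rE27 u a ∧ rE27 v ((1, 0, 0) - a)).card = n) →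
      (Nat.card G : ℂ) * ∑ χ : IrrCharacter G, (χ : G → ℂ) (f (-u)) * (χ : G → ℂ) (f (-v)) *
        iv χ (f (1, 0, 0)) / iv χ 1 = (cz (f u) : ℂ) * cz (f v) * n := by
    rintro u v n ⟨hu, hv, h1, h2⟩
    simp only [h.neg, ra.cast, ratE_one.cast]
    rw [struct_const, h.ncl_eq hr hu hv (by decide) h1 (fun h' => hb _ h'.1), h2]
  have s1 := st (1, 1, 1) (1, 1, 1) 2 (by decide)
  have s2 := st (-(1, 1, 1)) (-(1, 1, 1)) 2 (by decide)
  have s3 := st (1, 1, 1) (-(1, 1, 1)) 0 (by decide)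
  have o1 := col_self (f (1, 1, 1))
  have o2 := col_ne (g := f (1, 1, 1)) (k := f (-(1, 1, 1)))
    (by rw [hr _ _ (by decide)]; decide)
  have o3 := col_ne (g := f (-(1, 1, 1))) (k := f (1, 1, 1))
    (by rw [hr _ _ (by decide)]; decide)
  have o4 := col_ne (h.not_conj_one (v := (1, 1, 1)) (by decide))
  have o5 := col_ne (h.not_conj_one (v := -(1, 1, 1)) (by decide))
  have o6 := col_ne (g := f (1, 1, 1)) (k := f (1, 0, 0)) (by rw [hr _ _ (by decide)]; decide)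
  have o7 := col_ne (g := f (-(1, 1, 1))) (k := f (1, 0, 0)) (by rw [hr _ _ (by decide)]; decide)
  simp only [ra.inv] at o6 o7
  simp only [inv_one, ← ratE_one.cast] at o4 o5
  simp only [← h.neg, neg_neg, cc, cd] at s1 s2 s3 o1 o2 o3
  have sq : ∀ χ : IrrCharacter G, (γ χ : ℂ) ^ 2 = -(1 / 27) *
      ((χ : G → ℂ) (f (1, 1, 1)) - (χ : G → ℂ) (f (-(1, 1, 1)))) ^ 2 := fun χ => by
    rw [hγ]; linear_combination (γ χ : ℂ) ^ 2 / 3 * t
  have r2 : ∑ χ, (γ χ : ℂ) ^ 2 = 2 := by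
    have : ∑ χ, (γ χ : ℂ) ^ 2 = -(1 / 27) * (∑ χ : IrrCharacter G,
        (χ : G → ℂ) (f (1, 1, 1)) * (χ : G → ℂ) (f (1, 1, 1)) + ∑ χ : IrrCharacter G,
        (χ : G → ℂ) (f (-(1, 1, 1))) * (χ : G → ℂ) (f (-(1, 1, 1))) - 2 * ∑ χ : IrrCharacter G,
        (χ : G → ℂ) (f (1, 1, 1)) * (χ : G → ℂ) (f (-(1, 1, 1)))) := by
      rw [Finset.mul_sum, ← Finset.sum_add_distrib, ← Finset.sum_sub_distrib, Finset.mul_sum]
      exact Finset.sum_congr rfl fun χ _ => by rw [sq]; ring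
    rw [this, o1, o2, o3]; norm_num
  have r0 : ∀ A : IrrCharacter G → ℤ, ∑ χ : IrrCharacter G, (χ : G → ℂ) (f (1, 1, 1)) * A χ = 0 →
      ∑ χ : IrrCharacter G, (χ : G → ℂ) (f (-(1, 1, 1))) * A χ = 0 → ∑ χ, γ χ * A χ = 0 := by
    intro A a1 a2
    have : 3 * (ω - ω ^ 2) * ∑ χ, (γ χ : ℂ) * A χ = 0 := by
      rw [Finset.mul_sum, ← sub_zero (0 : ℂ)]
      nth_rw 1 [← a1]
      rw [← a2, ← Finset.sum_sub_distrib]
      exact Finset.sum_congr rfl fun χ _ => by rw [← mul_assoc, ← hγ]; ring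
    exact_mod_cast (mul_eq_zero.1 this).resolve_left (mul_ne_zero (by norm_num) t0)
  have r3 : (Nat.card G : ℂ) * ∑ χ, (γ χ : ℂ) ^ 2 * iv χ (f (1, 0, 0)) / iv χ (1 : G) = -108 := by
    have : ∑ χ, (γ χ : ℂ) ^ 2 * iv χ (f (1, 0, 0)) / iv χ (1 : G) = -(1 / 27) *
        (∑ χ : IrrCharacter G, (χ : G → ℂ) (f (1, 1, 1)) * (χ : G → ℂ) (f (1, 1, 1)) *
        iv χ (f (1, 0, 0)) / iv χ (1 : G) + ∑ χ : IrrCharacter G,
        (χ : G → ℂ) (f (-(1, 1, 1))) * (χ : G → ℂ) (f (-(1, 1, 1))) *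
        iv χ (f (1, 0, 0)) / iv χ (1 : G) - 2 * ∑ χ : IrrCharacter G,
        (χ : G → ℂ) (f (-(1, 1, 1))) * (χ : G → ℂ) (f (1, 1, 1)) *
        iv χ (f (1, 0, 0)) / iv χ (1 : G)) := by
      rw [Finset.mul_sum, ← Finset.sum_add_distrib, ← Finset.sum_sub_distrib, Finset.mul_sum]
      exact Finset.sum_congr rfl fun χ _ => by rw [sq]; ring
    rw [this]
    push_cast at s1 s2 s3
    linear_combination -(1 / 27) * (s1 + s2 - 2 * s3)
  have := s27_arith (A := fun χ => iv χ (f (1, 0, 0))) (d := fun χ => iv χ (1 : G)) (γ := γ)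
    Nat.card_pos iv_one_pos sum_iv_one (by exact_mod_cast r2) (r0 _ o4 o5) (r0 _ o6 o7)
    (by exact_mod_cast r3)
  exact eq_top_of_index (n := 27) (by simpa using h.dvd_index) (by omega)

end H25
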