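import Mathlib

/-! Normal subgroups and subdirect subgroups of a direct power of a non-abelian simple group. -/

set_option autoImplicit false

namespace H25

theorem center_eq_bot_of_simple_nonab {T : Type*} [Group T] [IsSimpleGroup T]
    (hT : ¬ IsMulCommutative T) : Subgroup.center T = ⊥ := by
  rcases (inferInstance : (Subgroup.center T).Normal).eq_bot_or_eq_top with h | h
  · exact h
  · exfalso
    apply hT
    exact ⟨⟨fun a b => by
      have : b ∈ Subgroup.center T := h ▸ Subgroup.mem_top b
      exact Subgroup.mem_center_iff.1 this a⟩⟩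

theorem exists_not_commute_of_simple_nonab {T : Type*} [Group T] [IsSimpleGroup T]
    (hT : ¬ IsMulCommutative T) {x : T} (hx : x ≠ 1) : ∃ y, y * x ≠ x * y := by
  by_contra h
  push Not at h
  have : x ∈ Subgroup.center T := Subgroup.mem_center_iff.2 h
  rw [center_eq_bot_of_simple_nonab hT] at this
  exact hx this

/-- A normal subgroup of a direct power of a non-abelian simple group contains each factor on
which it projects non-trivially. -/
theorem mulSingle_mem_of_normal {ι T : Type*} [DecidableEq ι] [Group T] [IsSimpleGroup T]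
    (hT : ¬ IsMulCommutative T) (M : Subgroup (ι → T)) [hM : M.Normal] {x : ι → T} (hx : x ∈ M)
    {i : ι} (hi : x i ≠ 1) (t : T) : (Pi.mulSingle i t : ι → T) ∈ M := by
  rcases (hM.comap (MonoidHom.mulSingle (fun _ : ι => T) i)).eq_bot_or_eq_top with h | h
  · exfalso
    obtain ⟨y, hy⟩ := exists_not_commute_of_simple_nonab hT hi
    have h1 : y * x i * y⁻¹ * (x i)⁻¹ ∈ M.comap (MonoidHom.mulSingle (fun _ : ι => T) i) := by
      rw [Subgroup.mem_comap]
      convert M.mul_mem (hM.conj_mem x hx (Pi.mulSingle i y)) (M.inv_mem hx) using 1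
      ext j
      by_cases hj : j = i
      · subst hj; simp
      · simp [Pi.mulSingle_eq_of_ne hj]
    rw [h, Subgroup.mem_bot] at h1
    apply hy
    calc y * x i = y * x i * y⁻¹ * (x i)⁻¹ * (x i * y) := by group
      _ = _ := by rw [h1, one_mul]
  · have : t ∈ M.comap (MonoidHom.mulSingle (fun _ : ι => T) i) := h ▸ Subgroup.mem_top t
    exact this

/-- Chinese remainder theorem for surjections onto a non-abelian simple group with pairwise
distinct kernels. -/
theorem crt_simple {D ι T : Type*} [Group D] [Group T] [IsSimpleGroup T]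
    (hT : ¬ IsMulCommutative T) (f : ι → D →* T) (hf : ∀ i, Function.Surjective (f i))
    (s : Finset ι) (hker : ∀ i ∈ s, ∀ j ∈ s, (f i).ker = (f j).ker → i = j) (t : ι → T) :
    ∃ d : D, ∀ i ∈ s, f i d = t i := by
  classical
  -- a kernel maps onto the other factors
  have hmap : ∀ i j, (f i).ker ≠ (f j).ker → (f j).ker.map (f i) = ⊤ := by
    intro i j hij
    rcases (Subgroup.Normal.map (inferInstance : (f j).ker.Normal) _ (hf i)).eq_bot_or_eq_top
      with h | h
    · exfalso
      rw [Subgroup.map_eq_bot_iff] at h
      rcases (Subgroup.Normal.map (inferInstance : (f i).ker.Normal) _ (hf j)).eq_bot_or_eq_top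
        with h' | h'
      · rw [Subgroup.map_eq_bot_iff] at h'
        exact hij (le_antisymm h' h)
      · obtain ⟨x, hx⟩ := exists_ne (1 : T)
        obtain ⟨d, rfl⟩ := hf i x
        have : f j d ∈ (f i).ker.map (f j) := h' ▸ Subgroup.mem_top _
        obtain ⟨y, hy, hyd⟩ := this
        have h1 : y⁻¹ * d ∈ (f i).ker := h (by rw [MonoidHom.mem_ker, map_mul, map_inv, hyd]; simp)
        exact hx (by simpa [MonoidHom.mem_ker.1 hy] using h1)
    · exact h
  have hperf : commutator T = ⊤ := by
    rcases (inferInstance : (commutator T).Normal).eq_bot_or_eq_top with h | h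
    · exact absurd ((commutator_eq_bot_iff_center_eq_top T).1 h ▸ center_eq_bot_of_simple_nonab hT)
        top_ne_bot
    · exact h
  have key : ∀ (i : ι) (u : Finset ι), (∀ j ∈ u, (f i).ker ≠ (f j).ker) →
      (⨅ j ∈ u, (f j).ker).map (f i) = ⊤ := by
    intro i u hu
    induction u using Finset.induction_on with
    | empty => simpa [← MonoidHom.range_eq_map] using MonoidHom.range_eq_top.2 (hf i)
    | insert a u ha ih =>
      rw [Finset.iInf_insert, eq_top_iff, ← hperf, commutator_def]
      have h1 := ih fun j hj => hu j (Finset.mem_insert_of_mem hj)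
      have h2 := hmap i a (hu a (Finset.mem_insert_self _ _))
      have : (⨅ j ∈ u, (f j).ker).Normal :=
        Subgroup.normal_iInf_normal fun j => Subgroup.normal_iInf_normal fun _ => inferInstance
      conv_lhs => rw [← h2]; arg 2; rw [h2, ← h1]
      rw [← Subgroup.map_commutator]
      exact Subgroup.map_mono (Subgroup.commutator_le_inf _ _)
  induction s using Finset.induction_on with
  | empty => exact ⟨1, by simp⟩
  | insert a s ha ih =>
    obtain ⟨d, hd⟩ := ih fun i hi j hj => hker i (Finset.mem_insert_of_mem hi) j
      (Finset.mem_insert_of_mem hj)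
    have : (f a d)⁻¹ * t a ∈ (⨅ j ∈ s, (f j).ker).map (f a) := by
      rw [key a s fun j hj h => ha (hker a (Finset.mem_insert_self _ _) j
        (Finset.mem_insert_of_mem hj) h ▸ hj)]
      exact Subgroup.mem_top _
    obtain ⟨y, hy, hya⟩ := this
    refine ⟨d * y, fun i hi => ?_⟩
    rcases Finset.mem_insert.1 hi with rfl | hi
    · rw [map_mul, hya]; simp
    · have : y ∈ (f i).ker := by
        simp only [SetLike.mem_coe, Subgroup.mem_iInf] at hy
        exact hy i hi
      rw [map_mul, hd i hi, MonoidHom.mem_ker.1 this, mul_one]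

/-- Two surjections with the same kernel differ by an isomorphism of the targets. -/
theorem exists_mulEquiv_of_ker_eq {D T T' : Type*} [Group D] [Group T] [Group T'] (f : D →* T)
    (g : D →* T') (hf : Function.Surjective f) (hg : Function.Surjective g) (h : f.ker = g.ker) :
    ∃ α : T ≃* T', ∀ d, α (f d) = g d := by
  refine ⟨(QuotientGroup.quotientKerEquivOfSurjective f hf).symm.trans
    ((QuotientGroup.quotientMulEquivOfEq h).trans
      (QuotientGroup.quotientKerEquivOfSurjective g hg)), fun d => ?_⟩
  have : (QuotientGroup.quotientKerEquivOfSurjective f hf).symm (f d) = (d : D ⧸ f.ker) := by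
    rw [MulEquiv.symm_apply_eq]; rfl
  rw [MulEquiv.trans_apply, this]
  rfl

/-- The kernel of a surjection from a direct power of a non-abelian simple group onto the simple
group is the kernel of a projection. -/
theorem exists_ker_eq_ker_eval {ι T : Type*} [Finite ι] [Group T] [IsSimpleGroup T]
    (hT : ¬ IsMulCommutative T) (f : (ι → T) →* T) (hf : Function.Surjective f) :
    ∃ j, ∀ x, f x = 1 ↔ x j = 1 := by
  classical
  have := Fintype.ofFinite ι
  by_contra hcon
  obtain ⟨t, ht⟩ := exists_ne (1 : T)
  have hne : ∀ j, f.ker ≠ (Pi.evalMonoidHom (fun _ : ι => T) j).ker := fun j h =>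
    hcon ⟨j, fun x => SetLike.ext_iff.1 h x⟩
  obtain ⟨d, hd⟩ := crt_simple hT (ι := Option ι)
    (fun o => o.elim f (Pi.evalMonoidHom (fun _ : ι => T)))
    (by
      rintro (_ | j)
      · exact hf
      · exact fun t => ⟨fun _ => t, rfl⟩) Finset.univ
    (by
      rintro (_ | i) - (_ | j) - h
      · rfl
      · exact absurd h (hne j)
      · exact absurd h.symm (hne i)
      · by_contra hij
        have h1 : (Pi.mulSingle j t : ι → T) ∈ (Pi.evalMonoidHom (fun _ : ι => T) i).ker :=
          Pi.mulSingle_eq_of_ne (M := fun _ : ι => T) (fun h => hij (congrArg some h)) t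
        have h2 : (Pi.mulSingle j t : ι → T) ∈ (Pi.evalMonoidHom (fun _ : ι => T) j).ker :=
          (show _ = _ from h) ▸ h1
        exact ht (by simpa using h2))
    (fun o => o.elim t fun _ => 1)
  have h1 : d = 1 := funext fun j => hd (some j) (Finset.mem_univ _)
  have h2 : f d = t := hd none (Finset.mem_univ _)
  rw [h1, map_one] at h2
  exact ht h2.symm

end H25
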