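import Mathlib
import Cfsg.Agent.H25.MinNormal
import Cfsg.Agent.H25.Subdirect
import Cfsg.Agent.H25.Socle
import Cfsg.Agent.H25.Derang
import Cfsg.Agent.H25.Stab
import Cfsg.Agent.H25.Galois

set_option autoImplicit false

namespace H25

open MulAction Subgroup

/-- The simple direct factors of a non-abelian minimal normal subgroup. -/
structure Fac {G : Type*} [Group G] (N : Subgroup G) {m : ℕ} (T : Fin m → Subgroup G) : Prop where
  pos : 0 < m
  le : ∀ i, T i ≤ N
  simple : ∀ i, IsSimpleGroup (T i)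
  nonab : ∀ i, ¬ IsMulCommutative (T i)
  comm : ∀ i j, i ≠ j → T j ≤ centralizer (T i : Set G)
  norm : ∀ i, ∀ n ∈ N, ∀ t ∈ T i, n * t * n⁻¹ ∈ T i
  perm : ∀ (g : G) i, ∃ j, ∀ t, t ∈ T i ↔ g * t * g⁻¹ ∈ T j
  trans : ∀ i j, ∃ g : G, ∀ t ∈ T i, g * t * g⁻¹ ∈ T j
  gen : ∀ K : Subgroup G, (∀ i, T i ≤ K) → N ≤ K
  split : ∀ i, ∀ n ∈ N, ∃ t ∈ T i, t⁻¹ * n ∈ centralizer (T i : Set G)
  card : ∀ i, Nat.card N = Nat.card (T i) ^ m

theorem exists_fac {G : Type*} [Group G] [Finite G] (N : Subgroup G) [hN : N.Normal] (h0 : N ≠ ⊥)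
    (hmin : ∀ M : Subgroup G, M.Normal → M ≤ N → M = ⊥ ∨ M = N) (hna : ¬ IsMulCommutative N) :
    ∃ (m : ℕ) (T : Fin m → Subgroup G), Fac N T := by
  classical
  obtain ⟨S, _, m, e, hS, hm, htr⟩ := exists_pi_simple_decomp_minimal_normal N h0 hmin
  have hSn : ¬ IsMulCommutative S := fun h => hna (comm_of_pi_comm e h)
  let f : Fin m → S →* G := fun i =>
    N.subtype.comp (e.symm.toMonoidHom.comp (MonoidHom.mulSingle (fun _ => S) i))
  have hf : ∀ i s, f i s = (e.symm (Pi.mulSingle i s) : N) := fun _ _ => rfl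
  have finj : ∀ i, Function.Injective (f i) := fun i =>
    Subtype.val_injective.comp (e.symm.injective.comp (Pi.mulSingle_injective (M := fun _ => S) i))
  have hmem : ∀ i (n : N), (n : G) ∈ (f i).range ↔ ∀ l ≠ i, e n l = 1 := by
    intro i n
    constructor
    · rintro ⟨s, hs⟩ l hl
      obtain rfl : e.symm (Pi.mulSingle i s) = n := Subtype.ext hs
      simp [Pi.mulSingle_eq_of_ne hl]
    · intro h
      refine ⟨e n i, ?_⟩
      rw [hf]
      congr 1
      rw [MulEquiv.symm_apply_eq]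
      ext l
      by_cases hl : l = i
      · simp [hl]
      · simp [Pi.mulSingle_eq_of_ne hl, h l hl]
  have hle : ∀ i, (f i).range ≤ N := by rintro i _ ⟨s, rfl⟩; exact (e.symm _).2
  have hiso : ∀ i, S ≃* (f i).range := fun i => MonoidHom.ofInjective (finj i)
  have hnorm : ∀ i, ∀ n ∈ N, ∀ t ∈ (f i).range, n * t * n⁻¹ ∈ (f i).range := by
    intro i n hn t ht
    have := (hmem i (⟨n, hn⟩ * ⟨t, hle i ht⟩ * ⟨n, hn⟩⁻¹)).2 (fun l hl => by
      rw [map_mul, map_mul, map_inv]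
      simp [(hmem i ⟨t, hle i ht⟩).1 ht l hl])
    exact this
  have hcomm : ∀ i (n : N), e n i = 1 → (n : G) ∈ centralizer ((f i).range : Set G) := by
    rintro i n hn _ ⟨s, rfl⟩
    rw [hf, ← Subgroup.coe_mul, ← Subgroup.coe_mul]
    congr 1
    apply e.injective
    ext l
    by_cases hl : l = i
    · simp [hl, hn]
    · simp [Pi.mulSingle_eq_of_ne hl]
  refine ⟨m, fun i => (f i).range, hm, hle, fun i => (hiso i).symm.isSimpleGroup, fun i h => hSn ?_,
    fun i j hij t ht => hcomm i ⟨t, hle j ht⟩ ((hmem j ⟨t, hle j ht⟩).1 ht i hij), hnorm,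
    fun g i => ?_, fun i j => ?_, fun K hK n hn => ?_, fun i n hn => ?_, fun i => ?_⟩
  · exact ⟨⟨fun a b => (hiso i).injective (by rw [map_mul, map_mul]; exact h.1.1 _ _)⟩⟩
  · let M : Subgroup (Fin m → S) := (((f i).range.subgroupOf N).map
      (MulAut.conjNormal g).toMonoidHom).map e.toMonoidHom
    have hn0 : ((f i).range.subgroupOf N).Normal :=
      ⟨fun t ht n => hnorm i n n.2 t ht⟩
    have hMn : M.Normal := (hn0.map _ (MulAut.conjNormal g).surjective).map _ e.surjective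
    obtain ⟨s, hs⟩ := exists_ne (1 : S)
    have hx : e (MulAut.conjNormal g (e.symm (Pi.mulSingle i s))) ∈ M :=
      ⟨_, ⟨_, ⟨s, rfl⟩, rfl⟩, rfl⟩
    obtain ⟨j, hj⟩ : ∃ j, e (MulAut.conjNormal g (e.symm (Pi.mulSingle i s))) j ≠ 1 := by
      by_contra h
      push Not at h
      have : e (MulAut.conjNormal g (e.symm (Pi.mulSingle i s))) = 1 := funext h
      simp only [EmbeddingLike.map_eq_one_iff] at this
      exact hs (by simpa using congrFun this i)
    have h1 : (f j).range ≤ ((f i).range).map (MulAut.conj g).toMonoidHom := by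
      rintro _ ⟨t, rfl⟩
      obtain ⟨_, ⟨n, hn, rfl⟩, h2⟩ := mulSingle_mem_of_normal hSn M hx hj t
      refine ⟨n, hn, ?_⟩
      rw [hf, ← h2]
      simp
    have h2 : (f j).range = ((f i).range).map (MulAut.conj g).toMonoidHom :=
      eq_of_le_of_card_ge h1 (by
        rw [card_map_of_injective (MulAut.conj g).injective, ← Nat.card_congr (hiso i).toEquiv,
          ← Nat.card_congr (hiso j).toEquiv])
    refine ⟨j, fun t => ?_⟩
    rw [h2]
    constructor
    · intro ht; exact ⟨t, ht, rfl⟩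
    · rintro ⟨t', ht', h⟩
      obtain rfl : t' = t := by simpa using h
      exact ht'
  · obtain ⟨h, hh⟩ := htr i j
    refine ⟨h, fun t ht => ?_⟩
    exact (hmem j (MulAut.conjNormal h ⟨t, hle i ht⟩)).2
      (hh _ ((hmem i ⟨t, hle i ht⟩).1 ht))
  · have : (⊤ : Subgroup (Fin m → S)) ≤ (K.subgroupOf N).map e.toMonoidHom := by
      intro x _
      exact Subgroup.pi_mem_of_mulSingle_mem x fun i =>
        ⟨e.symm (Pi.mulSingle i (x i)), hK i ⟨x i, rfl⟩, by simp⟩
    obtain ⟨k, hk, h⟩ := this (mem_top (e ⟨n, hn⟩))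
    obtain rfl : k = ⟨n, hn⟩ := e.injective h
    exact hk
  · refine ⟨f i (e ⟨n, hn⟩ i), ⟨_, rfl⟩, ?_⟩
    exact hcomm i ((e.symm (Pi.mulSingle i (e ⟨n, hn⟩ i)))⁻¹ * ⟨n, hn⟩) (by simp)
  · rw [Nat.card_congr e.toEquiv, Nat.card_fun, ← Nat.card_congr (hiso i).toEquiv]
    simp

section fac
variable {G : Type*} [Group G] {N : Subgroup G} {m : ℕ} {T : Fin m → Subgroup G}

theorem inf_centralizer_eq_bot {S : Subgroup G} [IsSimpleGroup S] (h : ¬ IsMulCommutative S)
    {t : G} (ht : t ∈ S) (hc : t ∈ centralizer (S : Set G)) : t = 1 := by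
  have : (⟨t, ht⟩ : S) ∈ center S := by
    rw [mem_center_iff]
    intro s
    exact Subtype.ext (hc s s.2)
  rw [center_eq_bot_of_simple_nonab h, mem_bot] at this
  exact congrArg Subtype.val this

theorem Fac.eq_one (h : Fac N T) {i j : Fin m} (hij : i ≠ j) {t : G} (hi : t ∈ T i)
    (hj : t ∈ T j) : t = 1 :=
  have := h.simple i
  inf_centralizer_eq_bot (h.nonab i) hi (h.comm i j hij hj)

theorem Fac.ne_bot (h : Fac N T) (i : Fin m) : T i ≠ ⊥ :=
  have := h.simple i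
  (nontrivial_iff_ne_bot _).1 inferInstance

theorem Fac.eq_of_one (h : Fac N T) (hm : m = 1) (i : Fin m) : T i = N := by
  subst hm
  exact le_antisymm (h.le i) (h.gen _ fun j => by rw [Subsingleton.elim j i])

variable {Ω : Type*} [MulAction G Ω]

theorem Fac.trans_stab (h : Fac N T) [IsPretransitive N Ω] (a : Ω) (i j : Fin m) :
    ∃ g : G, g • a = a ∧ ∀ t ∈ T i, g * t * g⁻¹ ∈ T j := by
  obtain ⟨g, hg⟩ := h.trans i j
  obtain ⟨n, hn⟩ := exists_smul_eq N (g • a) a
  refine ⟨n * g, by rw [mul_smul]; exact hn, fun t ht => ?_⟩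
  have := h.norm j n n.2 _ (hg t ht)
  rwa [show n * (g * t * g⁻¹) * (n : G)⁻¹ = n * g * t * (n * g)⁻¹ by group] at this

theorem Fac.not_le_stab (h : Fac N T) [IsPretransitive N Ω] [Nontrivial Ω] (a : Ω) (i : Fin m) :
    ¬ T i ≤ stabilizer G a := by
  intro hi
  have : N ≤ stabilizer G a := by
    refine h.gen _ fun j t ht => ?_
    obtain ⟨g, hg, hgt⟩ := h.trans_stab a j i
    have := hi (hgt t ht)
    rw [mem_stabilizer_iff, mul_smul, mul_smul, inv_smul_eq_iff.2 hg.symm,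
      ← eq_inv_smul_iff, inv_smul_eq_iff.2 hg.symm] at this
    exact this
  obtain ⟨b, hb⟩ := exists_ne a
  obtain ⟨n, hn⟩ := exists_smul_eq N a b
  exact hb (hn.symm.trans (this n.2))

end fac

section perm
variable {G Ω : Type*} [Group G] [MulAction G Ω]

/-- The centralizer of a transitive subgroup is semiregular. -/
theorem eq_one_of_centralizer_trans [FaithfulSMul G Ω] {K : Subgroup G} [IsPretransitive K Ω]
    {t : G} (ht : ∀ k ∈ K, k * t = t * k) {a : Ω} (ha : t • a = a) : t = 1 := by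
  apply eq_of_smul_eq_smul (α := Ω)
  intro x
  obtain ⟨k, rfl⟩ := exists_smul_eq K a x
  show t • (k : G) • a = (1 : G) • (k : G) • a
  rw [one_smul, ← mul_smul, ← ht k k.2, mul_smul, ha]

/-- Jordan's theorem on derangements. -/
theorem exists_derangement [Finite G] [Finite Ω] [Nontrivial Ω] [IsPretransitive G Ω] :
    ∃ g : G, ∀ ω : Ω, g • ω ≠ ω := by
  by_contra h
  push Not at h
  have := (derang_trans (Ω := Ω) (⊥ : Subgroup G) fun g _ => h g).1
  obtain ⟨a, b, hab⟩ := exists_pair_ne Ω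
  obtain ⟨⟨g, hg⟩, h⟩ := exists_smul_eq (⊥ : Subgroup G) a b
  rw [mem_bot] at hg
  subst hg
  exact hab ((one_smul G a).symm.trans h)

/-- If `K` is an intransitive normal subgroup of a transitive group, some coset of `K` consists of
derangements. -/
theorem exists_derangement_coset [Finite G] [Finite Ω] [IsPretransitive G Ω] (K : Subgroup G)
    [hK : K.Normal] (h : ¬ IsPretransitive K Ω) : ∃ g : G, ∀ k ∈ K, ∀ ω : Ω, (g * k) • ω ≠ ω := by
  obtain ⟨a, b, hab⟩ : ∃ a b : Ω, ∀ k ∈ K, k • a ≠ b := by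
    by_contra hn
    push Not at hn
    exact h ⟨fun a b => (hn a b).elim fun k hk => ⟨⟨k, hk.1⟩, hk.2⟩⟩
  have hne : K ⊔ stabilizer G a ≠ ⊤ := by
    intro ht
    obtain ⟨g, hg⟩ := exists_smul_eq G a b
    have : g ∈ K ⊔ stabilizer G a := ht ▸ mem_top g
    obtain ⟨k, hk, s, hs, rfl⟩ := mem_sup_of_normal_left.1 this
    exact hab k hk (by rw [← hg, mul_smul, hs])
  have : Nontrivial (G ⧸ (K ⊔ stabilizer G a)) := QuotientGroup.nontrivial_iff.2 hne
  obtain ⟨g, hg⟩ := exists_derangement (G := G) (Ω := G ⧸ (K ⊔ stabilizer G a))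
  refine ⟨g, fun k hk ω h => ?_⟩
  obtain ⟨u, rfl⟩ := exists_smul_eq G a ω
  apply hg (u : G ⧸ (K ⊔ stabilizer G a))
  rw [MulAction.Quotient.smul_mk, QuotientGroup.eq, smul_eq_mul]
  have h1 : (u⁻¹ * (g * k) * u)⁻¹ ∈ stabilizer G a := inv_mem (by
    rw [mem_stabilizer_iff, mul_smul, mul_smul, h, inv_smul_smul])
  have h2 : u⁻¹ * k * u⁻¹⁻¹ ∈ K := hK.conj_mem k hk _
  have := mul_mem (mem_sup_left (T := stabilizer G a) h2) (mem_sup_right (S := K) h1)
  convert this using 1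
  group

variable [Finite G] [FaithfulSMul G Ω]

/-- Reduction for primitive groups: affine, almost simple, or one of the remaining types. -/
theorem ons_cases [Nontrivial Ω] (hG : IsPreprimitive G Ω) :
    (∃ N : Subgroup G, N.Normal ∧ N ≠ ⊥ ∧ IsMulCommutative N ∧ IsPretransitive N Ω ∧
      (∃ r : ℕ, r.Prime ∧ ∀ n ∈ N, n ^ r = 1) ∧ ∀ a : Ω, stabilizer N a = ⊥) ∨
    (∃ T : Subgroup G, T.Normal ∧ IsSimpleGroup T ∧ ¬ IsMulCommutative T ∧
      centralizer (T : Set G) = ⊥) ∨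
    ∃ (N : Subgroup G) (m : ℕ) (T : Fin m → Subgroup G), N.Normal ∧ IsPretransitive N Ω ∧
      Fac N T ∧ (2 ≤ m ∨ (centralizer (N : Set G) ≠ ⊥ ∧ ∀ i, T i = N)) := by
  have hG0 : (⊤ : Subgroup G) ≠ ⊥ := by
    obtain ⟨x, y, hxy⟩ := exists_pair_ne Ω
    obtain ⟨g, g1⟩ := exists_smul_eq G x y
    intro h
    have : g = 1 := by
      have : g ∈ (⊤ : Subgroup G) := mem_top g
      rwa [h, mem_bot] at this
    rw [this, one_smul] at g1
    exact hxy g1
  obtain ⟨N, hN, h0, -, hmin⟩ := exists_minimal_normal_le (⊤ : Subgroup G) hG0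
  have ht := normal_transitive_of_primitive (α := Ω) N h0
  by_cases hc : IsMulCommutative N
  · refine Or.inl ⟨N, hN, h0, hc, ht, ?_, stabilizer_eq_bot_of_comm fun x y => hc.1.1 x y⟩
    have : Nontrivial N := (nontrivial_iff_ne_bot _).2 h0
    obtain ⟨r, hr, hd⟩ := Nat.exists_prime_and_dvd (Finite.one_lt_card (α := N)).ne'
    have := Fact.mk hr
    obtain ⟨x, hx⟩ := exists_prime_orderOf_dvd_card' r hd
    let M : Subgroup G :=
      { carrier := {n | n ∈ N ∧ n ^ r = 1}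
        one_mem' := ⟨one_mem _, one_pow _⟩
        mul_mem' := fun {a b} ha hb => ⟨mul_mem ha.1 hb.1, by
          have : Commute a b := congrArg Subtype.val (hc.1.1 ⟨a, ha.1⟩ ⟨b, hb.1⟩)
          rw [this.mul_pow, ha.2, hb.2, one_mul]⟩
        inv_mem' := fun {a} ha => ⟨inv_mem ha.1, by rw [inv_pow, ha.2, inv_one]⟩ }
    have hM : M.Normal := ⟨fun n hn g => ⟨hN.conj_mem n hn.1 g, by rw [conj_pow, hn.2]; simp⟩⟩
    refine ⟨r, hr, fun n hn => ?_⟩
    rcases hmin M hM (fun n hn => hn.1) with h | h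
    · exfalso
      have : (x : G) ∈ M := ⟨x.2, by rw [← Subgroup.coe_pow, ← hx, pow_orderOf_eq_one]; rfl⟩
      rw [h, mem_bot, OneMemClass.coe_eq_one] at this
      rw [this, orderOf_one] at hx
      exact hr.one_lt.ne hx
    · exact (h.ge hn).2
  obtain ⟨m, T, hT⟩ := exists_fac N h0 hmin hc
  by_cases hm : 2 ≤ m
  · exact Or.inr (Or.inr ⟨N, m, T, hN, ht, hT, Or.inl hm⟩)
  have hm1 : m = 1 := by have := hT.pos; omega
  by_cases hC : centralizer (N : Set G) = ⊥
  · refine Or.inr (Or.inl ⟨N, hN, ?_, hc, hC⟩)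
    rw [← hT.eq_of_one hm1 ⟨0, hT.pos⟩]
    exact hT.simple _
  · exact Or.inr (Or.inr ⟨N, m, T, hN, ht, hT, Or.inr ⟨hC, hT.eq_of_one hm1⟩⟩)

/-- In the remaining types, a simple factor is semiregular, or there is a coset of the
centralizer of a factor consisting of derangements. -/
theorem Fac.derang [Finite Ω] (hG : IsPreprimitive G Ω) {N : Subgroup G} {m : ℕ}
    {T : Fin m → Subgroup G} [hN : N.Normal] [IsPretransitive N Ω] (h : Fac N T)
    (hm : 2 ≤ m ∨ (centralizer (N : Set G) ≠ ⊥ ∧ ∀ i, T i = N)) :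
    (∃ i, ∀ t ∈ T i, t ≠ 1 → ∀ ω : Ω, t • ω ≠ ω) ∨
      ∃ i j, i ≠ j ∧ ∃ x ∈ T i, ∀ y ∈ T j, ∀ ω : Ω, (x * y) • ω ≠ ω := by
  rcases hm with hm | ⟨hC, hm⟩
  · let i : Fin m := ⟨0, by omega⟩
    let j : Fin m := ⟨1, by omega⟩
    have hij : i ≠ j := by simp [i, j]
    by_cases hK : IsPretransitive (centralizer (T i : Set G)) Ω
    · exact Or.inl ⟨i, fun t ht h1 ω hω => h1 (eq_one_of_centralizer_trans
        (K := centralizer (T i : Set G)) (fun k hk => (hk t ht).symm) hω)⟩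
    right
    have hn : ((centralizer (T i : Set G)).subgroupOf N).Normal := by
      refine ⟨fun k hk n => ?_⟩
      intro t ht
      have := hk _ (h.norm i _ (inv_mem n.2) t ht)
      simp only [Subgroup.coe_subtype, Subgroup.coe_mul, Subgroup.coe_inv, inv_inv] at this ⊢
      calc t * (n * k * (n : G)⁻¹) = n * ((n : G)⁻¹ * t * n * k) * (n : G)⁻¹ := by group
        _ = _ := by rw [this]; group
    obtain ⟨g, hg⟩ := exists_derangement_coset (G := N) (Ω := Ω)
      ((centralizer (T i : Set G)).subgroupOf N) (fun h' => hK ⟨fun a b => by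
        obtain ⟨k, hk⟩ := exists_smul_eq ((centralizer (T i : Set G)).subgroupOf N) a b
        exact ⟨⟨k, k.2⟩, hk⟩⟩)
    obtain ⟨x, hx, hc⟩ := h.split i g g.2
    refine ⟨i, j, hij, x, hx, fun y hy ω => ?_⟩
    have := hg ⟨(x⁻¹ * g)⁻¹ * y, mul_mem (inv_mem (mul_mem (inv_mem (h.le i hx)) g.2))
      (h.le j hy)⟩ (mul_mem (inv_mem hc) (h.comm i j hij hy)) ω
    convert this using 1
    show _ = (g * ((x⁻¹ * g)⁻¹ * y)) • ω
    congr 1
    group
  · have := normal_transitive_of_primitive (α := Ω) _ hC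
    refine Or.inl ⟨⟨0, h.pos⟩, fun t ht h1 ω hω => h1 (eq_one_of_centralizer_trans
      (K := centralizer (N : Set G)) (fun k hk => (hk t (h.le _ ht)).symm) hω)⟩

end perm

end H25
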