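import Cfsg.Agent.H17.FT
import Cfsg.Agent.H25.MinNormal
import Cfsg.Agent.H1.Solvable

/-! Bases of size two for odd order linear groups, I: set-up and regular subsets. -/

set_option autoImplicit false

namespace H25.B2

open Subgroup MulAction
open scoped Pointwise IsMulCommutative

section Defs
variable (G V : Type*) [Group G] [AddCommGroup V] [DistribMulAction G V]

def CR : Prop := ∀ U : AddSubgroup V, (∀ a : G, ∀ v ∈ U, a • v ∈ U) →
  ∃ W : AddSubgroup V, (∀ a : G, ∀ w ∈ W, a • w ∈ W) ∧ U ⊓ W = ⊥ ∧ U ⊔ W = ⊤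

def Bs : Prop := ∃ v w : V, ∀ a : G, a • v = v → a • w = w → ∀ u : V, a • u = u

instance faAct : DistribMulAction (toPermHom G V).range V :=
  { (inferInstance : MulAction (toPermHom G V).range V) with
    smul_zero := by rintro ⟨_, g, rfl⟩; exact smul_zero g
    smul_add := by rintro ⟨_, g, rfl⟩; exact smul_add g }

end Defs

def P (n : ℕ) : Prop := ∀ (G V : Type) [Group G] [Finite G] [AddCommGroup V] [Finite V]
  [DistribMulAction G V], Odd (Nat.card G) → Nat.card V < n → CR G V → Bs G V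

variable {G : Type*} [Group G]

theorem odd_range {H : Type*} [Group H] (hG : Odd (Nat.card G)) (f : G →* H) :
    Odd (Nat.card f.range) := hG.of_dvd_nat (card_range_dvd f)

theorem odd_sub (hG : Odd (Nat.card G)) (H : Subgroup G) : Odd (Nat.card H) :=
  hG.of_dvd_nat (card_subgroup_dvd_card H)

theorem odd_fix (hG : Odd (Nat.card G)) {X : Type*} [MulAction G X] {g : G} {x : X}
    (h : g • g • x = x) : g • x = x := by
  obtain ⟨k, hk⟩ := hG
  have h1 : g * g ∈ stabilizer G x := by rwa [mem_stabilizer_iff, mul_smul]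
  have h2 : g ^ (2 * k + 1) = 1 := hk ▸ pow_card_eq_one'
  have h3 : g = ((g * g) ^ k)⁻¹ := by
    rw [eq_inv_iff_mul_eq_one, ← sq, ← pow_mul, ← pow_succ', h2]
  exact mem_stabilizer_iff.1 (h3 ▸ inv_mem (pow_mem h1 k))

section Lin
variable {V : Type*} [AddCommGroup V] [DistribMulAction G V]

theorem CR.fa (h : CR G V) : CR (toPermHom G V).range V := fun U hU => by
  obtain ⟨W, h1, h2⟩ := h U fun a => hU ⟨_, a, rfl⟩
  exact ⟨W, by rintro ⟨_, g, rfl⟩; exact h1 g, h2⟩

theorem Bs.of_fa (h : Bs (toPermHom G V).range V) : Bs G V := by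
  obtain ⟨v, w, h⟩ := h
  exact ⟨v, w, fun a => h ⟨_, a, rfl⟩⟩

theorem CR.of_irr (h : ∀ U : AddSubgroup V, (∀ a : G, ∀ v ∈ U, a • v ∈ U) → U = ⊥ ∨ U = ⊤) :
    CR G V := fun U hU => by
  rcases h U hU with rfl | rfl
  · exact ⟨⊤, fun _ _ _ => trivial, by simp, by simp⟩
  · exact ⟨⊥, fun a w hw => by rw [AddSubgroup.mem_bot.1 hw, smul_zero]; exact zero_mem _,
      by simp, by simp⟩

theorem transfer {G' V' : Type*} [Group G'] [AddCommGroup V'] [DistribMulAction G' V']
    (f : G ≃ G') (e : V ≃+ V') (h : ∀ g v, e (g • v) = f g • e v) :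
    (CR G V → CR G' V') ∧ (Bs G' V' → Bs G V) := by
  refine ⟨fun hc U hU => ?_, fun ⟨v, w, hb⟩ => ⟨e.symm v, e.symm w, fun a h1 h2 u => ?_⟩⟩
  · obtain ⟨W, h1, h2, h3⟩ := hc (U.comap e.toAddMonoidHom) fun a v hv => by
      simpa [h] using hU (f a) _ hv
    refine ⟨W.map e.toAddMonoidHom, ?_, ?_, ?_⟩
    · rintro a _ ⟨w, hw, rfl⟩
      exact ⟨f.symm a • w, h1 _ _ hw, by simp [h]⟩
    · rw [eq_bot_iff]
      rintro _ ⟨hx, w, hw, rfl⟩
      have : w ∈ U.comap e.toAddMonoidHom ⊓ W := ⟨hx, hw⟩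
      rw [h2, AddSubgroup.mem_bot] at this
      simp [this]
    · rw [← AddSubgroup.map_comap_eq_self_of_surjective (f := e.toAddMonoidHom) e.surjective U,
        ← AddSubgroup.map_sup, h3]
      exact AddSubgroup.map_top_of_surjective _ e.surjective
  · apply e.injective
    rw [h]
    refine hb _ ?_ ?_ _
    · simpa [h] using congrArg e h1
    · simpa [h] using congrArg e h2

variable [Finite G] [Finite V] {n : ℕ}

theorem P.univ (hP : P n) (hG : Odd (Nat.card G)) (hn : Nat.card V < n) (h : CR G V) :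
    Bs G V := by
  let f : Shrink.{0} G ≃* G := Shrink.mulEquiv
  let e : Shrink.{0} V ≃+ V := Shrink.addEquiv
  letI : DistribMulAction (Shrink.{0} G) (Shrink.{0} V) :=
    { smul := fun g v => e.symm (f g • e v)
      one_smul := fun v => by show e.symm (f 1 • e v) = v; simp
      mul_smul := fun a b v => by
        show e.symm (f (a * b) • e v) = e.symm (f a • e (e.symm (f b • e v)))
        simp [mul_smul]
      smul_zero := fun a => by show e.symm (f a • e 0) = 0; simp
      smul_add := fun a u v => by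
        show e.symm (f a • e (u + v)) = e.symm (f a • e u) + e.symm (f a • e v)
        simp }
  have key := transfer (G := G) (V := V) f.symm.toEquiv e.symm fun g v => by
    show _ = e.symm (f (f.symm g) • e (e.symm v))
    simp
  exact key.2 (hP _ _ (by rwa [Nat.card_congr f.toEquiv]) (by rwa [Nat.card_congr e.toEquiv])
    (key.1 h))

/-- relative form -/
theorem P.rel (hP : P n) (hG : Odd (Nat.card G)) (H : Subgroup G) (U : AddSubgroup V)
    (hU : ∀ h ∈ H, ∀ u ∈ U, h • u ∈ U) (hn : Nat.card U < n)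
    (hcr : ∀ X ≤ U, (∀ h ∈ H, ∀ u ∈ X, h • u ∈ X) →
      ∃ W ≤ U, (∀ h ∈ H, ∀ u ∈ W, h • u ∈ W) ∧ X ⊓ W = ⊥ ∧ X ⊔ W = U) :
    ∃ v ∈ U, ∃ w ∈ U, ∀ h ∈ H, h • v = v → h • w = w → ∀ u ∈ U, h • u = u := by
  letI : DistribMulAction H U :=
    { smul := fun h u => ⟨h.1 • u.1, hU _ h.2 _ u.2⟩
      one_smul := fun u => Subtype.ext (one_smul G u.1)
      mul_smul := fun a b u => Subtype.ext (mul_smul a.1 b.1 u.1)
      smul_zero := fun a => Subtype.ext (smul_zero a.1)
      smul_add := fun a u v => Subtype.ext (smul_add a.1 u.1 v.1) }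
  obtain ⟨v, w, hb⟩ := hP.univ (G := H) (V := U) (odd_sub hG H) hn fun X hX => by
    obtain ⟨W, h0, h1, h2, h3⟩ := hcr (X.map U.subtype) (AddSubgroup.map_subtype_le X) (by
      rintro h hh _ ⟨x, hx, rfl⟩
      exact ⟨_, hX ⟨h, hh⟩ x hx, rfl⟩)
    refine ⟨W.addSubgroupOf U, fun a w hw => h1 _ a.2 _ hw, ?_, ?_⟩
    · apply AddSubgroup.map_injective U.subtype_injective
      rw [AddSubgroup.map_inf _ _ _ U.subtype_injective, AddSubgroup.addSubgroupOf_map_subtype,
        inf_eq_left.2 h0, h2, AddSubgroup.map_bot]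
    · apply AddSubgroup.map_injective U.subtype_injective
      rw [AddSubgroup.map_sup, AddSubgroup.addSubgroupOf_map_subtype, inf_eq_left.2 h0, h3,
        ← AddMonoidHom.range_eq_map, AddSubgroup.range_subtype]
  exact ⟨v, v.2, w, w.2, fun h hh h1 h2 u hu =>
    congrArg Subtype.val (hb ⟨h, hh⟩ (Subtype.ext h1) (Subtype.ext h2) ⟨u, hu⟩)⟩

end Lin

/-- conjugation action on an abelian normal subgroup -/
abbrev conjAct (N : Subgroup G) [N.Normal] : DistribMulAction G (Additive N) where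
  smul g v := Additive.ofMul (MulAut.conjNormal g v.toMul)
  one_smul v := by
    show Additive.ofMul (MulAut.conjNormal (1 : G) v.toMul) = v; simp
  mul_smul a b v := by
    show Additive.ofMul (MulAut.conjNormal (a * b) v.toMul) =
      Additive.ofMul (MulAut.conjNormal a (MulAut.conjNormal b v.toMul)); simp
  smul_zero a := by
    show Additive.ofMul (MulAut.conjNormal a (1 : N)) = 0; simp
  smul_add a u v := by
    show Additive.ofMul (MulAut.conjNormal a (u.toMul * v.toMul)) =
      Additive.ofMul (MulAut.conjNormal a u.toMul) + Additive.ofMul (MulAut.conjNormal a v.toMul)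
    simp

theorem conj_fix_iff (N : Subgroup G) [N.Normal] (g : G) (v : Additive N) :
    (letI := conjAct N; g • v = v) ↔ g * v.toMul * g⁻¹ = v.toMul :=
  ⟨fun h => congrArg (fun x : Additive N => (x.toMul : G)) h, fun h => Subtype.ext h⟩

theorem conj_cr (N : Subgroup G) [N.Normal] [IsMulCommutative N]
    (h : ∀ U ≤ N, U.Normal → ∃ W ≤ N, W.Normal ∧ U ⊓ W = ⊥ ∧ U ⊔ W = N) :
    letI := conjAct N; CR G (Additive N) := by
  letI := conjAct N
  intro X hX
  obtain ⟨W, h0, h1, h2, h3⟩ := h ((AddSubgroup.toSubgroup' X).map N.subtype) (map_subtype_le _) ⟨by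
    rintro _ ⟨x, hx, rfl⟩ g
    exact ⟨_, hX g (Additive.ofMul x) hx, rfl⟩⟩
  refine ⟨Subgroup.toAddSubgroup (W.subgroupOf N), fun a w hw => h1.conj_mem _ hw a, ?_, ?_⟩
  · apply AddSubgroup.toSubgroup'.injective
    apply map_injective N.subtype_injective
    rw [OrderIso.map_inf, Subgroup.map_inf _ _ _ N.subtype_injective, OrderIso.map_bot,
      Subgroup.map_bot, ← h2]
    congr 1
    exact (subgroupOf_map_subtype W N).trans (inf_eq_left.2 h0)
  · apply AddSubgroup.toSubgroup'.injective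
    apply map_injective N.subtype_injective
    rw [OrderIso.map_sup, Subgroup.map_sup, OrderIso.map_top, ← MonoidHom.range_eq_map,
      range_subtype]
    refine Eq.trans ?_ h3
    congr 1
    exact (subgroupOf_map_subtype W N).trans (inf_eq_left.2 h0)

/-- sections mixing two inequivalent local data -/
theorem sec {I S : Type*} [MulAction G I] [MulAction G S] (i0 : I)
    (htr : ∀ i, ∃ g : G, g • i0 = i) (a b : S) (hab : ∀ g : G, g • i0 = i0 → g • a ≠ b) (D : Set I)
    (hD : ∀ g : G, (∀ i, g • i ∈ D ↔ i ∈ D) → ∀ i : I, g • i = i) :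
    ∃ s : I → S, (∀ i, ∃ g : G, g • i0 = i ∧ (s i = g • a ∨ s i = g • b)) ∧
      ∀ h : G, (∀ i, h • s i = s (h • i)) → ∀ i : I, h • i = i := by
  classical
  choose t ht using htr
  have key : ∀ (h : G) (i : I), h • t i • a ≠ t (h • i) • b := fun h i e =>
    hab ((t (h • i))⁻¹ * h * t i) (by rw [mul_smul, mul_smul, ht, inv_smul_eq_iff, ht])
      (by rw [mul_smul, mul_smul, e, inv_smul_smul])
  refine ⟨fun i => if i ∈ D then t i • a else t i • b, fun i => ⟨t i, ht i, ?_⟩,
    fun h hh => hD h fun i => ⟨fun h1 => by_contra fun h2 => ?_, fun h1 => by_contra fun h2 => ?_⟩⟩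
  · by_cases h : i ∈ D <;> simp [h]
  · have := hh i
    simp only [h1, h2, if_true, if_false] at this
    refine key h⁻¹ (h • i) ?_
    rw [← this, inv_smul_smul, inv_smul_smul]
  · have := hh i
    simp only [h1, h2, if_true, if_false] at this
    exact key h i this

theorem three (hG : Odd (Nat.card G)) {X : Type*} [MulAction G X] {g : G} {a b c : X}
    (h : ∀ x, g • x ∈ ({a, b, c} : Set X) ↔ x ∈ ({a, b, c} : Set X)) :
    (g • a = a ∧ g • b = b ∧ g • c = c) ∨ (g • a = b ∧ g • c = a) ∨ (g⁻¹ • a = b ∧ g⁻¹ • c = a) := by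
  have ha := (h a).2 (by simp)
  have hb := (h b).2 (by simp)
  have hc := (h c).2 (by simp)
  have inj : ∀ x y : X, g • x = g • y → x = y := fun x y => MulAction.injective g |>.eq_iff.1
  have o : ∀ x y : X, g • x = y → g • y = x → g • x = x := fun x y h1 h2 =>
    odd_fix hG (by rw [h1, h2])
  simp only [Set.mem_insert_iff, Set.mem_singleton_iff, inv_smul_eq_iff] at ha hb hc ⊢
  grind

end H25.B2
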