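import Cfsg.Agent.H25.B2a

/-! Bases of size two for odd order linear groups, II: regular subsets, imprimitive modules. -/

set_option autoImplicit false

namespace H25.B2

open Subgroup MulAction
open scoped Pointwise IsMulCommutative commutatorElement

def RS (G X : Type*) [Group G] [MulAction G X] : Prop :=
  ∃ D : Set X, ∀ g : G, (∀ x, g • x ∈ D ↔ x ∈ D) → ∀ x : X, g • x = x

def RSlt (k : ℕ) : Prop := ∀ (G X : Type) [Group G] [Finite G] [MulAction G X] [Finite X],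
  Odd (Nat.card G) → Nat.card X < k → RS G X

variable {G X : Type} [Group G] [Finite G] [MulAction G X] [Finite X] {n k : ℕ}

theorem RSlt.rel (h : RSlt k) (hG : Odd (Nat.card G)) (H : Subgroup G) (Y : Set X)
    (hY : ∀ h ∈ H, ∀ y ∈ Y, h • y ∈ Y) (hk : Y.ncard < k) :
    ∃ D ⊆ Y, ∀ h ∈ H, (∀ y ∈ Y, h • y ∈ D ↔ y ∈ D) → ∀ y ∈ Y, h • y = y := by
  let S : SubMulAction H X := ⟨Y, fun h y hy => hY h h.2 y hy⟩
  obtain ⟨D, hD⟩ := h H S (odd_sub hG H) hk
  refine ⟨Subtype.val '' D, by rintro _ ⟨y, -, rfl⟩; exact y.2, fun g hg h1 y hy =>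
    congrArg Subtype.val (hD ⟨g, hg⟩ (fun y => ?_) ⟨y, hy⟩)⟩
  have := h1 y y.2
  rwa [show g • (y : X) = (((⟨g, hg⟩ : H) • y : S) : X) from rfl,
    Subtype.val_injective.mem_set_image, Subtype.val_injective.mem_set_image] at this

theorem rs_affine [FaithfulSMul G X] (hP : P n) (hG : Odd (Nat.card G)) (hn : Nat.card X < n)
    (N : Subgroup G) [N.Normal] [IsMulCommutative N]
    (hmin : ∀ L : Subgroup G, L.Normal → L ≤ N → L = ⊥ ∨ L = N) (x0 : X)
    (htr : ∀ x, ∃ u ∈ N, u • x0 = x) : RS G X := by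
  have reg : ∀ u ∈ N, u • x0 = x0 → u = 1 := fun u hu h =>
    eq_of_smul_eq_smul (α := X) fun x => by
      obtain ⟨m, hm, rfl⟩ := htr x
      rw [one_smul, ← mul_smul, setLike_mul_comm hu hm, mul_smul, h]
  have reg' : ∀ u ∈ N, ∀ u' ∈ N, u • x0 = u' • x0 → u = u' := fun u hu u' hu' h => by
    have := reg (u'⁻¹ * u) (mul_mem (inv_mem hu') hu) (by rw [mul_smul, h, inv_smul_smul])
    rw [inv_mul_eq_one] at this
    exact this.symm
  have hc : ∀ g u : G, g • u • x0 = (g * u * g⁻¹) • g • x0 := fun g u => by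
    simp [mul_smul]
  letI := conjAct N
  obtain ⟨v', w', hb⟩ := hP.univ (G := G) (V := Additive N) hG
    (lt_of_le_of_lt (Nat.card_le_card_of_injective (fun u : N => u.1 • x0)
      fun u u' h => Subtype.ext (reg' _ u.2 _ u'.2 h)) hn)
    (conj_cr N fun U hU hU' => by
      rcases hmin U hU' hU with rfl | rfl
      · exact ⟨N, le_rfl, inferInstance, by simp, by simp⟩
      · exact ⟨⊥, bot_le, inferInstance, by simp, by simp⟩)
  obtain ⟨⟨v, hv⟩, rfl⟩ := Additive.ofMul.surjective v'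
  obtain ⟨⟨w, hw⟩, rfl⟩ := Additive.ofMul.surjective w'
  have nm : ∀ g, ∀ u ∈ N, g * u * g⁻¹ ∈ N := fun g u hu => Normal.conj_mem inferInstance u hu g
  have fx : ∀ g, ∀ u ∈ N, g • x0 = x0 → g • u • x0 = u • x0 → g * u * g⁻¹ = u :=
    fun g u hu h1 h2 => reg' _ (nm g u hu) _ hu (by rwa [hc, h1] at h2)
  have base : ∀ y, y = w ∨ y = w⁻¹ → ∀ g : G, g • x0 = x0 → g • v • x0 = v • x0 →
      g • y • x0 = y • x0 → ∀ x : X, g • x = x := fun y hy g h1 h2 h3 x => by
    obtain ⟨m, hm, rfl⟩ := htr x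
    have h4 : g * w * g⁻¹ = w := by
      rcases hy with rfl | rfl
      · exact fx g _ hw h1 h3
      · have := fx g _ (inv_mem hw) h1 h3
        rw [← inv_inj, ← this]; group
    have := (conj_fix_iff N g _).1 (hb g ((conj_fix_iff N g _).2 (fx g v hv h1 h2))
      ((conj_fix_iff N g _).2 h4) (Additive.ofMul ⟨m, hm⟩))
    rw [hc, h1]
    exact congrArg (· • x0) this
  by_contra hne
  have key : ∀ y, y = w ∨ y = w⁻¹ → ∃ h : G, (¬ ∀ x : X, h • x = x) ∧ h • x0 = v • x0 ∧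
      h * y * h⁻¹ * v = 1 := fun y hy => by
    have hyN : y ∈ N := by rcases hy with rfl | rfl; exacts [hw, inv_mem hw]
    obtain ⟨g, h1, h2⟩ : ∃ g : G, (∀ x, g • x ∈ ({x0, v • x0, y • x0} : Set X) ↔
        x ∈ ({x0, v • x0, y • x0} : Set X)) ∧ ¬ ∀ x : X, g • x = x := by
      by_contra h
      push Not at h
      exact hne ⟨_, h⟩
    have fin : ∀ h : G, h • x0 = v • x0 → h • y • x0 = x0 → h * y * h⁻¹ * v = 1 :=
      fun h e1 e2 => reg _ (mul_mem (nm h y hyN) hv) (by rwa [hc, e1, ← mul_smul] at e2)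
    rcases three hG h1 with h | h | h
    · exact (h2 (base y hy g h.1 h.2.1 h.2.2)).elim
    · exact ⟨g, h2, h.1, fin _ h.1 h.2⟩
    · exact ⟨g⁻¹, fun e => h2 fun x => (inv_smul_eq_iff.1 (e x)).symm, h.1, fin _ h.1 h.2⟩
  obtain ⟨h, h1, h2, h3⟩ := key w (Or.inl rfl)
  obtain ⟨h', -, -, h4⟩ := key w⁻¹ (Or.inr rfl)
  have e1 : h * w * h⁻¹ = v⁻¹ := eq_inv_of_mul_eq_one_left h3
  have e2 : v = h' * w * h'⁻¹ := by rw [eq_inv_of_mul_eq_one_right h4]; group
  have e3 : (h * h'⁻¹) * v * (h * h'⁻¹)⁻¹ = v⁻¹ := by rw [← e1, e2]; group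
  have e4 : ConjAct.toConjAct (h * h'⁻¹) • v = v := odd_fix (G := ConjAct G) hG (by
    rw [ConjAct.toConjAct_smul, ConjAct.toConjAct_smul, e3, ← conj_inv, e3, inv_inv])
  rw [ConjAct.toConjAct_smul, e3] at e4
  have e5 : v • (1 : G) = 1 := odd_fix hG (by
    rw [smul_eq_mul, smul_eq_mul, mul_one]; nth_rewrite 1 [← e4]; simp)
  rw [smul_eq_mul, mul_one] at e5
  subst e5
  have e6 : w = 1 := by simpa using h3
  subst e6
  simp only [one_smul] at h2
  exact h1 (base 1 (Or.inl rfl) h h2 (by simpa using h2) (by simpa using h2))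

theorem rs_block (ih : RSlt (Nat.card X)) (hG : Odd (Nat.card G)) [IsPretransitive G X]
    {B : Set X} (hB : IsBlock G B) (h1 : B ≠ Set.univ) (h2 : B.Nontrivial) : RS G X := by
  obtain ⟨x0, hx0⟩ := h2.nonempty
  obtain ⟨D0, hD0, hD⟩ := ih.rel hG (stabilizer G B) B
    (fun h hh y hy => (mem_stabilizer_iff.1 hh) ▸ Set.smul_mem_smul_set hy)
    (Set.ncard_lt_card h1)
  obtain ⟨E, hE⟩ := ih G (orbit G B) hG (by
    have := hB.ncard_block_mul_ncard_orbit_eq h2.nonempty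
    have h3 : 1 < B.ncard := (Set.one_lt_ncard_iff_nontrivial).2 h2
    have : Nonempty X := ⟨x0⟩
    have h4 : 0 < Nat.card X := Nat.card_pos
    rw [Nat.card_coe_set_eq]
    nlinarith)
  obtain ⟨s, hs, hs'⟩ := sec (G := G) (⟨B, mem_orbit_self B⟩ : orbit G B)
    (fun ⟨_, g, rfl⟩ => ⟨g, rfl⟩) D0 (B \ D0) (fun g hg e => by
      have hg' : g • B = B := congrArg Subtype.val hg
      have := odd_fix hG (show g • g • D0 = D0 by
        rw [e, Set.smul_set_sdiff, hg', e, Set.sdiff_sdiff_cancel_left hD0])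
      rw [e] at this
      by_cases h : x0 ∈ D0
      · exact (this.ge h).2 h
      · exact h (this.le ⟨hx0, h⟩)) E hE
  have sub : ∀ i, s i ⊆ i.1 := fun i => by
    obtain ⟨g, rfl, h | h⟩ := hs i <;> rw [h]
    · exact Set.smul_set_mono hD0
    · exact Set.smul_set_mono Set.sdiff_subset
  have loc : ∀ (i : orbit G B) (x : X), x ∈ s i ↔ x ∈ i.1 ∧ x ∈ ⋃ j, s j := fun i x =>
    ⟨fun h => ⟨sub i h, Set.mem_iUnion.2 ⟨i, h⟩⟩, fun ⟨h, h'⟩ => by
      obtain ⟨j, hj⟩ := Set.mem_iUnion.1 h'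
      obtain ⟨_, a, rfl⟩ := i
      obtain ⟨_, b, rfl⟩ := j
      rcases hB.smul_eq_smul_or_disjoint a b with e | e
      · convert hj using 2
        exact Subtype.ext e
      · exact (Set.disjoint_left.1 e h (sub _ hj)).elim⟩
  refine ⟨⋃ j, s j, fun h hh x => ?_⟩
  have h3 : ∀ i, h • s i = s (h • i) := fun i => by
    ext y
    obtain ⟨y, rfl⟩ := MulAction.surjective h y
    rw [Set.smul_mem_smul_set_iff, loc, loc, hh]
    exact and_congr_left' Set.smul_mem_smul_set_iff.symm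
  obtain ⟨g, rfl⟩ := exists_smul_eq G x0 x
  have h4 := hs' h h3 ⟨g • B, g, rfl⟩
  have h5 := h3 ⟨g • B, g, rfl⟩
  rw [h4] at h5
  obtain ⟨t, ht, h6⟩ := hs ⟨g • B, g, rfl⟩
  have ht' : t • B = g • B := congrArg Subtype.val ht
  have h7 : h • g • B = g • B := congrArg Subtype.val h4
  have h8 : (t⁻¹ * h * t) • B = B := by rw [mul_smul, mul_smul, ht', h7, ← ht', inv_smul_smul]
  obtain ⟨y, hy, e⟩ : g • x0 ∈ t • B := ht' ▸ Set.smul_mem_smul_set hx0
  have := hD _ h8 (fun z hz => ?_) y hy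
  · rw [mul_smul, mul_smul, inv_smul_eq_iff] at this
    rw [← e]; exact this
  have hz' : (t⁻¹ * h * t) • z ∈ B := h8 ▸ Set.smul_mem_smul_set hz
  rcases h6 with h6 | h6 <;> rw [h6] at h5
  · have : (t⁻¹ * h * t) • D0 = D0 := by rw [mul_smul, mul_smul, h5, inv_smul_smul]
    nth_rewrite 1 [← this]
    exact Set.smul_mem_smul_set_iff
  · have : (t⁻¹ * h * t) • (B \ D0) = B \ D0 := by rw [mul_smul, mul_smul, h5, inv_smul_smul]
    have h9 : (t⁻¹ * h * t) • z ∈ B \ D0 ↔ z ∈ B \ D0 := by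
      nth_rewrite 1 [← this]
      exact Set.smul_mem_smul_set_iff
    simp only [Set.mem_sdiff, hz, hz', true_and] at h9
    exact not_iff_not.1 h9

theorem rs_step [FaithfulSMul G X] (hP : P n) (ih : RSlt (Nat.card X)) (hG : Odd (Nat.card G))
    (hn : Nat.card X < n) : RS G X := by
  by_cases h0 : (⊤ : Subgroup G) = ⊥
  · exact ⟨∅, fun g _ x => by rw [(mem_bot.1 (h0 ▸ mem_top g) : g = 1), one_smul]⟩
  obtain ⟨N, hN, hN0, -, hmin⟩ := exists_minimal_normal_le (⊤ : Subgroup G) h0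
  have := H17.odd_solvable hG
  have hc := H1.commutator_self_lt (N := N) inferInstance hN0
  have hc' : ⁅N, N⁆ = ⊥ := (hmin _ inferInstance hc.le).resolve_right hc.ne
  have : IsMulCommutative N := ⟨⟨fun a b => Subtype.ext (commutatorElement_eq_one_iff_mul_comm.1
    (mem_bot.1 (hc' ▸ commutator_mem_commutator a.2 b.2)))⟩⟩
  obtain ⟨u, hu, x0, hx⟩ : ∃ u ∈ N, ∃ x : X, u • x ≠ x := by
    by_contra h
    push Not at h
    exact hN0 (eq_bot_iff_forall _ |>.2 fun u hu =>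
      eq_of_smul_eq_smul (α := X) fun x => by rw [h u hu, one_smul])
  by_cases ht : orbit G x0 = Set.univ
  · have : IsPretransitive G X := isPretransitive_iff_orbit_eq_univ x0 |>.2 ht
    by_cases hb : orbit N x0 = Set.univ
    · refine rs_affine hP hG hn N hmin x0 fun x => ?_
      obtain ⟨m, hm⟩ : x ∈ orbit N x0 := hb ▸ trivial
      exact ⟨m, m.2, hm⟩
    · exact rs_block ih hG (IsBlock.orbit_of_normal x0) hb
        ⟨_, ⟨⟨u, hu⟩, rfl⟩, _, mem_orbit_self x0, hx⟩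
  have hO : ∀ (g : G) (x : X), g • x ∈ orbit G x0 ↔ x ∈ orbit G x0 := fun g x =>
    ⟨fun ⟨a, ha⟩ => ⟨g⁻¹ * a, by simp only [mul_smul]; exact inv_smul_eq_iff.2 ha⟩,
      fun ⟨a, ha⟩ => ⟨g * a, by simp only [mul_smul]; exact congrArg _ ha⟩⟩
  obtain ⟨D1, h1, h1'⟩ := ih.rel hG ⊤ (orbit G x0) (fun h _ y hy => (hO h y).2 hy)
    (Set.ncard_lt_card ht)
  obtain ⟨D2, h2, h2'⟩ := ih.rel hG ⊤ (orbit G x0)ᶜ (fun h _ y hy e => hy ((hO h y).1 e))
    (Set.ncard_lt_card fun e => (e.ge (Set.mem_univ x0)) (mem_orbit_self x0))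
  refine ⟨D1 ∪ D2, fun g hg x => ?_⟩
  by_cases h : x ∈ orbit G x0
  · refine h1' g trivial (fun y hy => ?_) x h
    have := hg y
    rwa [Set.mem_union, Set.mem_union, or_iff_left (fun e => h2 e hy),
      or_iff_left (fun e => h2 e ((hO g y).2 hy))] at this
  · refine h2' g trivial (fun y hy => ?_) x h
    have := hg y
    rwa [Set.mem_union, Set.mem_union, or_iff_right (fun e => hy (h1 e)),
      or_iff_right (fun e => hy ((hO g y).1 (h1 e)))] at this

/-- odd order permutation groups have regular subsets -/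
theorem gluck (hP : P n) : ∀ k ≤ n, RSlt k := by
  intro k
  induction k with
  | zero => intro _ G X _ _ _ _ _ h; omega
  | succ k ih =>
    intro hk G X _ _ _ _ hG h
    by_cases h' : Nat.card X < k
    · exact ih (by omega) G X hG h'
    obtain ⟨D, hD⟩ := rs_step (G := (toPermHom G X).range) (X := X) hP
      ((show k = Nat.card X by omega) ▸ ih (by omega)) (odd_range hG _) (by omega)
    exact ⟨D, fun g => hD ⟨_, g, rfl⟩⟩

end H25.B2
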