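import Cfsg.Agent.H25.Hup1

/-! The field generated by an abelian normal subgroup of a transitive linear group. -/

set_option autoImplicit false

namespace H25

open Module Subgroup
open scoped IsMulCommutative

universe u

variable {F : Type*} [Field F] {V : Type u} [AddCommGroup V] [Module F V] {G : Type*} [Group G]
  [Finite V] [Nontrivial V]

theorem exists_scalar_field (R : Subalgebra F (End F V))
    (h : ∀ T ∈ R, T ≠ 0 → Function.Injective T) :
    ∃ (K : Type u) (_ : Field K) (_ : Algebra F K) (_ : Module K V) (_ : IsScalarTower F K V),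
      ∀ T, T ∈ R ↔ ∃ k : K, ∀ v, T v = k • v := by
  have := comm_of_inj R h
  have : NoZeroDivisors R := ⟨fun {a b} e => or_iff_not_imp_left.2 fun h1 => Subtype.ext
    (LinearMap.ext fun v => h a a.2 (fun e => h1 (Subtype.ext e))
      ((DFunLike.congr_fun (congrArg Subtype.val e) v).trans (map_zero _).symm))⟩
  have := NoZeroDivisors.to_isDomain R
  letI : Fintype R := Fintype.ofFinite R
  classical
  letI : Field R := Fintype.fieldOfDomain R
  exact ⟨R, inferInstance, inferInstance, inferInstance, inferInstance, fun T =>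
    ⟨fun hT => ⟨⟨T, hT⟩, fun _ => rfl⟩, fun ⟨k, hk⟩ => (LinearMap.ext hk : T = k.1) ▸ k.2⟩⟩

variable {K : Type*} [Field K] [Algebra F K] [Module K V] [IsScalarTower F K V]
  {σ : G →* End F V} {A N : Subgroup G}

theorem finite_scalars (K V : Type*) [Field K] [AddCommGroup V] [Module K V] [Finite V]
    [Nontrivial V] : Finite K := by
  obtain ⟨v, hv⟩ := exists_ne (0 : V)
  exact Finite.of_injective _ (smul_left_injective K hv)

/-- `K` is the enveloping algebra of `A`. -/
def ScalF (K : Type*) [Field K] [Module K V] (σ : G →* End F V) (A : Subgroup G) : Prop :=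
  ∀ T, T ∈ envA σ A ↔ ∃ k : K, ∀ v, T v = k • v

namespace ScalF

variable (hK : ScalF K σ A)
include hK

omit [Finite V] [Nontrivial V] in
theorem lsmul_mem (k : K) : Algebra.lsmul F F V k ∈ envA σ A := (hK _).2 ⟨k, fun _ => rfl⟩

omit [Finite V] [Nontrivial V] in
theorem map_smul {g : G} (hg : g ∈ centralizer (A : Set G)) (k : K) (v : V) :
    σ g (k • v) = k • σ g v :=
  DFunLike.congr_fun (envA_comm (T := σ g) (fun a ha => by
    rw [← map_mul, ← hg a ha, map_mul]) (hK.lsmul_mem k)) v

omit [Finite V] [Nontrivial V] [Algebra F K] [IsScalarTower F K V] in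
theorem inj {T : End F V} (hT : T ∈ envA σ A) (h0 : T ≠ 0) : Function.Injective T := by
  obtain ⟨k, hk⟩ := (hK T).1 hT
  have : k ≠ 0 := by rintro rfl; exact h0 (LinearMap.ext fun v => (hk v).trans (zero_smul _ v))
  exact fun v w e => smul_right_injective V this (by simpa only [hk] using e)

omit [Finite V] in
theorem exists_galois [A.Normal] : ∃ φ : G →* (K ≃ₐ[F] K), ∀ g k v, σ g (k • v) = φ g k • σ g v := by
  obtain ⟨v₀, hv⟩ := exists_ne (0 : V)
  have h1 : ∀ g (k : K), ∃ k' : K, ∀ v, σ g (k • v) = k' • σ g v := fun g k => by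
    obtain ⟨k', hk⟩ := (hK _).1 (conj_mem_envA g (hK.lsmul_mem k))
    exact ⟨k', fun v => by simpa [rep_inv_apply] using hk (σ g v)⟩
  choose f hf using h1
  have h2 : ∀ g (a b : K), a • σ g v₀ = b • σ g v₀ → a = b := fun g a b e =>
    smul_left_injective K (rep_ne_zero σ g hv) e
  let ψ : G →* (K →ₐ[F] K) :=
    { toFun := fun g =>
        { toFun := f g
          map_one' := h2 g _ _ (by rw [← hf, one_smul, one_smul])
          map_mul' := fun a b => h2 g _ _ (by rw [← hf, mul_smul, hf, hf, mul_smul])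
          map_zero' := h2 g _ _ (by rw [← hf, zero_smul, zero_smul, map_zero])
          map_add' := fun a b => h2 g _ _ (by rw [← hf, add_smul, map_add, hf, hf, add_smul])
          commutes' := fun c => h2 g _ _ (by
            rw [← hf, algebraMap_smul, algebraMap_smul, LinearMap.map_smul]) }
      map_one' := AlgHom.ext fun k => h2 1 _ _ ((hf 1 k v₀).symm.trans (by simp))
      map_mul' := fun a b => AlgHom.ext fun k => h2 (a * b) _ _ ((hf _ k v₀).symm.trans (by
        rw [map_mul, End.mul_apply, hf, hf]; rfl)) }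
  exact ⟨(AlgEquiv.algHomUnitsEquiv F K).toMonoidHom.comp ψ.toHomUnits, hf⟩

theorem index_centralizer_dvd [A.Normal] (hσ : Function.Injective σ) :
    (centralizer (A : Set G)).index ∣ finrank F K := by
  obtain ⟨φ, hφ⟩ := hK.exists_galois
  have : Finite K := finite_scalars K V
  have : Finite F := Finite.of_injective _ (algebraMap F K).injective
  rw [← IsGalois.card_aut_eq_finrank]
  refine (index_dvd_of_le (show φ.ker ≤ _ from fun g hg => mem_centralizer_iff.2 fun a ha =>
    hσ (LinearMap.ext fun v => ?_))).trans (by rw [index_ker]; exact card_subgroup_dvd_card _)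
  obtain ⟨k, hk⟩ := (hK _).1 (mem_envA ha)
  rw [map_mul, map_mul, End.mul_apply, End.mul_apply, hk, hk, hφ, hg, AlgEquiv.one_apply]

theorem exists_units (hσ : Function.Injective σ) :
    ∃ κ : A →* Kˣ, Function.Injective κ ∧ ∀ (a : A) v, σ a v = (κ a : K) • v := by
  obtain ⟨v₀, hv⟩ := exists_ne (0 : V)
  choose f hf using fun a : A => (hK _).1 (mem_envA a.2)
  have h2 : ∀ a b : K, a • v₀ = b • v₀ → a = b := fun a b e => smul_left_injective K hv e
  let ψ : A →* K :=
    { toFun := f
      map_one' := h2 _ _ ((hf 1 v₀).symm.trans (by simp))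
      map_mul' := fun a b => h2 _ _ ((hf _ v₀).symm.trans (by
        rw [coe_mul, map_mul, End.mul_apply, hf, hf, mul_smul])) }
  refine ⟨ψ.toHomUnits, fun a b e => Subtype.ext (hσ (LinearMap.ext fun v => ?_)), hf⟩
  rw [hf, hf, show f a = f b from congrArg Units.val e]

theorem card_dvd (hσ : Function.Injective σ) : Nat.card A ∣ Nat.card K - 1 := by
  obtain ⟨κ, h, -⟩ := hK.exists_units hσ
  rw [← Nat.card_units]
  exact card_dvd_of_injective κ h

theorem isCyclic (hσ : Function.Injective σ) : IsCyclic A := by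
  obtain ⟨κ, h, -⟩ := hK.exists_units hσ
  have : Finite K := finite_scalars K V
  exact isCyclic_of_injective κ h

omit [Finite V] [Nontrivial V] in
theorem irr_of_finrank (h : finrank K V = 1) : Irr σ A := fun W hW => by
  have := isSimpleModule_iff_finrank_eq_one.2 h
  let W' : Submodule K V :=
    { W with smul_mem' := fun k _ hv => envA_apply_mem hW (hK.lsmul_mem k) hv }
  rcases eq_bot_or_eq_top W' with e | e
  exacts [Or.inl (SetLike.ext fun x => SetLike.ext_iff.1 e x),
    Or.inr (SetLike.ext fun x => SetLike.ext_iff.1 e x)]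

omit [Finite V] in
theorem finrank_of_irr (h : Irr σ A) : finrank K V = 1 := by
  rw [← isSimpleModule_iff_finrank_eq_one]
  refine (isSimpleModule_iff _ _).2 ⟨fun W => ?_⟩
  refine (h (W.restrictScalars F) fun n hn w hw => ?_).imp
    (Submodule.restrictScalars_eq_bot_iff _ _ _).1 (Submodule.restrictScalars_eq_top_iff _ _ _).1
  obtain ⟨k, hk⟩ := (hK _).1 (mem_envA hn)
  exact hk w ▸ W.smul_mem k hw

theorem finrank_sq [Finite G] (hσ : Function.Injective σ) (hAN : A ≤ N)
    (hNC : N ≤ centralizer (A : Set G)) (hc : ∀ x ∈ N, ∀ y ∈ N, y * x * y⁻¹ * x⁻¹ ∈ A)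
    (hZ : ∀ x ∈ N, x ∈ centralizer (N : Set G) → x ∈ A) (hp : (Nat.card N : F) ≠ 0)
    (hI : Irr σ N) : (∀ S : End F V, (∀ n ∈ N, S * σ n = σ n * S) → S ∈ envA σ A) ∧
      finrank K V ^ 2 = A.relIndex N := by
  classical
  have := Fintype.ofFinite N
  let P : End F V →ₗ[F] End F V := ∑ y : N, (LinearMap.mulLeftRight F (σ y, σ y⁻¹))
  have hP : ∀ T, P T = ∑ y : N, σ y * T * σ y⁻¹ := fun T => by simp [P]
  have P1 : ∀ T S : End F V, (∀ n ∈ N, T * σ n = σ n * T) → P (T * S) = T * P S := fun T S h => by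
    simp only [hP, Finset.mul_sum, ← mul_assoc, h _ (Subtype.prop _)]
  have P2 : ∀ T : End F V, (∀ n ∈ N, T * σ n = σ n * T) → P T = (Nat.card N : F) • T :=
    fun T h => by
      simp only [hP, ← h _ (Subtype.prop _), mul_assoc, ← map_mul, mul_inv_cancel, map_one, mul_one,
        Finset.sum_const, Finset.card_univ, Nat.cast_smul_eq_nsmul, Nat.card_eq_fintype_card]
  have cA : ∀ a ∈ A, ∀ n ∈ N, σ a * σ n = σ n * σ a := fun a ha n hn => by
    rw [← map_mul, hNC hn a ha, map_mul]
  have P3 : ∀ x ∈ N, x ∉ A → P (σ x) = 0 := fun x hx h => by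
    obtain ⟨y, hy, h1⟩ : ∃ y ∈ N, y * x ≠ x * y := by
      by_contra h1; push Not at h1; exact h (hZ x hx h1)
    have h2 : σ (y * x * y⁻¹ * x⁻¹) * P (σ x) = P (σ x) := by
      rw [← P1 _ _ (cA _ (hc x hx y hy)), ← map_mul, inv_mul_cancel_right, hP, hP]
      exact Fintype.sum_equiv (Equiv.mulRight (⟨y, hy⟩ : N)) _ _ fun z => by
        simp [mul_assoc]
    refine LinearMap.ext fun v => hK.inj (sub_mem (mem_envA (hc x hx y hy)) (one_mem _))
      (sub_ne_zero.2 fun e => h1 ?_) ?_
    · rw [← mul_inv_eq_iff_eq_mul, ← mul_inv_eq_one]; exact hσ (e.trans (map_one σ).symm)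
    · rw [← End.mul_apply, sub_mul, h2, one_mul, sub_self]; simp
  have c1 : ∀ S : End F V, (∀ n ∈ N, S * σ n = σ n * S) → S ∈ envA σ A := fun S hS => by
    have : P S ∈ envA σ A := by
      refine envA_induction (P := fun S => P S ∈ envA σ A) (fun n hn => ?_) (by simp)
        (fun a b ha hb => map_add P a b ▸ add_mem ha hb)
        (fun c a ha => P.map_smul c a ▸ Subalgebra.smul_mem _ ha c)
        (hI.density fun T hT => hI.comm hS hT)
      by_cases h : n ∈ A
      · rw [P2 _ (cA n h)]; exact Subalgebra.smul_mem _ (mem_envA h) _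
      · rw [P3 n hn h]; exact zero_mem _
    rw [P2 S hS] at this
    simpa only [smul_smul, inv_mul_cancel₀ hp, one_smul] using
      Subalgebra.smul_mem _ this (Nat.card N : F)⁻¹
  refine ⟨c1, ?_⟩
  let τ : N → End K V := fun x => ⟨(σ x).toAddHom, hK.map_smul (hNC x.2)⟩
  let b : N ⧸ A.subgroupOf N → End K V := fun i => τ i.out
  have := Fintype.ofFinite (N ⧸ A.subgroupOf N)
  have h1 : LinearIndependent K b := by
    refine Fintype.linearIndependent_iff.2 fun c hc j => ?_
    have e : ∑ i, Algebra.lsmul F F V (c i) * σ ((i.out : N) * ((j.out : N) : G)⁻¹) = 0 :=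
      LinearMap.ext fun v => by
        simpa [b, τ] using DFunLike.congr_fun hc (σ ((j.out : N) : G)⁻¹ v)
    have cK : ∀ k : K, ∀ n ∈ N, Algebra.lsmul F F V k * σ n = σ n * Algebra.lsmul F F V k :=
      fun k n hn => LinearMap.ext fun v => (hK.map_smul (hNC hn) k v).symm
    have e2 := congrArg P e
    rw [map_sum, map_zero, Finset.sum_eq_single j (fun i _ hij => by
      rw [P1 _ _ (cK _), P3 _ (mul_mem i.out.2 (inv_mem j.out.2)) fun h => hij ?_, mul_zero]
      rw [← i.out_eq, ← j.out_eq, eq_comm, QuotientGroup.eq, mem_subgroupOf]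
      have := hNC j.out.2 _ h
      rw [inv_mul_cancel_right, ← inv_mul_eq_iff_eq_mul] at this
      rw [← this] at h; exact h) (by simp),
      mul_inv_cancel, map_one, mul_one, P2 _ (cK _), smul_eq_zero] at e2
    obtain ⟨v, hv⟩ := exists_ne (0 : V)
    exact (smul_eq_zero.1 (DFunLike.congr_fun (e2.resolve_left hp) v)).resolve_right hv
  have h2 : ⊤ ≤ Submodule.span K (Set.range b) := fun T _ => by
    obtain ⟨T', h, e⟩ : ∃ T' ∈ Submodule.span K (Set.range b),
        T'.restrictScalars F = T.restrictScalars F := by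
      refine envA_induction (P := fun S => ∃ T' ∈ Submodule.span K (Set.range b),
        T'.restrictScalars F = S) (fun n hn => ?_) ⟨0, zero_mem _, rfl⟩ ?_ ?_
        (hI.density fun S hS => LinearMap.ext fun v => ?_)
      · obtain ⟨a, ha⟩ := QuotientGroup.mk_out_eq_mul (A.subgroupOf N) ⟨n, hn⟩
        obtain ⟨k, hk⟩ := (hK _).1 (mem_envA (inv_mem a.2 : ((a : N) : G)⁻¹ ∈ A))
        refine ⟨k • b (⟨n, hn⟩ : N), Submodule.smul_mem _ _ (Submodule.subset_span ⟨_, rfl⟩),
          LinearMap.ext fun v => ?_⟩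
        change k • σ _ v = _
        rw [← hk, ha, ← End.mul_apply, ← map_mul, coe_mul,
          ← show ((a : N) : G) * n = n * (a : N) from hNC hn _ a.2, inv_mul_cancel_left]
      · rintro _ _ ⟨a, ha, rfl⟩ ⟨b, hb, rfl⟩
        exact ⟨a + b, add_mem ha hb, rfl⟩
      · rintro c _ ⟨a, ha, rfl⟩
        exact ⟨algebraMap F K c • a, Submodule.smul_mem _ _ ha, LinearMap.ext fun v => by simp⟩
      · obtain ⟨k, hk⟩ := (hK _).1 (c1 S hS)
        simp [hk]
    rwa [← LinearMap.restrictScalars_injective F e]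
  have : Module.Finite K V := Module.Finite.of_finite
  have := finrank_eq_card_basis (Basis.mk h1 h2)
  rwa [finrank_linearMap, ← pow_two, ← Nat.card_eq_fintype_card] at this

end ScalF

end H25
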