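import Cfsg.Agent.H25.B2b
import Cfsg.Agent.H25.Hup2

/-! Bases of size two for odd order linear groups, III: reducible and imprimitive modules. -/

set_option autoImplicit false

namespace H25.B2

open Subgroup MulAction Module
open scoped Pointwise

variable {G V : Type} [Group G] [Finite G] [AddCommGroup V] [Finite V] [DistribMulAction G V]

omit [Finite G] in
theorem card_lt_of_ne_top {U : AddSubgroup V} (h : U ≠ ⊤) : Nat.card U < Nat.card V :=
  Set.ncard_lt_card (s := (U : Set V)) fun e => h (SetLike.coe_injective e)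

theorem bs_red (hP : P (Nat.card V)) (hG : Odd (Nat.card G)) (hcr : CR G V) {U : AddSubgroup V}
    (hU : ∀ a : G, ∀ v ∈ U, a • v ∈ U) (h0 : U ≠ ⊥) (h1 : U ≠ ⊤) : Bs G V := by
  have key : ∀ U : AddSubgroup V, (∀ a : G, ∀ v ∈ U, a • v ∈ U) → U ≠ ⊤ →
      ∃ v ∈ U, ∃ w ∈ U, ∀ h : G, h • v = v → h • w = w → ∀ u ∈ U, h • u = u := fun U hU h1 => by
    obtain ⟨v, hv, w, hw, h⟩ := hP.rel hG ⊤ U (fun h _ => hU h) (card_lt_of_ne_top h1)
      fun X hX hX' => by
        obtain ⟨W, a, b, c⟩ := hcr X fun a => hX' a trivial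
        refine ⟨W ⊓ U, inf_le_right, fun h _ u hu => ⟨a h u hu.1, hU h u hu.2⟩, ?_, ?_⟩
        · rw [← inf_assoc, b, bot_inf_eq]
        · rw [← sup_inf_assoc_of_le _ hX, c, top_inf_eq]
    exact ⟨v, hv, w, hw, fun g => h g trivial⟩
  obtain ⟨W, hW, h2, h3⟩ := hcr U hU
  obtain ⟨v, hv, w, hw, a⟩ := key U hU h1
  obtain ⟨v', hv', w', hw', b⟩ := key W hW fun e => h0 (by simpa [e] using h2)
  have split : ∀ g : G, ∀ x ∈ U, ∀ y ∈ W, g • (x + y) = x + y → g • x = x ∧ g • y = y :=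
    fun g x hx y hy e => by
      have e1 : g • x - x = y - g • y := by
        rw [smul_add] at e; rw [sub_eq_sub_iff_add_eq_add, e, add_comm]
      have : g • x - x ∈ U ⊓ W :=
        AddSubgroup.mem_inf.2 ⟨U.sub_mem (hU g x hx) hx, e1 ▸ W.sub_mem hy (hW g y hy)⟩
      rw [h2, AddSubgroup.mem_bot] at this
      exact ⟨sub_eq_zero.1 this, (sub_eq_zero.1 (e1 ▸ this)).symm⟩
  refine ⟨v + v', w + w', fun g e1 e2 u => ?_⟩
  obtain ⟨x, hx, y, hy, rfl⟩ := AddSubgroup.mem_sup.1 (h3.ge (AddSubgroup.mem_top u))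
  rw [smul_add, a g (split g _ hv _ hv' e1).1 (split g _ hw _ hw' e2).1 x hx,
    b g (split g _ hv _ hv' e1).2 (split g _ hw _ hw' e2).2 y hy]

omit [Finite G] [Finite V] in
theorem eq_top_of_irr
    (hirr : ∀ U : AddSubgroup V, (∀ a : G, ∀ v ∈ U, a • v ∈ U) → U = ⊥ ∨ U = ⊤)
    {X Y : AddSubgroup V} (hX : X ≠ ⊥) (h : ∀ g : G, ∀ x ∈ X, g • x ∈ Y) (v : V) : v ∈ Y := by
  let Z : AddSubgroup V :=
    { carrier := {v | ∀ g : G, g • v ∈ Y}
      add_mem' := fun ha hb g => by rw [smul_add]; exact add_mem (ha g) (hb g)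
      zero_mem' := fun g => by rw [smul_zero]; exact zero_mem _
      neg_mem' := fun ha g => by rw [smul_neg]; exact neg_mem (ha g) }
  rcases hirr Z (fun a v hv g => by rw [← mul_smul]; exact hv _) with e | e
  · exact (hX (eq_bot_iff.2 (e ▸ fun x hx g => h g x hx))).elim
  · simpa using (e.ge (AddSubgroup.mem_top v)) 1

theorem bs_imp (hP : P (Nat.card V)) (hG : Odd (Nat.card G))
    (hirr : ∀ U : AddSubgroup V, (∀ a : G, ∀ v ∈ U, a • v ∈ U) → U = ⊥ ∨ U = ⊤)
    (W : AddSubgroup V) (h0 : W ≠ ⊥) (h1 : W ≠ ⊤)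
    (hsep : ∀ i : orbit G W, ∃ T : V →+ V, (∀ j : orbit G W, j ≠ i → ∀ x ∈ j.1, T x = 0) ∧
      ∀ x ∈ i.1, T x = 0 → x = 0) : Bs G V := by
  classical
  let i0 : orbit G W := ⟨W, mem_orbit_self W⟩
  have mv : ∀ (g : G) (i : orbit G W), ∀ x ∈ i.1, g • x ∈ (g • i).1 := fun g i x hx =>
    AddSubgroup.smul_mem_pointwise_smul x g _ hx
  have hst : ∀ h ∈ stabilizer G i0, ∀ u ∈ W, h • u ∈ W := fun h hh u hu => by
    have := mv h i0 u hu
    rwa [mem_stabilizer_iff.1 hh] at this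
  obtain ⟨u0, hu0, hu0'⟩ : ∃ u ∈ W, u ≠ 0 := by
    by_contra h; push Not at h; exact h0 ((AddSubgroup.eq_bot_iff_forall _).2 h)
  obtain ⟨v, hv, w, hw, hvw, hb⟩ : ∃ v ∈ W, ∃ w ∈ W, v ≠ w ∧
      ∀ h ∈ stabilizer G i0, h • v = v → h • w = w → ∀ u ∈ W, h • u = u := by
    obtain ⟨v, hv, w, hw, hb⟩ := hP.rel hG (stabilizer G i0) W hst (card_lt_of_ne_top h1)
      fun X hX hX' => by
        by_cases hX0 : X = ⊥
        · exact ⟨W, le_rfl, hst, by simp [hX0], by simp [hX0]⟩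
        refine ⟨⊥, bot_le, fun h _ u hu => by
          rw [AddSubgroup.mem_bot.1 hu, smul_zero]; exact zero_mem _, by simp, ?_⟩
        rw [sup_bot_eq]
        refine le_antisymm hX fun y hy => ?_
        obtain ⟨T, t1, t2⟩ := hsep i0
        obtain ⟨x, hx, z, hz, rfl⟩ := AddSubgroup.mem_sup.1
          (eq_top_of_irr hirr (Y := X ⊔ T.ker) hX0 (fun g x hx => by
            by_cases hg : g ∈ stabilizer G i0
            · exact AddSubgroup.mem_sup_left (hX' g hg x hx)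
            · exact AddSubgroup.mem_sup_right (t1 _ hg _ (mv g i0 x (hX hx)))) y)
        rwa [t2 z (by simpa using sub_mem hy (hX hx)) hz, add_zero]
    by_cases e : v = w
    · subst e
      by_cases e0 : v = 0
      · exact ⟨u0, hu0, 0, zero_mem _, hu0', fun h hh _ _ =>
          hb h hh (by simp [e0]) (by simp [e0])⟩
      · exact ⟨v, hv, 0, zero_mem _, e0, fun h hh a _ => hb h hh a a⟩
    · exact ⟨v, hv, w, hw, e, hb⟩
  have : Finite (AddSubgroup V) := Finite.of_injective _ SetLike.coe_injective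
  letI := Fintype.ofFinite (orbit G W)
  have htr : ∀ i : orbit G W, ∃ g : G, g • i0 = i := fun ⟨_, g, rfl⟩ => ⟨g, rfl⟩
  obtain ⟨E, hE⟩ := gluck hP _ le_rfl G (orbit G W) hG (by
    letI := Fintype.ofFinite V
    choose t ht using htr
    rw [Nat.card_eq_fintype_card, Nat.card_eq_fintype_card]
    refine Fintype.card_lt_of_injective_of_notMem (fun i => t i • u0) (fun i j e => ?_) (b := 0) ?_
    · by_contra hij
      obtain ⟨T, t1, t2⟩ := hsep i
      have a : t i • u0 ∈ i.1 := by have := mv (t i) i0 u0 hu0; rwa [ht] at this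
      have b : t j • u0 ∈ j.1 := by have := mv (t j) i0 u0 hu0; rwa [ht] at this
      have e' : t i • u0 = t j • u0 := e
      exact hu0' ((smul_eq_zero_iff_eq _).1 (t2 _ a (e' ▸ t1 j (Ne.symm hij) _ b)))
    · rintro ⟨i, e⟩
      exact hu0' ((smul_eq_zero_iff_eq _).1 e))
  obtain ⟨s, hs, hs'⟩ := sec (G := G) i0 htr ((v, w) : V × V) (w, v) (fun g _ e => by
    have e1 : g • v = w := congrArg Prod.fst e
    have e2 : g • w = v := congrArg Prod.snd e
    exact hvw (by rw [← e1, odd_fix hG (show g • g • v = v by rw [e1, e2])])) E hE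
  have sub : ∀ i, (s i).1 ∈ i.1 ∧ (s i).2 ∈ i.1 := fun i => by
    obtain ⟨g, rfl, h | h⟩ := hs i <;> rw [h]
    · exact ⟨mv g i0 v hv, mv g i0 w hw⟩
    · exact ⟨mv g i0 w hw, mv g i0 v hv⟩
  have uniq : ∀ (f : orbit G W → V), (∀ i, f i ∈ i.1) → ∀ h : G, h • ∑ i, f i = ∑ i, f i →
      ∀ i, h • f i = f (h • i) := fun f hf h e i => by
    obtain ⟨T, t1, t2⟩ := hsep (h • i)
    rw [Finset.smul_sum, ← Equiv.sum_comp (MulAction.toPerm h) f, ← sub_eq_zero,
      ← Finset.sum_sub_distrib] at e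
    have := congrArg T e
    simp only [toPerm_apply] at this
    rw [map_sum, map_zero, Finset.sum_eq_single i (fun j _ hj => t1 (h • j)
      (fun e => hj (MulAction.injective h e)) _ (sub_mem (mv h j _ (hf j)) (hf _))) (by simp)] at this
    exact sub_eq_zero.1 (t2 _ (sub_mem (mv h i _ (hf i)) (hf _)) this)
  refine ⟨∑ i, (s i).1, ∑ i, (s i).2, fun h e1 e2 => ?_⟩
  have h3 : ∀ i, h • s i = s (h • i) := fun i =>
    Prod.ext (uniq _ (fun i => (sub i).1) h e1 i) (uniq _ (fun i => (sub i).2) h e2 i)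
  have h4 := hs' h h3
  intro u
  have := eq_top_of_irr hirr (Y := (DistribSMul.toAddMonoidHom V h).eqLocus (AddMonoidHom.id V)) h0
    (fun g x hx => ?_) u
  · exact this
  obtain ⟨t, ht, h6⟩ := hs (g • i0)
  have h5 := h3 (g • i0)
  rw [h4] at h5
  have h8 : t⁻¹ * h * t ∈ stabilizer G i0 := by
    rw [mem_stabilizer_iff, mul_smul, mul_smul, h4, inv_smul_smul]
  have h9 : h • t • v = t • v ∧ h • t • w = t • w := by
    rcases h6 with h6 | h6 <;> rw [h6] at h5
    · exact ⟨congrArg Prod.fst h5, congrArg Prod.snd h5⟩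
    · exact ⟨congrArg Prod.snd h5, congrArg Prod.fst h5⟩
  have := hb _ h8 (by rw [mul_smul, mul_smul, h9.1, inv_smul_smul])
    (by rw [mul_smul, mul_smul, h9.2, inv_smul_smul]) (t⁻¹ • g • x) (by
      have := mv t⁻¹ _ _ (mv g i0 x hx)
      rwa [← ht, inv_smul_smul] at this)
  rw [mul_smul, mul_smul, smul_inv_smul] at this
  exact MulAction.injective t⁻¹ this

/-- A normal abelian subgroup whose envelope is not a field gives an imprimitivity system. -/
theorem bs_env {F : Type} [Field F] [Module F V] (σ : G →* End F V) (hσ : ∀ g v, σ g v = g • v)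
    (hP : P (Nat.card V)) (hG : Odd (Nat.card G))
    (hirr : ∀ U : AddSubgroup V, (∀ a : G, ∀ v ∈ U, a • v ∈ U) → U = ⊥ ∨ U = ⊤)
    (A : Subgroup G) [A.Normal] (hA : A ≤ centralizer (A : Set G)) {T : End F V}
    (hT : T ∈ envA σ A) (h0 : T ≠ 0) (hi : ¬ Function.Injective T) : Bs G V := by
  classical
  have : Finite (AddSubgroup V) := Finite.of_injective _ SetLike.coe_injective
  have comm : ∀ S ∈ envA σ A, ∀ S' ∈ envA σ A, S * S' = S' * S := fun S hS S' hS' =>
    envA_comm (fun n hn => (envA_comm (fun m hm => by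
      rw [← map_mul, ← map_mul, hA hn m hm]) hS).symm) hS'
  let Q : AddSubgroup V → Prop := fun W => W ≠ ⊥ ∧
    ∀ v, (∀ S ∈ envA σ A, (∀ x ∈ W, S x = 0) → S v = 0) → v ∈ W
  obtain ⟨W, hWT, hW, hmin⟩ := exists_minimal_le_of_wellFoundedLT Q (LinearMap.ker T).toAddSubgroup
    ⟨fun e => hi (LinearMap.ker_eq_bot.1 ((Submodule.toAddSubgroup_injective (by simpa using e)))),
      fun v hv => hv T hT fun x hx => hx⟩
  have hQ : ∀ (g : G) (X : AddSubgroup V), Q X → Q (g • X) := fun g X hX =>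
    ⟨fun e => hX.1 ((AddSubgroup.eq_bot_iff_forall _).2 fun x hx => (smul_eq_zero_iff_eq g).1
      (AddSubgroup.mem_bot.1 (e ▸ AddSubgroup.smul_mem_pointwise_smul x g X hx))), fun v hv => by
      rw [AddSubgroup.mem_pointwise_smul_iff_inv_smul_mem]
      refine hX.2 _ fun S hS h => ?_
      have := hv _ (conj_mem_envA g hS) fun x hx => by
        rw [End.mul_apply, End.mul_apply, hσ g⁻¹,
          h _ (AddSubgroup.mem_pointwise_smul_iff_inv_smul_mem.1 hx), map_zero]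
      rw [End.mul_apply, End.mul_apply, hσ g⁻¹, hσ] at this
      exact (smul_eq_zero_iff_eq _).1 this⟩
  have hm : ∀ i : orbit G W, Q i.1 ∧ ∀ X, Q X → X ≤ i.1 → i.1 ≤ X := by
    rintro ⟨_, g, rfl⟩
    refine ⟨hQ g W hW, fun X hX h => ?_⟩
    have := hmin (hQ g⁻¹ X hX) (by
      have := AddSubgroup.pointwise_smul_le_pointwise_smul_iff (a := g⁻¹) |>.2 h
      rwa [inv_smul_smul] at this)
    have := AddSubgroup.pointwise_smul_le_pointwise_smul_iff (a := g) |>.2 this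
    rwa [smul_inv_smul] at this
  have inv : ∀ X, Q X → ∀ S ∈ envA σ A, ∀ x ∈ X, S x ∈ X := fun X hX S hS x hx =>
    hX.2 _ fun S' hS' h => by
      rw [← End.mul_apply, comm _ hS' _ hS, End.mul_apply, h x hx, map_zero]
  have pair : ∀ i j : orbit G W, j ≠ i → ∃ S ∈ envA σ A, (∀ x ∈ j.1, S x = 0) ∧
      ∀ x ∈ i.1, S x = 0 → x = 0 := fun i j hij => by
    obtain ⟨S, hS, s1, y, hy, s2⟩ : ∃ S ∈ envA σ A, (∀ x ∈ j.1, S x = 0) ∧ ∃ y ∈ i.1, S y ≠ 0 := by
      by_contra h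
      push Not at h
      have h1 : i.1 ≤ j.1 := fun y hy => (hm j).1.2 y fun S hS s => h S hS s y hy
      exact hij (Subtype.ext (le_antisymm ((hm j).2 _ (hm i).1 h1) h1))
    refine ⟨S, hS, s1, fun x hx e => by_contra fun hx0 => s2 ?_⟩
    exact ((hm i).2 (i.1 ⊓ (LinearMap.ker S).toAddSubgroup) ⟨fun e' => hx0
      (AddSubgroup.mem_bot.1 (e' ▸ (⟨hx, e⟩ : x ∈ i.1 ⊓ (LinearMap.ker S).toAddSubgroup))),
      fun v hv => ⟨(hm i).1.2 v fun S' hS' h => hv S' hS' fun x hx => h x hx.1,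
        hv S hS fun x hx => hx.2⟩⟩ inf_le_left hy).2
  refine bs_imp hP hG hirr W hW.1 (fun e => h0 (LinearMap.ext fun v => hWT (e ▸ trivial)))
    fun i => ?_
  letI := Fintype.ofFinite (orbit G W)
  suffices h : ∀ J : Finset (orbit G W), i ∉ J → ∃ S ∈ envA σ A, (∀ j ∈ J, ∀ x ∈ j.1, S x = 0) ∧
      ∀ x ∈ i.1, S x = 0 → x = 0 by
    obtain ⟨S, -, a, b⟩ := h (Finset.univ.erase i) (by simp)
    exact ⟨S.toAddMonoidHom, fun j hj => a j (by simpa using hj), b⟩
  intro J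
  induction J using Finset.induction_on with
  | empty => exact fun _ => ⟨1, one_mem _, by simp, fun x _ e => e⟩
  | insert j J _ ih =>
    intro hi
    rw [Finset.mem_insert, not_or] at hi
    obtain ⟨S, hS, a, b⟩ := ih hi.2
    obtain ⟨S', hS', a', b'⟩ := pair i j (Ne.symm hi.1)
    refine ⟨S * S', mul_mem hS hS', fun l hl x hx => ?_, fun x hx e =>
      b' x hx (b _ (inv _ (hm i).1 _ hS' x hx) e)⟩
    rcases Finset.mem_insert.1 hl with rfl | hl
    · rw [End.mul_apply, a' x hx, map_zero]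
    · rw [comm _ hS _ hS', End.mul_apply, a l hl x hx, map_zero]

end H25.B2
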