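import Cfsg.Agent.H25.B2c
import Cfsg.Agent.H9.SmallAut

/-! Bases of size two for odd order linear groups, IV: orders of small linear groups. -/

set_option autoImplicit false

namespace H25.B2

open Subgroup MulAction Cfsg

variable {H M : Type*} [Group H] [AddCommGroup M] [DistribMulAction H M]

/-- fixed points of an element -/
def fx (M : Type*) [AddCommGroup M] [DistribMulAction H M] (g : H) : AddSubgroup M where
  carrier := {v | g • v = v}
  add_mem' ha hb := by rw [Set.mem_setOf_eq, smul_add, ha, hb]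
  zero_mem' := smul_zero g
  neg_mem' ha := by rw [Set.mem_setOf_eq, smul_neg, ha]

theorem mem_fx {g : H} {v : M} : v ∈ fx M g ↔ g • v = v := Iff.rfl

theorem fixedPoints_zpowers {X : Type*} [MulAction H X] (g : H) :
    fixedPoints (zpowers g) X = {v | g • v = v} :=
  Set.ext fun v => ⟨fun h => h ⟨g, mem_zpowers g⟩,
    fun h t => (zpowers_le.2 (mem_stabilizer_iff.2 h) : _ ≤ stabilizer H v) t.2⟩

variable [Finite H] [Finite M]

theorem card_fx_modEq {q : ℕ} [Fact q.Prime] {g : H} (hg : orderOf g = q) :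
    Nat.card M ≡ Nat.card (fx M g) [MOD q] := by
  have := (IsPGroup.of_card (G := zpowers g) (n := 1) (by rw [Nat.card_zpowers, hg, pow_one])
    ).card_modEq_card_fixedPoints M
  rwa [fixedPoints_zpowers] at this

omit [Finite H] in
theorem CR.nsmul_eq_zero (h : CR H M) {r k : ℕ} (hM : Nat.card M = r ^ k) (v : M) : r • v = 0 := by
  obtain ⟨W, -, h2, h3⟩ := h (nsmulAddMonoidHom r).range (by
    rintro a _ ⟨x, rfl⟩
    exact ⟨a • x, by simp [smul_comm a r]⟩)
  have key : ∀ j : ℕ, ∀ v : M, ∃ x : M, r • v = r • r ^ j • x := fun j => by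
    induction j with
    | zero => exact fun v => ⟨v, by simp⟩
    | succ j ih =>
      intro v
      obtain ⟨x, hx⟩ := ih v
      obtain ⟨_, ⟨y, rfl⟩, w, hw, rfl⟩ := AddSubgroup.mem_sup.1 (h3.ge (AddSubgroup.mem_top x))
      have : r • w ∈ (nsmulAddMonoidHom r).range ⊓ W := ⟨⟨w, rfl⟩, W.nsmul_mem hw r⟩
      rw [h2, AddSubgroup.mem_bot] at this
      refine ⟨y, ?_⟩
      rw [hx, smul_add, smul_add, smul_comm r (r ^ j) w, this, smul_zero, add_zero, pow_succ,
        mul_smul]
      rfl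
  obtain ⟨x, hx⟩ := key k v
  rw [hx, ← hM, card_nsmul_eq_zero', smul_zero]

variable [FaithfulSMul H M]

omit [Finite H] in
theorem Bs.card_le (h : Bs H M) : Nat.card H ≤ Nat.card M ^ 2 := by
  obtain ⟨v, w, h⟩ := h
  rw [sq, ← Nat.card_prod]
  refine Nat.card_le_card_of_injective (fun g : H => (g • v, g • w)) fun a b e => ?_
  have e1 : a • v = b • v := congrArg Prod.fst e
  have e2 : a • w = b • w := congrArg Prod.snd e
  refine eq_of_smul_eq_smul (α := M) fun u => ?_
  have := h (b⁻¹ * a) (by rw [mul_smul, e1, inv_smul_smul]) (by rw [mul_smul, e2, inv_smul_smul]) u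
  rwa [mul_smul, inv_smul_eq_iff] at this

omit [Finite H] in
theorem CR.card_dvd (h : CR H M) {r k : ℕ} [Fact r.Prime] (hM : Nat.card M = r ^ k) :
    Nat.card H ∣ ∏ i : Fin k, (r ^ k - r ^ i.val) := by
  letI : Module (ZMod r) M := AddCommGroup.zmodModule (h.nsmul_eq_zero hM)
  obtain ⟨ρ, hρ⟩ := H9.exists_matrix_rep_add (G := H) hM (DistribSMul.toAddMonoidHom M)
    (one_smul H) (fun g h x => mul_smul g h x)
  have := card_dvd_of_injective ρ.toHomUnits ((injective_iff_map_eq_one _).2 fun g hg =>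
    eq_of_smul_eq_smul (α := M) fun x => by
      rw [one_smul]; exact (hρ g).1 (congrArg Units.val hg) x)
  have e := Matrix.card_GL_field (𝔽 := ZMod r) k
  rw [ZMod.card] at e
  exact e ▸ this

omit [Finite H] in
theorem CR.pgroup_bot (h : CR H M) {r k : ℕ} [hr : Fact r.Prime] (hM : Nat.card M = r ^ k)
    (O : Subgroup H) [hO : O.Normal] (hp : IsPGroup r O) : O = ⊥ := by
  obtain ⟨W, h1, h2, h3⟩ := h (FixedPoints.addSubgroup O M) fun a v hv t => by
    have := hv ⟨_, hO.conj_mem' _ t.2 a⟩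
    rw [mk_smul, mul_smul, mul_smul, inv_smul_eq_iff] at this
    exact this
  let S : SubMulAction O M := ⟨W, fun t x hx => h1 t x hx⟩
  have e := hp.card_modEq_card_fixedPoints S
  have e1 : Nat.card (fixedPoints O S) = 1 := by
    rw [Nat.card_eq_one_iff_exists]
    refine ⟨⟨⟨0, W.zero_mem⟩, fun t => Subtype.ext (smul_zero t)⟩, fun x => ?_⟩
    have : x.1.1 ∈ FixedPoints.addSubgroup O M ⊓ W := ⟨fun t => congrArg Subtype.val (x.2 t), x.1.2⟩
    rw [h2, AddSubgroup.mem_bot] at this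
    exact Subtype.ext (Subtype.ext this)
  obtain ⟨j, -, hj⟩ := (Nat.dvd_prime_pow hr.out).1 (hM ▸ W.card_addSubgroup_dvd_card)
  rw [e1, show Nat.card S = r ^ j from hj] at e
  have hW : W = ⊥ := by
    rcases j with _ | j
    · exact AddSubgroup.eq_bot_of_card_eq W hj
    · exact absurd ((Nat.modEq_zero_iff_dvd.2 (dvd_pow_self r j.succ_ne_zero)).symm.trans e).symm
        fun e' => hr.out.one_lt.ne' (Nat.dvd_one.1 (Nat.modEq_zero_iff_dvd.1 e'))
  rw [hW, sup_bot_eq] at h3
  refine (eq_bot_iff_forall _).2 fun t ht => eq_of_smul_eq_smul (α := M) fun x => ?_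
  rw [one_smul]
  exact (h3.ge (AddSubgroup.mem_top x)) ⟨t, ht⟩

theorem odd_dvd {a b k : ℕ} (ha : Odd a) (h : a ∣ 2 ^ k * b) : a ∣ b :=
  (Nat.Coprime.pow_right k (Nat.coprime_two_right.2 ha)).dvd_of_dvd_mul_left h

theorem CR.bd9 (h : CR H M) (hH : Odd (Nat.card H)) (hM : Nat.card M = 9) : Nat.card H ≤ 1 := by
  have h1 := h.card_dvd (r := 3) (k := 2) hM
  have h2 : Nat.card H ∣ 3 ^ 1 := odd_dvd (k := 4) hH (by simpa using h1)
  have := h.pgroup_bot (r := 3) (k := 2) hM ⊤ (IsPGroup.of_card_dvd_pow (by rwa [card_top]))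
  rw [← card_top, this, card_bot]

theorem CR.bd25 (h : CR H M) (hH : Odd (Nat.card H)) (hM : Nat.card M = 25) :
    Nat.card H ≤ 15 := by
  haveI : Fact (Nat.Prime 5) := ⟨by norm_num⟩
  have h1 := h.card_dvd (r := 5) (k := 2) hM
  exact Nat.le_of_dvd (by norm_num) (odd_dvd (k := 5) hH (by simpa using h1))

theorem CR.bd49 (h : CR H M) (hH : Odd (Nat.card H)) (hM : Nat.card M = 49) :
    Nat.card H ≤ 63 := by
  haveI : Fact (Nat.Prime 7) := ⟨by norm_num⟩
  have h1 := h.card_dvd (r := 7) (k := 2) hM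
  exact Nat.le_of_dvd (by norm_num) (odd_dvd (k := 5) hH (by simpa using h1))

theorem not_65 (hM : Nat.card M = 81) {z : H} (hz : orderOf z = 65) : False := by
  haveI : Fact (Nat.Prime 5) := ⟨by norm_num⟩
  haveI : Fact (Nat.Prime 13) := ⟨by norm_num⟩
  have hx : orderOf (z ^ 5) = 13 := by rw [orderOf_pow, hz]; rfl
  have hy : orderOf (z ^ 13) = 5 := by rw [orderOf_pow, hz]; rfl
  have key : ∀ g : H, g ≠ 1 → Nat.card (fx M g) ∈ [1, 3, 9, 27] := fun g hg => by
    have h1 : Nat.card (fx M g) ∣ 3 ^ 4 :=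
      (fx M g).card_addSubgroup_dvd_card.trans (dvd_of_eq hM)
    obtain ⟨j, hj, e⟩ := (Nat.dvd_prime_pow Nat.prime_three).1 h1
    have : j ≠ 4 := fun e' => hg (eq_of_smul_eq_smul (α := M) fun x => by
      have := AddSubgroup.eq_top_of_card_eq (fx M g) (by rw [e, e', hM]; rfl)
      rw [one_smul]; exact this.ge (AddSubgroup.mem_top x))
    rw [e]
    interval_cases j <;> simp at this ⊢
  have a := key (z ^ 5) fun e => by simp [e] at hx
  have b := key (z ^ 13) fun e => by simp [e] at hy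
  have a' := card_fx_modEq (M := M) hx
  have b' := card_fx_modEq (M := M) hy
  rw [hM, Nat.ModEq] at a' b'
  simp only [List.mem_cons, List.not_mem_nil, or_false] at a b
  have a1 : Nat.card (fx M (z ^ 5)) = 3 := by omega
  have b1 : fx M (z ^ 13) = ⊥ := AddSubgroup.eq_bot_of_card_eq _ (by omega)
  let S : SubMulAction (zpowers (z ^ 13)) M := ⟨fx M (z ^ 5), fun ⟨_, j, rfl⟩ x hx => by
    show z ^ 5 • (z ^ 13) ^ j • x = (z ^ 13) ^ j • x
    rw [← mul_smul, ((Commute.refl z).pow_pow 5 13).zpow_right j |>.eq, mul_smul, mem_fx.1 hx]⟩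
  have e := (IsPGroup.of_card (G := zpowers (z ^ 13)) (n := 1)
    (by rw [Nat.card_zpowers, hy, pow_one])).card_modEq_card_fixedPoints S
  have e1 : Nat.card (fixedPoints (zpowers (z ^ 13)) S) = 1 := by
    rw [Nat.card_eq_one_iff_exists]
    refine ⟨⟨⟨0, (fx M (z ^ 5)).zero_mem⟩, fun t => Subtype.ext (smul_zero t)⟩, fun x => ?_⟩
    have : x.1.1 ∈ fx M (z ^ 13) := congrArg Subtype.val (x.2 ⟨_, mem_zpowers _⟩)
    rw [b1, AddSubgroup.mem_bot] at this
    exact Subtype.ext (Subtype.ext this)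
  rw [e1, show Nat.card S = 3 from a1] at e
  exact absurd e (by decide)

theorem CR.bd81 (h : CR H M) (hH : Odd (Nat.card H)) (hM : Nat.card M = 81) :
    Nat.card H ≤ 39 := by
  have h1 := h.card_dvd (r := 3) (k := 4) hM
  have h2 : Nat.card H ∣ 3 ^ 6 * 65 := odd_dvd (k := 9) hH (by simpa [Fin.prod_univ_four] using h1)
  have := H17.odd_solvable hH
  set F := fittingSubgroup H
  have h3 : ¬ 3 ∣ Nat.card F := fun h3 => by
    obtain ⟨Q⟩ : Nonempty (Sylow 3 F) := inferInstance
    have : (Q : Subgroup F).Normal := inferInstance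
    have := Q.characteristic_of_normal this
    have := h.pgroup_bot (r := 3) (k := 4) hM ((Q : Subgroup F).map F.subtype) (Q.2.map _)
    exact Q.ne_bot_of_dvd_card h3 ((map_eq_bot_iff_of_injective _ F.subtype_injective).1 this)
  have h4 : Nat.card F ∣ 65 :=
    (Nat.Coprime.pow_right 6 ((Nat.Prime.coprime_iff_not_dvd Nat.prime_three).2 h3).symm
      ).dvd_of_dvd_mul_left ((card_subgroup_dvd_card F).trans h2)
  have : IsZGroup F := IsZGroup.of_squarefree (Squarefree.squarefree_of_dvd h4 (by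
    rw [show 65 = 5 * 13 from rfl, Nat.squarefree_mul (by norm_num)]
    exact ⟨(by norm_num : Nat.Prime 5).squarefree, (by norm_num : Nat.Prime 13).squarefree⟩))
  have hc : IsCyclic F := inferInstance
  have h5 : Nat.card F ≠ 65 := fun e => by
    obtain ⟨z, hz⟩ := hc.exists_ofOrder_eq_natCard
    exact not_65 hM (z := (z : H)) (by rw [orderOf_coe, hz, e])
  have h6 : F.index ∣ (Nat.card F).totient := by
    rw [← IsCyclic.card_mulAut]
    refine (index_dvd_of_le (H := (MulAut.conjNormal (H := F)).ker) fun g hg =>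
      H1.centralizer_fitting_le fun y hy => ?_).trans (by rw [index_ker]; exact card_subgroup_dvd_card _)
    have : g * y * g⁻¹ = y := congrArg (fun f : MulAut F => (f ⟨y, hy⟩ : H)) hg
    exact (mul_inv_eq_iff_eq_mul.1 this).symm
  have h7 : Odd F.index := hH.of_dvd_nat F.index_dvd_card
  rw [← F.card_mul_index]
  have h8 : Nat.card F = 1 ∨ Nat.card F = 5 ∨ Nat.card F = 13 := by
    have := Nat.le_of_dvd (by norm_num) h4
    generalize Nat.card F = c at *
    interval_cases c <;> simp at h4 h5 ⊢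
  have h9 : F.index ∣ 3 := odd_dvd (k := 2) h7 (h6.trans (by
    rcases h8 with e | e | e <;> rw [e] <;> decide))
  have := Nat.le_of_dvd (by norm_num) h9
  rcases h8 with e | e | e <;> rw [e] <;> omega

end H25.B2
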