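import Cfsg.Agent.H25.B2d
import Cfsg.Agent.H15.Amb

/-! Bases of size two for odd order linear groups, V: the class two normal subgroup. -/

set_option autoImplicit false

namespace H25.B2

open Subgroup MulAction H15 Module
open scoped commutatorElement IsMulCommutative

variable {G : Type*} [Group G]

structure ZE (Z E : Subgroup G) : Prop where
  nZ : Z.Normal
  nE : E.Normal
  le : Z ≤ E
  cent : E ≤ 𝒞(Z)
  comm : ⁅E, E⁆ ≤ Z
  self : 𝒞(E) ≤ Z
  max : ∀ A : Subgroup G, A.Normal → A ≤ 𝒞(A) → Z ≤ A → A = Z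

theorem exists_ZE [Finite G] (hG : Group.IsSolvable G) : ∃ Z E : Subgroup G, ZE Z E := by
  obtain ⟨A, ⟨hA, hA'⟩, -, hAm⟩ := H1.exists_maximal_ge (fun A : Subgroup G => A.Normal ∧ A ≤ 𝒞(A))
    (N := ⊥) ⟨inferInstance, bot_le⟩
  obtain ⟨E, ⟨hE, h1, h2⟩, h3, hEm⟩ := H1.exists_maximal_ge
    (fun E : Subgroup G => E.Normal ∧ E ≤ 𝒞(A) ∧ ⁅E, E⁆ ≤ A) (N := A)
    ⟨hA, hA', comm_le_left (le_norm_self A)⟩
  refine ⟨A, E, hA, hE, h3, h1, h2, by_contra fun h => ?_, fun B a b c => hAm B ⟨a, b⟩ c⟩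
  obtain ⟨M, ⟨m1, m2⟩, m3, m4⟩ := H1.exists_minimal_le (fun M : Subgroup G => M.Normal ∧ ¬ M ≤ A)
    (N := 𝒞(E)) ⟨inferInstance, h⟩
  have m5 : ⁅M, M⁆ ≤ A := by_contra fun h' => by
    have := H1.commutator_self_lt (N := M) inferInstance fun h0 => m2 (h0 ▸ bot_le)
    exact this.ne (m4 _ ⟨inferInstance, h'⟩ this.le)
  have m6 : ⁅M, E⁆ ≤ A := (le_cent_iff_comm.1 m3).le.trans bot_le
  have m7 : M ≤ 𝒞(A) := m3.trans (cent_anti h3)
  have hs : ∀ {X Y Z : Subgroup G}, ⁅X, Z⁆ ≤ A → ⁅Y, Z⁆ ≤ A → ⁅X ⊔ Y, Z⁆ ≤ A := fun a b =>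
    comm_sup_left_le a b le_normalizer_of_normal le_normalizer_of_normal
  have m8 : M ≤ E := le_sup_right.trans (hEm (E ⊔ M) ⟨inferInstance, sup_le h1 m7, hs
    (by rw [commutator_comm]; exact hs h2 m6)
    (by rw [commutator_comm]; exact hs (by rwa [commutator_comm]) m5)⟩ le_sup_left).le
  refine m2 (le_sup_right.trans (hAm (A ⊔ M) ⟨inferInstance, ?_⟩ le_sup_left).le)
  rw [cent_sup]
  exact le_inf (sup_le hA' m7) (sup_le (cent_comm m7) (m3.trans (cent_anti m8)))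

variable {K : Type*} [Field K] {Z E : Subgroup G}

/-- the character `u ↦ κ ⁅x, u⁆` -/
def chi (κ : Z →* Kˣ) {U : Subgroup G} (hU : U ≤ 𝒞(Z)) (x : G) (hx : ∀ u ∈ U, ⁅x, u⁆ ∈ Z) :
    U →* Kˣ := MonoidHom.mk' (fun u => κ ⟨⁅x, u.1⁆, hx u u.2⟩) fun u v => by
  rw [← map_mul]
  congr 1
  apply Subtype.ext
  have := hU u.2 _ (hx v v.2)
  show ⁅x, u.1 * v.1⁆ = ⁅x, u.1⁆ * ⁅x, v.1⁆
  rw [← mul_inv_cancel_right ⁅x, v.1⁆ u.1, this]
  simp only [commutatorElement_def]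
  group

theorem inv_mul_mem_cent {U : Subgroup G} {x y : G} (h : ∀ u ∈ U, ⁅x, u⁆ = ⁅y, u⁆) :
    x⁻¹ * y ∈ 𝒞(U) := fun u hu => by
  have := h u hu
  simp only [commutatorElement_def, mul_left_inj] at this
  calc u * (x⁻¹ * y) = x⁻¹ * (x * u * x⁻¹) * y := by group
    _ = x⁻¹ * y * u := by rw [this]; group

variable [Finite G] (κ : Z →* Kˣ) (hκ : Function.Injective κ)
include hκ

theorem hb {X U Y : Subgroup G} (hU : U ≤ 𝒞(Z)) (hXU : ⁅X, U⁆ ≤ Z) (hY : Y ≤ 𝒞(X))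
    (hUY : ⁅U, U⁆ ≤ Y) : (𝒞(U)).relIndex X ≤ Y.relIndex U := by
  have : (Y.subgroupOf U).Normal := ⟨fun n hn g => by
    have : ⁅g.1, n.1⁆ * n.1 ∈ Y := mul_mem (hUY (commutator_mem_commutator g.2 n.2)) hn
    rwa [commutatorElement_def, inv_mul_cancel_right] at this⟩
  let χ : X → (U ⧸ Y.subgroupOf U →* K) := fun x => QuotientGroup.lift _
    ((Units.coeHom K).comp (chi κ hU x fun u hu => hXU (commutator_mem_commutator x.2 hu)))
    fun y hy => by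
      have : ⁅x.1, y.1⁆ = 1 := commutatorElement_eq_one_iff_mul_comm.2 (hY hy x x.2)
      show ((κ ⟨⁅x.1, y.1⁆, _⟩ : Kˣ) : K) = 1
      simp only [this]
      exact congrArg Units.val (map_one κ)
  have hi : Function.Injective fun a : X ⧸ (𝒞(U)).subgroupOf X => χ a.out := fun a b e => by
    rw [← a.out_eq', ← b.out_eq', QuotientGroup.eq]
    exact inv_mul_mem_cent fun u hu => congrArg Subtype.val
      (hκ (Units.ext (DFunLike.congr_fun e ((⟨u, hu⟩ : U) : U ⧸ Y.subgroupOf U))))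
  letI := Fintype.ofFinite (X ⧸ (𝒞(U)).subgroupOf X)
  letI := Fintype.ofFinite (U ⧸ Y.subgroupOf U)
  have := ((linearIndependent_monoidHom _ K).comp _ hi).fintype_card_le_finrank
  rwa [finrank_fintype_fun_eq_card, ← Nat.card_eq_fintype_card, ← Nat.card_eq_fintype_card] at this

namespace ZE
variable (h : ZE Z E)
include h

theorem exists_sq : ∃ e : ℕ, Z.relIndex E = e ^ 2 := by
  obtain ⟨T, ⟨t1, t2⟩, t3, t4⟩ := H1.exists_maximal_ge (fun T : Subgroup G => T ≤ E ∧ T ≤ 𝒞(T))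
    (N := Z) ⟨h.le, h.le.trans h.cent⟩
  have t5 : 𝒞(T) ⊓ E = T := le_antisymm (fun x hx => by
    have h1 : zpowers x ≤ 𝒞(T) := zpowers_le.2 hx.1
    refine (t4 (T ⊔ zpowers x) ⟨sup_le t1 (zpowers_le.2 hx.2), ?_⟩ le_sup_left).le
      (mem_sup_right (mem_zpowers x))
    rw [cent_sup]
    exact le_inf (sup_le t2 h1) (sup_le (cent_comm h1) (le_centralizer _))) (le_inf t2 t1)
  have t6 : 𝒞(E) ⊓ T = Z :=
    le_antisymm (inf_le_left.trans h.self) (le_inf (cent_comm h.cent) t3)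
  have a := hb κ hκ (X := E) (U := T) (Y := Z) (t1.trans h.cent)
    ((commutator_mono le_rfl t1).trans h.comm) (cent_comm h.cent)
    ((commutator_mono t1 t1).trans h.comm)
  have b := hb κ hκ (X := T) (U := E) (Y := T) h.cent
    ((commutator_mono t1 le_rfl).trans h.comm) t2 (h.comm.trans t3)
  rw [← inf_relIndex_right, t5] at a
  rw [← inf_relIndex_right, t6] at b
  exact ⟨T.relIndex E, by rw [← relIndex_mul_relIndex Z T E t3 t1, le_antisymm b a, sq]⟩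

theorem prime_dvd {r : ℕ} (hr : r.Prime) (hd : r ∣ Z.relIndex E) : r ∣ Nat.card Z := by
  have := h.nZ
  haveI := Fact.mk hr
  obtain ⟨q, hq⟩ := exists_prime_orderOf_dvd_card' (G := E ⧸ Z.subgroupOf E) r hd
  obtain ⟨x, rfl⟩ := QuotientGroup.mk_surjective q
  have h1 : x.1 ∉ Z := fun e => by
    rw [(QuotientGroup.eq_one_iff x).2 e, orderOf_one] at hq
    exact hr.one_lt.ne hq
  have h2 : (x ^ r).1 ∈ Z := (QuotientGroup.eq_one_iff (N := Z.subgroupOf E) (x ^ r)).1 (by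
    rw [QuotientGroup.mk_pow, ← hq, pow_orderOf_eq_one])
  obtain ⟨y, hy, h3⟩ : ∃ y ∈ E, ⁅y, x.1⁆ ≠ 1 := by
    by_contra hc
    push Not at hc
    exact h1 (h.self fun y hy => commutatorElement_eq_one_iff_mul_comm.1 (hc y hy))
  have h4 : ∀ u ∈ E, ⁅y, u⁆ ∈ Z := fun u hu => h.comm (commutator_mem_commutator hy hu)
  have h5 : (⟨⁅y, x.1⁆, h4 x x.2⟩ : Z) ^ r = 1 := hκ (by
    rw [map_pow, map_one]
    show chi κ h.cent y h4 x ^ r = 1
    rw [← map_pow]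
    have : ⁅y, (x ^ r).1⁆ = 1 := commutatorElement_eq_one_iff_mul_comm.2 (h.cent hy _ h2).symm
    show κ ⟨⁅y, (x ^ r).1⁆, _⟩ = 1
    simp only [this]
    exact map_one κ)
  rw [← orderOf_eq_prime h5 fun e => h3 (congrArg Subtype.val e)]
  exact orderOf_dvd_natCard _

theorem compl {U : Subgroup G} [U.Normal] (h1 : Z ≤ U) (h2 : U ≤ E) :
    U ⊓ 𝒞(U) = Z ∧ U ⊔ (E ⊓ 𝒞(U)) = E := by
  have := h.nE
  have a : U ⊓ 𝒞(U) = Z := h.max _ inferInstance (inf_le_right.trans (cent_anti inf_le_left))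
    (le_inf h1 (cent_comm (h2.trans h.cent)))
  refine ⟨a, le_antisymm (sup_le h2 inf_le_left) ?_⟩
  have b := hb κ hκ (X := E) (U := U) (Y := Z) (h2.trans h.cent)
    ((commutator_mono le_rfl h2).trans h.comm) (cent_comm h.cent)
    ((commutator_mono h2 h2).trans h.comm)
  rw [← inf_relIndex_right, inf_comm] at b
  have c : (E ⊓ 𝒞(U)).relIndex (U ⊔ (E ⊓ 𝒞(U))) = Z.relIndex U := by
    rw [relIndex_sup_right, ← inf_relIndex_right, inf_comm, ← inf_assoc, inf_eq_left.2 h2, a]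
  have d := relIndex_mul_relIndex (E ⊓ 𝒞(U)) (U ⊔ (E ⊓ 𝒞(U))) E le_sup_right
    (sup_le h2 inf_le_left)
  have e : 0 < Z.relIndex U := Nat.pos_of_ne_zero (index_ne_zero_of_finite)
  have f : 0 < (U ⊔ (E ⊓ 𝒞(U))).relIndex E := Nat.pos_of_ne_zero (index_ne_zero_of_finite)
  rw [← relIndex_eq_one]
  rw [c] at d
  nlinarith

theorem exists_C {n : ℕ} (hP : P n) (hG : Odd (Nat.card G)) : ∃ C : Subgroup G,
    (∀ a, a ∈ C ↔ ∀ y ∈ E, ⁅a, y⁆ ∈ Z) ∧ (Z.relIndex E < n → C.index ≤ Z.relIndex E ^ 2) ∧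
    (Z.relIndex E = 9 → C.index ≤ 1) ∧ (Z.relIndex E = 25 → C.index ≤ 15) ∧
    (Z.relIndex E = 49 → C.index ≤ 63) ∧ (Z.relIndex E = 81 → C.index ≤ 39) := by
  have := h.nZ
  have := h.nE
  let N := E.map (QuotientGroup.mk' Z)
  have : N.Normal := h.nE.map _ (QuotientGroup.mk'_surjective Z)
  have key : ∀ a y : G, ⁅a, y⁆ ∈ Z ↔ (a : G ⧸ Z) * y * (a : G ⧸ Z)⁻¹ = y := fun a y => by
    rw [← QuotientGroup.eq_one_iff, commutatorElement_def, QuotientGroup.mk_mul,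
      QuotientGroup.mk_mul, QuotientGroup.mk_mul, QuotientGroup.mk_inv, QuotientGroup.mk_inv,
      mul_inv_eq_one]
  have : IsMulCommutative N := ⟨⟨by
    rintro ⟨_, a, ha, rfl⟩ ⟨_, b, hb, rfl⟩
    exact Subtype.ext (mul_inv_eq_iff_eq_mul.1 ((key a b).1
      (h.comm (commutator_mem_commutator ha hb))))⟩⟩
  letI := conjAct N
  have hc : CR (G ⧸ Z) (Additive N) := conj_cr N fun U hU hU' => by
    have u1 : Z ≤ U.comap (QuotientGroup.mk' Z) := QuotientGroup.le_comap_mk' Z U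
    have u2 : U.comap (QuotientGroup.mk' Z) ≤ E := by
      refine (comap_mono hU).trans ?_
      rw [comap_map_eq, QuotientGroup.ker_mk', sup_eq_left.2 h.le]
    obtain ⟨a, b⟩ := h.compl κ hκ u1 u2
    refine ⟨(E ⊓ 𝒞(U.comap (QuotientGroup.mk' Z))).map (QuotientGroup.mk' Z), map_mono inf_le_left,
      Normal.map inferInstance _ (QuotientGroup.mk'_surjective Z), ?_, ?_⟩
    · rw [eq_bot_iff]
      rintro _ ⟨hx, w, hw, rfl⟩
      exact (QuotientGroup.eq_one_iff w).2 (a.le ⟨hx, hw.2⟩)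
    · nth_rewrite 1 [← map_comap_eq_self_of_surjective (QuotientGroup.mk'_surjective Z) U]
      rw [← Subgroup.map_sup, b]
  have hQ : Odd (Nat.card (G ⧸ Z)) := hG.of_dvd_nat (card_quotient_dvd_card Z)
  have hR := odd_range hQ (toPermHom (G ⧸ Z) (Additive N))
  have hm : Nat.card (Additive N) = Z.relIndex E := by
    rw [show Nat.card (Additive N) = Nat.card N from rfl, ← relIndex_ker, QuotientGroup.ker_mk']
  refine ⟨(toPermHom (G ⧸ Z) (Additive N)).ker.comap (QuotientGroup.mk' Z), fun a => ?_, ?_⟩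
  · rw [mem_comap, MonoidHom.mem_ker, Equiv.ext_iff]
    refine ⟨fun e y hy => (key a y).2 ((conj_fix_iff N _ _).1
      (e (Additive.ofMul ⟨_, y, hy, rfl⟩))), fun e => ?_⟩
    rintro ⟨_, y, hy, rfl⟩
    exact (conj_fix_iff N _ _).2 ((key a y).1 (e y hy))
  rw [index_comap_of_surjective _ (QuotientGroup.mk'_surjective Z), index_ker, ← hm]
  exact ⟨fun e => (hP.univ hR e hc.fa).card_le, hc.fa.bd9 hR, hc.fa.bd25 hR, hc.fa.bd49 hR,
    hc.fa.bd81 hR⟩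

end ZE

end H25.B2
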