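import Cfsg.Agent.H25.B2e

/-! Bases of size two for odd order linear groups, VI: fixed spaces and counting. -/

set_option autoImplicit false

namespace H25.B2

open Subgroup MulAction H15 Module
open scoped commutatorElement

theorem pow9_le {e w : ℕ} (he : Odd e) (h : 11 ≤ e) (hw : ∀ r, r.Prime → r ∣ e → r < w) :
    e ^ 9 ≤ w ^ e := by
  by_cases h1 : 20 ≤ e
  · have h4 : 4 ≤ w := by
      have := hw _ (Nat.minFac_prime (by omega)) e.minFac_dvd
      have h2 := (Nat.minFac_prime (n := e) (by omega)).two_le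
      have h3 : e.minFac ≠ 2 := fun e' => (Nat.not_even_iff_odd.2 he)
        (even_iff_two_dvd.2 (e' ▸ e.minFac_dvd))
      omega
    refine le_trans ?_ (Nat.pow_le_pow_left h4 e)
    clear hw h he
    induction e, h1 using Nat.le_induction with
    | base => norm_num
    | succ k hk ih =>
      have a : (20 * (k + 1)) ^ 9 ≤ (21 * k) ^ 9 := Nat.pow_le_pow_left (by omega) 9
      rw [mul_pow, mul_pow] at a
      rw [pow_succ 4]
      omega
  have key : ∀ r, r.Prime → r ∣ e → e ^ 9 ≤ (r + 1) ^ e → e ^ 9 ≤ w ^ e := fun r a b c =>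
    c.trans (Nat.pow_le_pow_left (hw r a b) e)
  obtain ⟨k, rfl⟩ := he
  have h2 : k < 10 := by omega
  have h3 : 5 ≤ k := by omega
  interval_cases k
  · exact key 11 (by norm_num) (by norm_num) (by norm_num)
  · exact key 13 (by norm_num) (by norm_num) (by norm_num)
  · exact key 5 (by norm_num) (by norm_num) (by norm_num)
  · exact key 17 (by norm_num) (by norm_num) (by norm_num)
  · exact key 19 (by norm_num) (by norm_num) (by norm_num)

theorem num {e w k n c : ℕ} (he : Odd e) (h3 : 3 ≤ e) (hw : ∀ r, r.Prime → r ∣ e → r < w)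
    (hk : 2 * k ≤ w) (hn : n < w) (hc : c ≤ (e ^ 2) ^ 2) (c3 : e ^ 2 = 9 → c ≤ 1)
    (c5 : e ^ 2 = 25 → c ≤ 15) (c7 : e ^ 2 = 49 → c ≤ 63) (c9 : e ^ 2 = 81 → c ≤ 39) :
    (c ≤ 1 ∨ (e ^ 2 * c) ^ 3 ≤ (w ^ e) ^ 2) ∧ n * (e ^ 2 * c) * k < w ^ e := by
  have fin : ∀ j M, e = j + 2 → M ≤ 2 * w ^ j → n * M * k < w ^ e := fun j M h1 h2 => by
    have h0 : 0 < w ^ j := pow_pos (by omega) j
    have a : n * M * (2 * k) ≤ n * (2 * w ^ j) * w := by gcongr
    have b : n * (w ^ j * w) < w * (w ^ j * w) :=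
      Nat.mul_lt_mul_of_pos_right hn (Nat.mul_pos h0 (by omega))
    rw [h1, pow_add]
    nlinarith
  have sm : ∀ r b j, r.Prime → r ∣ e → c ≤ b → e = j + 2 → (e ^ 2 * b) ^ 3 ≤ ((r + 1) ^ e) ^ 2 →
      e ^ 2 * b ≤ 2 * (r + 1) ^ j →
      (c ≤ 1 ∨ (e ^ 2 * c) ^ 3 ≤ (w ^ e) ^ 2) ∧ n * (e ^ 2 * c) * k < w ^ e :=
    fun r b j h1 h2 h4 h5 h6 h7 => by
      have h8 : r + 1 ≤ w := hw r h1 h2
      refine ⟨Or.inr (le_trans (by gcongr) (h6.trans (by gcongr))), fin j _ h5
        (le_trans (by gcongr) (h7.trans (by gcongr)))⟩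
  by_cases h : 11 ≤ e
  · have a := pow9_le he h hw
    have h1 : 1 ≤ w := by omega
    have b : (e ^ 2 * c) ^ 3 ≤ (w ^ e) ^ 2 := calc
      _ ≤ (e ^ 2 * (e ^ 2) ^ 2) ^ 3 := by gcongr
      _ = (e ^ 9) ^ 2 := by ring
      _ ≤ _ := by gcongr
    refine ⟨Or.inr b, fin (e - 2) _ (by omega) (le_trans ?_ (Nat.le_mul_of_pos_left _ two_pos))⟩
    refine (Nat.pow_le_pow_iff_left three_ne_zero).1 (b.trans ?_)
    rw [← pow_mul, ← pow_mul]
    exact Nat.pow_le_pow_right h1 (by omega)
  obtain ⟨j, rfl⟩ := he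
  have h1 : j < 5 := by omega
  have h2 : 1 ≤ j := by omega
  interval_cases j
  · have a := c3 rfl
    have b := hw 3 (by norm_num) (by norm_num)
    refine ⟨Or.inl a, ?_⟩
    have d : n * (9 * c) * (2 * k) ≤ (w - 1) * (9 * 1) * w := by gcongr; omega
    obtain ⟨t, rfl⟩ : ∃ t, w = t + 4 := ⟨w - 4, by omega⟩
    rw [show t + 4 - 1 = t + 3 from rfl] at d
    show n * (9 * c) * k < (t + 4) ^ 3
    nlinarith [Nat.zero_le (t ^ 3), Nat.zero_le (t ^ 2)]
  · exact sm 5 15 3 (by norm_num) (by norm_num) (c5 rfl) rfl (by norm_num) (by norm_num)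
  · exact sm 7 63 5 (by norm_num) (by norm_num) (c7 rfl) rfl (by norm_num) (by norm_num)
  · exact sm 3 39 7 (by norm_num) (by norm_num) (c9 rfl) rfl (by norm_num) (by norm_num)

theorem sq_lt_two_pow (k : ℕ) : k ^ 2 < 2 ^ (k + 1) := by
  by_cases h : k < 3
  · interval_cases k <;> norm_num
  push Not at h
  induction k, h using Nat.le_induction with
  | base => norm_num
  | succ k hk ih => rw [pow_succ 2]; nlinarith

theorem indep_of_chars {K W ι J : Type*} [Field K] [AddCommGroup W] [Module K W]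
    (f : J → W →ₗ[K] W) (v : ι → W) (χ : ι → J → K) (hv : ∀ i, v i ≠ 0)
    (h : ∀ i j, f j (v i) = χ i j • v i) (hχ : Function.Injective χ) : LinearIndependent K v := by
  classical
  rw [linearIndependent_iff']
  intro s
  induction s using Finset.induction_on with
  | empty => simp
  | insert a s ha ih =>
    intro g hg
    rw [Finset.sum_insert ha] at hg
    have h1 : ∀ b ∈ s, g b = 0 := fun b hb => by
      obtain ⟨j, hj⟩ := Function.ne_iff.1 (hχ.ne (show b ≠ a from fun e => ha (e ▸ hb)))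
      have h2 := congrArg (f j) hg
      simp only [map_add, map_sum, map_smul, map_zero, h] at h2
      refine (mul_eq_zero.1 (ih (fun i => g i * (χ i j - χ a j)) ?_ b hb)).resolve_right
        (sub_ne_zero.2 hj)
      have h3 : ∑ i ∈ s, (g i * (χ i j - χ a j)) • v i =
          ∑ i ∈ s, g i • χ i j • v i - χ a j • ∑ i ∈ s, g i • v i := by
        rw [Finset.smul_sum, ← Finset.sum_sub_distrib]
        exact Finset.sum_congr rfl fun i _ => by module
      rw [h3]
      linear_combination (norm := module) h2 - χ a j • hg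
    rw [Finset.sum_eq_zero fun i hi => by rw [h1 i hi, zero_smul], add_zero] at hg
    intro i hi
    rcases Finset.mem_insert.1 hi with rfl | hi
    · exact (smul_eq_zero.1 hg).resolve_right (hv i)
    · exact h1 i hi

variable {G V : Type*} [Group G] [AddCommGroup V] [Finite V] [DistribMulAction G V]

theorem card_mul_le (X Y : AddSubgroup V) :
    Nat.card X * Nat.card Y ≤ Nat.card V * Nat.card ↥(X ⊓ Y) := by
  have a := AddSubgroup.relIndex_mul_relIndex ⊥ (Y ⊓ X) X bot_le inf_le_right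
  rw [AddSubgroup.relIndex_bot_left, AddSubgroup.relIndex_bot_left,
    AddSubgroup.inf_relIndex_right, inf_comm] at a
  have b : Y.relIndex X ≤ Y.index := by
    rw [← AddSubgroup.relIndex_top_right]
    exact AddSubgroup.relIndex_le_of_le_right le_top AddSubgroup.index_ne_zero_of_finite
  rw [← a, ← Y.card_mul_index]
  calc _ ≤ Nat.card ↥(X ⊓ Y) * Y.index * Nat.card Y := by gcongr
    _ = _ := by ring

omit [Finite V] in
theorem card_fx_conj (y g : G) : Nat.card (fx V (y * g * y⁻¹)) = Nat.card (fx V g) :=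
  (Nat.card_congr ((MulAction.toPerm y).subtypeEquiv fun v => by
    simp only [mem_fx, toPerm_apply, mul_smul, inv_smul_smul, smul_left_cancel_iff])).symm

theorem card_fx_sq (g y : G) :
    Nat.card (fx V g) ^ 2 ≤ Nat.card V * Nat.card (fx V ⁅g, y⁆) := by
  have := card_mul_le (fx V g) (fx V (y * g * y⁻¹))
  rw [card_fx_conj, ← sq] at this
  refine this.trans (Nat.mul_le_mul_left _ (AddSubgroup.card_le_of_le fun v hv => ?_))
  rw [mem_fx, show ⁅g, y⁆ = g * (y * g * y⁻¹)⁻¹ by rw [commutatorElement_def]; group, mul_smul,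
    inv_smul_eq_iff.2 (mem_fx.1 hv.2).symm, mem_fx.1 hv.1]

theorem two_sq_le [Fintype G] [DecidableEq G] (hG : Odd (Nat.card G)) (h : ¬ Bs G V) :
    2 * Nat.card V ^ 2 ≤ ∑ g ∈ Finset.univ.erase (1 : G), Nat.card (fx V g) ^ 2 := by
  classical
  letI := Fintype.ofFinite V
  have e := Finset.sum_card_bipartiteAbove_eq_sum_card_bipartiteBelow
    (s := Finset.univ.erase (1 : G)) (t := (Finset.univ : Finset (V × V))) fun g x => g • x = x
  have e1 : ∀ g : G, Nat.card (fx V g) ^ 2 =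
      (Finset.bipartiteAbove (fun (g : G) (x : V × V) => g • x = x) Finset.univ g).card := fun g => by
    rw [sq, ← Nat.card_prod, ← Nat.card_eq_finsetCard]
    refine Nat.card_congr ((Equiv.subtypeProdEquivProd).symm.trans
      (Equiv.subtypeEquivRight fun x => ?_))
    simp [mem_fx, Prod.ext_iff]
  simp only [e1]
  rw [e, sq, ← Nat.card_prod, Nat.card_eq_fintype_card, mul_comm, ← Finset.card_univ, ← smul_eq_mul]
  refine Finset.card_nsmul_le_sum _ _ _ fun x _ => ?_
  obtain ⟨g, h1, h2, h3⟩ : ∃ g : G, g • x.1 = x.1 ∧ g • x.2 = x.2 ∧ ¬ ∀ u : V, g • u = u := by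
    by_contra hc
    push Not at hc
    exact h ⟨x.1, x.2, hc⟩
  have h4 : g ≠ 1 := fun e => h3 (by simp [e])
  have h5 : g • x = x := Prod.ext h1 h2
  refine Finset.one_lt_card.2 ⟨g, by simp [h4, h5], g⁻¹, by simp [h4, inv_smul_eq_iff, h5],
    fun e => h4 ?_⟩
  have : g • (1 : G) = 1 := odd_fix hG (by
    rw [smul_eq_mul, smul_eq_mul, mul_one]; nth_rewrite 1 [e]; simp)
  simpa using this

theorem bs_of_count [Finite G] (hG : Odd (Nat.card G)) (hN : Nat.card G < Nat.card V) {B : ℕ}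
    (h1 : {g : G | g ≠ 1 ∧ Nat.card V < Nat.card (fx V g) ^ 2}.ncard ≤ B)
    (h2 : ∀ g : G, g ≠ 1 → Nat.card V < Nat.card (fx V g) ^ 2 →
      Nat.card (fx V g) ^ 2 * B ≤ Nat.card V ^ 2) : Bs G V := by
  classical
  letI := Fintype.ofFinite G
  by_contra h
  have a := two_sq_le hG h
  rw [← Finset.sum_filter_add_sum_filter_not _ fun g => Nat.card V < Nat.card (fx V g) ^ 2] at a
  set S := (Finset.univ.erase (1 : G)).filter fun g => Nat.card V < Nat.card (fx V g) ^ 2
  have b : S.card ≤ B := by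
    rw [← Set.ncard_coe_finset]
    convert h1
    ext g
    simp [S]
  have c : ∑ g ∈ S, Nat.card (fx V g) ^ 2 ≤ Nat.card V ^ 2 := by
    rcases Nat.eq_zero_or_pos B with rfl | hB
    · rw [Finset.card_eq_zero.1 (Nat.le_zero.1 b)]; simp
    refine Nat.le_of_mul_le_mul_right ?_ hB
    rw [Finset.sum_mul]
    refine (Finset.sum_le_card_nsmul _ _ _ fun g hg => ?_).trans (by
      rw [smul_eq_mul, mul_comm]; exact Nat.mul_le_mul_left _ b)
    simp only [S, Finset.mem_filter, Finset.mem_erase] at hg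
    exact h2 g hg.1.1 hg.2
  have d := Finset.sum_le_card_nsmul ((Finset.univ.erase (1 : G)).filter
    fun g => ¬ Nat.card V < Nat.card (fx V g) ^ 2) (fun g => Nat.card (fx V g) ^ 2) (Nat.card V)
    fun g hg => not_lt.1 (Finset.mem_filter.1 hg).2
  have e := Finset.card_le_univ ((Finset.univ.erase (1 : G)).filter
    fun g => ¬ Nat.card V < Nat.card (fx V g) ^ 2)
  rw [← Nat.card_eq_fintype_card] at e
  rw [smul_eq_mul] at d
  nlinarith

theorem bs_of_stab [Finite G] (v : V) {k : ℕ} (h1 : Nat.card (stabilizer G v) ≤ k)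
    (h2 : 2 ^ k ≤ Nat.card V)
    (h3 : ∀ g : G, g ≠ 1 → g • v = v → Nat.card (fx V g) ^ 2 ≤ Nat.card V) : Bs G V := by
  classical
  letI := Fintype.ofFinite G
  letI := Fintype.ofFinite V
  by_contra h
  set T := (Finset.univ.filter fun g : G => g • v = v).erase 1
  have hk : 1 ≤ k := Nat.card_pos.trans_le h1
  obtain ⟨k, rfl⟩ : ∃ j, k = j + 1 := ⟨k - 1, by omega⟩
  have a : T.card ≤ k := by
    rw [Finset.card_erase_of_mem (by simp), ← Nat.card_eq_finsetCard]
    rw [Nat.card_congr (Equiv.subtypeEquivRight (q := (· ∈ stabilizer G v)) (by simp))]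
    exact Nat.sub_le_of_le_add h1
  have b : Nat.card V ≤ ∑ g ∈ T, Nat.card (fx V g) := by
    have : (Finset.univ : Finset V) ⊆ T.biUnion fun g => Finset.univ.filter (· ∈ fx V g) :=
      fun w _ => by
        obtain ⟨g, h1, h2, h3⟩ : ∃ g : G, g • v = v ∧ g • w = w ∧ ¬ ∀ u : V, g • u = u := by
          by_contra hc
          push Not at hc
          exact h ⟨v, w, hc⟩
        have h4 : g ≠ 1 := fun e => h3 (by simp [e])
        exact Finset.mem_biUnion.2 ⟨g, by simp [T, h1, h4], by simp [mem_fx, h2]⟩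
    have := (Finset.card_le_card this).trans Finset.card_biUnion_le
    rw [Nat.card_eq_fintype_card]
    refine this.trans (Finset.sum_le_sum fun g _ => ?_)
    rw [Nat.card_eq_fintype_card, Fintype.card_subtype]
  have c := (sq_lt_two_pow k).trans_le h2
  have d : ∑ g ∈ T, Nat.card (fx V g) * k ≤ T.card • (Nat.card V - 1) :=
    Finset.sum_le_card_nsmul _ _ _ fun g hg => by
      simp only [T, Finset.mem_erase, Finset.mem_filter] at hg
      have := h3 g hg.1 hg.2.2
      refine Nat.le_sub_one_of_lt (lt_of_pow_lt_pow_left₀ 2 (Nat.zero_le _) ?_)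
      rw [mul_pow, sq (Nat.card V)]
      exact (Nat.mul_le_mul_right _ this).trans_lt (Nat.mul_lt_mul_of_pos_left c Nat.card_pos)
  rw [← Finset.sum_mul, smul_eq_mul] at d
  have e : 0 < Nat.card V := Nat.card_pos
  rcases Nat.eq_zero_or_pos k with rfl | hk
  · rw [Finset.card_eq_zero.1 (Nat.le_zero.1 a)] at b
    exact e.ne' (Nat.le_zero.1 b)
  obtain ⟨N, hN⟩ : ∃ N, Nat.card V = N + 1 := ⟨_, (Nat.succ_pred_eq_of_pos e).symm⟩
  rw [hN] at b d
  rw [Nat.add_sub_cancel] at d
  nlinarith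

end H25.B2
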