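import Cfsg.Agent.H25.B2f

/-! Bases of size two for odd order linear groups, VII: the quasi-primitive case. -/

set_option autoImplicit false

namespace H25.B2

open Subgroup MulAction H15 Module
open scoped commutatorElement

section Prim
variable {G V K : Type*} [Group G] [Finite G] [AddCommGroup V] [Finite V] [DistribMulAction G V]
  [Field K] [Module K V] {Z E : Subgroup G} (κ : Z →* Kˣ) (hκ : Function.Injective κ)
  (hz : ∀ (z : Z) (v : V), z.1 • v = (κ z : K) • v)
  (hl : ∀ g ∈ 𝒞(Z), ∀ (k : K) (v : V), g • k • v = k • g • v)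
include hκ hz

omit [Finite G] [Finite V] in
theorem fx_bot {z : G} (h : z ∈ Z) (h1 : z ≠ 1) : fx V z = ⊥ :=
  (AddSubgroup.eq_bot_iff_forall _).2 fun v hv => by
    have e : ((κ ⟨z, h⟩ : K) - 1) • v = 0 := by
      rw [sub_smul, one_smul, ← hz ⟨z, h⟩, mem_fx.1 hv, sub_self]
    refine (smul_eq_zero.1 e).resolve_left fun e' => h1 ?_
    exact congrArg Subtype.val (hκ (a₁ := ⟨z, h⟩) (a₂ := 1)
      (Units.ext (by rw [map_one]; exact sub_eq_zero.1 e')))

omit [Finite G] in
theorem fx_off [Z.Normal] {g : G} (hg : g ∉ 𝒞(Z)) : Nat.card (fx V g) ^ 2 ≤ Nat.card V := by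
  obtain ⟨y, hy, h⟩ : ∃ y ∈ Z, ⁅g, y⁆ ≠ 1 := by
    by_contra hc
    push Not at hc
    exact hg fun y hy => (commutatorElement_eq_one_iff_mul_comm.1 (hc y hy)).symm
  have := card_fx_sq (V := V) g y
  rwa [fx_bot κ hκ hz (commutator_le_right ⊤ Z (commutator_mem_commutator trivial hy)) h,
    AddSubgroup.card_bot, mul_one] at this

include hl

theorem fx_cube (hG : Odd (Nat.card G)) {g y : G} (hg : g ∈ 𝒞(Z)) (hy : y ∈ 𝒞(Z))
    (h : ⁅g, y⁆ ∈ Z) (h1 : ⁅g, y⁆ ≠ 1) : Nat.card (fx V g) ^ 3 ≤ Nat.card V := by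
  set l : K := ((κ ⟨_, h⟩ : Kˣ) : K)
  have l1 : l - 1 ≠ 0 := fun e => h1 (congrArg Subtype.val (hκ (a₁ := ⟨_, h⟩) (a₂ := 1)
      (Units.ext (by rw [map_one]; exact sub_eq_zero.1 e))))
  have l2 : l * l - 1 ≠ 0 := fun e => h1 (by
    have a : (⟨_, h⟩ : Z) * ⟨_, h⟩ = 1 :=
      hκ (Units.ext (by rw [map_one, map_mul]; exact sub_eq_zero.1 e))
    have b : ⁅g, y⁆ • (1 : G) = 1 := odd_fix hG (by simpa using congrArg Subtype.val a)
    simpa using b)
  have l0 : l ≠ 0 := Units.ne_zero _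
  have e1 : g = ⁅g, y⁆ * (y * g * y⁻¹) := by rw [commutatorElement_def]; group
  have e2 : g = ⁅g, y⁆ * ⁅g, y⁆ * (y * (y * g * y⁻¹) * y⁻¹) := by
    nth_rewrite 1 [e1]
    nth_rewrite 2 [e1]
    rw [← mul_assoc y, ← hy _ h]
    simp only [mul_assoc]
  let f : fx V g × fx V (y * g * y⁻¹) × fx V (y * (y * g * y⁻¹) * y⁻¹) →+ V :=
    (AddSubgroup.subtype _).coprod ((AddSubgroup.subtype _).coprod (AddSubgroup.subtype _))
  have hf : Function.Injective f := (injective_iff_map_eq_zero f).2 fun ⟨a, b, c⟩ e => by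
    have e' : a.1 + (b.1 + c.1) = 0 := e
    have ha : g • a.1 = a.1 := a.2
    have hb : g • b.1 = l • b.1 := by
      nth_rewrite 1 [e1]
      rw [mul_smul, mem_fx.1 b.2]; exact hz ⟨_, h⟩ _
    have hc : g • c.1 = l • l • c.1 := by
      nth_rewrite 1 [e2]
      rw [mul_smul, mem_fx.1 c.2, mul_smul, hz ⟨_, h⟩, hz ⟨_, h⟩]
    have a1 := congrArg (g • ·) e'
    simp only [smul_add, smul_zero, ha, hb, hc] at a1
    have a2 := congrArg (g • ·) a1
    simp only [smul_add, smul_zero, ha, hb, hc, hl g hg] at a2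
    have c0 : c.1 = 0 := (smul_eq_zero.1 (show ((l * l - 1) * (l * (l - 1))) • c.1 = 0 by
      linear_combination (norm := module) a2 - (l + 1) • a1 + l • e')).resolve_left
      (mul_ne_zero l2 (mul_ne_zero l0 l1))
    rw [c0] at e' a1
    have b0 : b.1 = 0 := (smul_eq_zero.1 (show (l - 1) • b.1 = 0 by
      linear_combination (norm := module) a1 - e')).resolve_left l1
    rw [b0] at e'
    exact Prod.ext (Subtype.ext (by simpa using e')) (Prod.ext (Subtype.ext b0) (Subtype.ext c0))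
  have := Nat.card_le_card_of_injective f hf
  rwa [Nat.card_prod, Nat.card_prod, card_fx_conj, card_fx_conj, card_fx_conj, ← sq,
    ← pow_succ'] at this

theorem heis [Nontrivial V] (h : ZE Z E) : Z.relIndex E ≤ finrank K V ^ 2 := by
  let L : E → End K V := fun x =>
    { toFun := fun v => x.1 • v, map_add' := smul_add x.1, map_smul' := hl x (h.cent x.2) }
  have hc : ∀ x y : E, ⁅x.1, y.1⁆ ∈ Z := fun x y => h.comm (commutator_mem_commutator x.2 y.2)
  have hli := indep_of_chars (fun y : E => LinearMap.mulLeftRight K (L y, L y⁻¹))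
    (fun a : E ⧸ Z.subgroupOf E => L a.out) (fun a y => (κ ⟨_, hc a.out y⟩⁻¹ : K)) (fun a e => by
      obtain ⟨v, hv⟩ := exists_ne (0 : V)
      exact hv ((smul_eq_zero_iff_eq a.out.1).1 (DFunLike.congr_fun e v))) (fun a y => by
      ext v
      show y.1 • a.out.1 • (y.1)⁻¹ • v = (κ ⟨_, hc a.out y⟩⁻¹ : K) • a.out.1 • v
      rw [← hz, ← mul_smul, ← mul_smul, ← mul_smul]
      congr 1
      show _ = ⁅a.out.1, y.1⁆⁻¹ * a.out.1
      rw [commutatorElement_def]; group) fun a b e => by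
      rw [← a.out_eq', ← b.out_eq', QuotientGroup.eq]
      exact h.self (inv_mul_mem_cent fun u hu => congrArg Subtype.val
        (inv_injective (hκ (Units.ext (congrFun e ⟨u, hu⟩)))))
  letI := Fintype.ofFinite (E ⧸ Z.subgroupOf E)
  have := hli.fintype_card_le_finrank
  rwa [finrank_linearMap, ← sq, ← Nat.card_eq_fintype_card] at this

theorem bs_prim [Nontrivial V] (hP : P (Nat.card V)) (hG : Odd (Nat.card G)) (h : ZE Z E) {k : ℕ}
    (hk : (𝒞(Z)).index ≤ k) (hw : 2 ^ k ≤ Nat.card K) : Bs G V := by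
  have := h.nZ
  have := h.nE
  have : Finite K := finite_scalars K V
  have hN : Nat.card V = Nat.card K ^ finrank K V := natCard_eq_pow_finrank
  have hZ : Z ≤ 𝒞(Z) := h.le.trans h.cent
  have hw0 : 0 < Nat.card K := Nat.card_pos
  obtain ⟨e, he⟩ := h.exists_sq κ hκ
  have hodd : Odd e := by
    have : Odd (Z.relIndex E) := (odd_sub hG E).of_dvd_nat (relIndex_dvd_card Z E)
    rw [he] at this
    exact (Nat.odd_pow_iff two_ne_zero).1 this
  by_cases e1 : e = 1
  · rw [e1, one_pow, relIndex_eq_one] at he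
    have h1 : 𝒞(Z) = Z := le_antisymm ((cent_anti he).trans h.self) hZ
    obtain ⟨v, hv⟩ := exists_ne (0 : V)
    have h2 : ∀ g ∈ Z, g • v = v → g = 1 := fun g hg e => by_contra fun e' =>
      hv (AddSubgroup.mem_bot.1 (fx_bot κ hκ hz hg e' ▸ mem_fx.2 e))
    refine bs_of_stab v (k := k) (le_trans ?_ hk) (hw.trans (hN ▸ Nat.le_self_pow finrank_pos.ne' _))
      fun g hg e => fx_off κ hκ hz (h1.symm ▸ fun e' => hg (h2 g e' e))
    rw [h1, ← relIndex_bot_left, ← (eq_bot_iff_forall (Z ⊓ stabilizer G v)).2 fun g hg =>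
      h2 g hg.1 hg.2, inf_relIndex_right, ← relIndex_top_right]
    exact relIndex_le_of_le_right le_top index_ne_zero_of_finite
  have e3 : 3 ≤ e := by obtain ⟨j, rfl⟩ := hodd; omega
  have hn : Nat.card Z < Nat.card K := by
    have := Nat.card_le_card_of_injective κ hκ
    rw [Nat.card_units] at this
    omega
  have hr : ∀ r, r.Prime → r ∣ e → r < Nat.card K := fun r a b =>
    (Nat.le_of_dvd Nat.card_pos (h.prime_dvd κ hκ a (he ▸ b.trans (dvd_pow_self e two_ne_zero)))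
      ).trans_lt hn
  have hd : e ≤ finrank K V := (Nat.pow_le_pow_iff_left two_ne_zero).1 (he ▸ heis κ hκ hz hl h)
  have hN' : Nat.card K ^ e ≤ Nat.card V := hN ▸ Nat.pow_le_pow_right hw0 hd
  obtain ⟨C, hC, c0, c3, c5, c7, c9⟩ := h.exists_C κ hκ hP hG
  rw [he] at c0 c3 c5 c7 c9
  have w4 : 4 ≤ Nat.card K := by
    have := hr _ (Nat.minFac_prime e1) e.minFac_dvd
    have h2 := (Nat.minFac_prime e1).two_le
    have h3 : e.minFac ≠ 2 := fun e' => (Nat.not_even_iff_odd.2 hodd)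
      (even_iff_two_dvd.2 (e' ▸ e.minFac_dvd))
    omega
  obtain ⟨n1, n2⟩ := num (k := k) hodd e3 hr (le_trans (by
      rcases k with _ | k
      · simp
      · rw [pow_succ, mul_comm]; exact Nat.mul_le_mul_right _ Nat.lt_two_pow_self) hw) hn
    (c0 (lt_of_lt_of_le (by
      calc e ^ 2 < (2 ^ e) ^ 2 := Nat.pow_lt_pow_left Nat.lt_two_pow_self two_ne_zero
        _ = 4 ^ e := by rw [← pow_mul, mul_comm, pow_mul]; rfl
        _ ≤ _ := Nat.pow_le_pow_left w4 e) hN')) c3 c5 c7 c9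
  have hZC : Z ≤ C := fun z hz => (hC z).2 fun y hy =>
    commutator_le_left Z ⊤ (commutator_mem_commutator hz trivial)
  have hi : Z.relIndex 𝒞(Z) ≤ e ^ 2 * C.index := by
    rw [← relIndex_mul_relIndex Z (C ⊓ 𝒞(Z)) 𝒞(Z) (le_inf hZC hZ) inf_le_right, ← he]
    refine Nat.mul_le_mul ?_ ?_
    · have := hb κ hκ (X := C ⊓ 𝒞(Z)) (U := E) (Y := Z) h.cent
        (commutator_le.2 fun a ha y hy => (hC a).1 ha.1 y hy) (cent_comm inf_le_right) h.comm
      rwa [← inf_relIndex_right, le_antisymm (inf_le_left.trans h.self)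
        (le_inf (cent_comm h.cent) (le_inf hZC hZ))] at this
    · rw [inf_relIndex_right, ← relIndex_top_right]
      exact relIndex_le_of_le_right le_top index_ne_zero_of_finite
  have small : ∀ g ∈ C, g ∈ 𝒞(Z) → g ≠ 1 → Nat.card (fx V g) ^ 3 ≤ Nat.card V :=
    fun g h1 h2 h3 => by
      by_cases h4 : g ∈ Z
      · rw [fx_bot κ hκ hz h4 h3, AddSubgroup.card_bot]; exact Nat.card_pos
      obtain ⟨y, hy, h5⟩ : ∃ y ∈ E, ⁅g, y⁆ ≠ 1 := by
        by_contra hc
        push Not at hc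
        exact h4 (h.self fun y hy => (commutatorElement_eq_one_iff_mul_comm.1 (hc y hy)).symm)
      exact fx_cube κ hκ hz hl hG h2 (h.cent hy) ((hC g).1 h1 y hy) h5
  have big : ∀ g : G, g ≠ 1 → Nat.card V < Nat.card (fx V g) ^ 2 → g ∈ 𝒞(Z) ∧ g ∉ C :=
    fun g h1 h2 => by
      have a : g ∈ 𝒞(Z) := by_contra fun a => (fx_off κ hκ hz a).not_gt h2
      refine ⟨a, fun b => ((small g b a h1).trans_lt h2).not_ge ?_⟩
      exact Nat.pow_le_pow_right Nat.card_pos (by norm_num)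
  have hGN : Nat.card G < Nat.card V := by
    rw [← Z.card_mul_index, ← relIndex_mul_index hZ, ← mul_assoc]
    exact lt_of_le_of_lt (by gcongr) (n2.trans_le hN')
  rcases n1 with n1 | n1
  · refine bs_of_count hG hGN (B := 0) ?_ (by simp)
    rw [Nat.le_zero, Set.ncard_eq_zero, Set.eq_empty_iff_forall_notMem]
    intro g hg
    have : C = ⊤ := index_eq_one.1 (le_antisymm n1 (Nat.pos_of_ne_zero index_ne_zero_of_finite))
    exact (big g hg.1 hg.2).2 (this ▸ trivial)
  refine bs_of_count hG hGN (B := e ^ 2 * C.index) (le_trans ?_ hi) fun g h1 h2 => ?_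
  · rw [← Nat.card_coe_set_eq]
    refine Nat.card_le_card_of_injective (fun g => ((⟨g.1, (big g g.2.1 g.2.2).1⟩ : 𝒞(Z)) :
      𝒞(Z) ⧸ Z.subgroupOf 𝒞(Z))) fun a b e => Subtype.ext (by_contra fun hab => ?_)
    have h1 : a.1⁻¹ * b.1 ∈ Z := (QuotientGroup.eq (s := Z.subgroupOf 𝒞(Z))).1 e
    have h2 := card_mul_le (fx V a.1) (fx V b.1)
    rw [eq_bot_iff.2 (fx_bot κ hκ hz h1 (fun e => hab (inv_mul_eq_one.1 e)) ▸ fun v hv => by
      rw [mem_fx, mul_smul, mem_fx.1 hv.2, inv_smul_eq_iff, mem_fx.1 hv.1] :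
        fx V a.1 ⊓ fx V b.1 ≤ ⊥), AddSubgroup.card_bot, mul_one] at h2
    have h3 := Nat.mul_lt_mul'' a.2.2 b.2.2
    rw [← mul_pow, ← sq] at h3
    exact (lt_of_pow_lt_pow_left₀ 2 (Nat.zero_le _) h3).not_ge h2
  · obtain ⟨a, b⟩ := big g h1 h2
    obtain ⟨y, hy, h5⟩ : ∃ y ∈ E, ⁅g, y⁆ ∉ Z := by
      by_contra hc
      push Not at hc
      exact b ((hC g).2 hc)
    have h6 : ⁅g, y⁆ ∈ E := commutator_le_right ⊤ E (commutator_mem_commutator trivial hy)
    have h7 := small _ ((hC _).2 fun u hu => h.comm (commutator_mem_commutator h6 hu)) (h.cent h6)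
      fun e => h5 (e ▸ one_mem _)
    have h8 := card_fx_sq (V := V) g y
    refine (Nat.pow_le_pow_iff_left three_ne_zero).1 ?_
    calc _ = (Nat.card (fx V g) ^ 2) ^ 3 * (e ^ 2 * C.index) ^ 3 := mul_pow _ _ _
      _ ≤ (Nat.card V * Nat.card (fx V ⁅g, y⁆)) ^ 3 * Nat.card V ^ 2 :=
        Nat.mul_le_mul (by gcongr) (n1.trans (by gcongr))
      _ = Nat.card V ^ 5 * Nat.card (fx V ⁅g, y⁆) ^ 3 := by ring
      _ ≤ Nat.card V ^ 5 * Nat.card V := by gcongr
      _ = _ := by ring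

end Prim

theorem bs_irr {G V : Type} [Group G] [Finite G] [AddCommGroup V] [Finite V] [Nontrivial V]
    [DistribMulAction G V] [FaithfulSMul G V] (hP : P (Nat.card V)) (hG : Odd (Nat.card G))
    (hirr : ∀ U : AddSubgroup V, (∀ a : G, ∀ v ∈ U, a • v ∈ U) → U = ⊥ ∨ U = ⊤)
    (p : ℕ) [hp : Fact p.Prime] [Module (ZMod p) V] : Bs G V := by
  by_contra hb
  have : SMulCommClass G (ZMod p) V :=
    ⟨fun g c v => ZMod.map_smul (DistribSMul.toAddMonoidHom V g) c v⟩
  let σ : G →* End (ZMod p) V := DistribMulAction.toModuleEnd (ZMod p) V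
  have hσ : Function.Injective σ := fun a b e =>
    eq_of_smul_eq_smul (α := V) (DFunLike.congr_fun e)
  obtain ⟨Z, E, hZ⟩ := exists_ZE (H17.odd_solvable hG)
  have := hZ.nZ
  obtain ⟨K, _, _, _, _, hK⟩ := exists_scalar_field (envA σ Z) fun T hT h0 => by_contra fun hi =>
    hb (bs_env σ (fun _ _ => rfl) hP hG hirr Z (hZ.le.trans hZ.cent) hT h0 hi)
  have hK' : ScalF K σ Z := hK
  obtain ⟨κ, hκ, hz⟩ := hK'.exists_units hσ
  have : Finite K := finite_scalars K V
  refine hb (bs_prim κ hκ hz (fun g hg => hK'.map_smul hg) hP hG hZ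
    (Nat.le_of_dvd finrank_pos (hK'.index_centralizer_dvd hσ)) ?_)
  rw [natCard_eq_pow_finrank (K := ZMod p) (V := K), Nat.card_zmod]
  exact Nat.pow_le_pow_left hp.out.two_le _

theorem bs_step {G V : Type} [Group G] [Finite G] [AddCommGroup V] [Finite V]
    [DistribMulAction G V] [FaithfulSMul G V] (hP : P (Nat.card V)) (hG : Odd (Nat.card G))
    (hcr : CR G V) : Bs G V := by
  by_contra hb
  have hirr : ∀ U : AddSubgroup V, (∀ a : G, ∀ v ∈ U, a • v ∈ U) → U = ⊥ ∨ U = ⊤ :=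
    fun U hU => by_contra fun h => hb (bs_red hP hG hcr hU (not_or.1 h).1 (not_or.1 h).2)
  rcases subsingleton_or_nontrivial V with h | h
  · exact hb ⟨0, 0, fun _ _ _ _ => Subsingleton.elim _ _⟩
  obtain ⟨p, hp, hd⟩ := Nat.exists_prime_and_dvd (Finite.one_lt_card (α := V)).ne'
  haveI := Fact.mk hp
  obtain ⟨x, hx⟩ := exists_prime_addOrderOf_dvd_card' p hd
  have hpV : ∀ v : V, p • v = 0 := fun v => by
    rcases hirr (nsmulAddMonoidHom p).ker (fun a v hv => by
      rw [AddMonoidHom.mem_ker, nsmulAddMonoidHom_apply] at hv ⊢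
      rw [← smul_comm a p, hv, smul_zero]) with e | e
    · have : x ∈ (nsmulAddMonoidHom p : V →+ V).ker := by
        rw [AddMonoidHom.mem_ker, nsmulAddMonoidHom_apply, ← hx, addOrderOf_nsmul_eq_zero]
      rw [e, AddSubgroup.mem_bot] at this
      rw [this, addOrderOf_zero] at hx
      exact (hp.one_lt.ne hx).elim
    · exact e.ge (AddSubgroup.mem_top v)
  letI : Module (ZMod p) V := AddCommGroup.zmodModule hpV
  exact hb (bs_irr hP hG hirr p)

theorem P_all (n : ℕ) : P n := by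
  induction n with
  | zero => intro G V _ _ _ _ _ _ h; omega
  | succ n ih =>
    intro G V _ _ _ _ _ hG h hcr
    by_cases h' : Nat.card V < n
    · exact ih G V hG h' hcr
    exact (bs_step ((show n = Nat.card V by omega) ▸ ih) (odd_range hG _) hcr.fa).of_fa

/-- Odd order completely reducible linear groups have bases of size two. -/
theorem base_two {G V : Type*} [Group G] [Finite G] [AddCommGroup V] [Finite V]
    [DistribMulAction G V] (hG : Odd (Nat.card G)) (hcr : CR G V) : Bs G V :=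
  (P_all _).univ hG (Nat.lt_succ_self _) hcr

/-- Odd order permutation groups have a regular orbit on the power set. -/
theorem gluck_odd {G X : Type} [Group G] [Finite G] [MulAction G X] [Finite X]
    (hG : Odd (Nat.card G)) : RS G X :=
  gluck (P_all _) _ le_rfl G X hG (Nat.lt_succ_self _)

end H25.B2
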