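import Mathlib

/-! Bochert's argument: small bases of primitive groups. -/

set_option autoImplicit false

namespace H25

open MulAction Subgroup Equiv

variable {α : Type*} [Fintype α] [DecidableEq α]

theorem isThreeCycle_commutator {x y : Perm α} {a : α} (hx : x a ≠ a) (hy : y a ≠ a)
    (h : ∀ z, z ≠ a → x z = z ∨ y z = z) : (x * y * x⁻¹ * y⁻¹).IsThreeCycle := by
  have h1 : y (x a) = x a := (h _ hx).resolve_left fun e => hx (x.injective e)
  have h2 : x (y a) = y a := (h _ hy).resolve_right fun e => hy (y.injective e)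
  have h3 : y a ≠ x a := fun e => hy (y.injective (by rw [e, h1]))
  have key : x * y = swap a (y a) * swap a (x a) * y * x := by
    ext z
    simp only [Perm.mul_apply]
    by_cases z1 : z = a
    · subst z1
      rw [h1, h2, swap_apply_right, swap_apply_left]
    rcases h z z1 with e | e
    · rw [e]
      by_cases z2 : y z = a
      · rw [z2, swap_apply_left, swap_apply_of_ne_of_ne hx h3.symm]
      have z3 : y z ≠ x a := fun e' => by
        have e2 := y.injective (e'.trans h1.symm)
        exact hx (x.injective (by rw [← e2, e, e2]))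
      rw [swap_apply_of_ne_of_ne z2 z3, swap_apply_of_ne_of_ne z2 (y.injective.ne z1)]
      rcases h _ z2 with e' | e'
      · exact e'
      · rw [y.injective e', e]
    · rw [e]
      by_cases z2 : x z = a
      · rw [z2, swap_apply_of_ne_of_ne hy h3, swap_apply_right]
      have z4 : y (x z) = x z := by
        rcases h _ z2 with e' | e'
        · rw [x.injective e', e]
        · exact e'
      have z3 : x z ≠ y a := fun e' => hy (y.injective (by rw [← e', z4]))
      rw [z4, swap_apply_of_ne_of_ne z2 (x.injective.ne z1), swap_apply_of_ne_of_ne z2 z3]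
  rw [key, mul_inv_cancel_right, mul_inv_cancel_right]
  exact Perm.isThreeCycle_swap_mul_swap_same hy.symm hx.symm h3

theorem prim_range {G : Type*} {α : Type*} [Group G] [MulAction G α] (h : IsPreprimitive G α) :
    IsPreprimitive (toPermHom G α).range α :=
  IsPreprimitive.of_surjective (φ := (toPermHom G α).rangeRestrict)
    (f := ⟨id, fun _ _ => rfl⟩) Function.surjective_id

theorem exists_small_base {G : Type*} [Group G] [MulAction G α] [FaithfulSMul G α]
    (hprim : IsPreprimitive G α) (hA : ¬ alternatingGroup α ≤ (toPermHom G α).range) :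
    ∃ s : Finset α, 2 * s.card ≤ Fintype.card α ∧ ∀ g : G, (∀ x ∈ s, g • x = x) → g = 1 := by
  obtain ⟨s, hs, hmin⟩ := Set.exists_min_image
    {s : Finset α | ∀ g : G, (∀ x ∈ s, g • x = x) → g = 1} Finset.card (Set.toFinite _)
    ⟨Finset.univ, fun g hg => eq_of_smul_eq_smul (α := α) fun x => by simpa using hg x⟩
  refine ⟨s, ?_, hs⟩
  by_contra hlt
  have hn : ∀ t : Finset α, t.card < s.card → ∃ g : G, (∀ x ∈ t, g • x = x) ∧ g ≠ 1 := by
    intro t ht
    by_contra h
    push Not at h
    exact absurd (hmin t h) (by omega)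
  obtain ⟨x, hx, hx1⟩ := hn sᶜ (by rw [Finset.card_compl]; omega)
  obtain ⟨a, ha, hxa⟩ : ∃ a ∈ s, x • a ≠ a := by
    by_contra h
    push Not at h
    exact hx1 (hs x h)
  obtain ⟨y, hy, hy1⟩ := hn (s.erase a) (Finset.card_erase_lt_of_mem ha)
  have hya : y • a ≠ a := fun e => hy1 (hs y fun z hz => by
    by_cases h : z = a
    · rw [h, e]
    · exact hy z (Finset.mem_erase.2 ⟨h, hz⟩))
  refine hA (Perm.alternatingGroup_le_of_isPreprimitive_of_isThreeCycle_mem (prim_range hprim)
    (isThreeCycle_commutator (x := toPermHom G α x) (y := toPermHom G α y) hxa hya fun z hz => ?_)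
    ⟨x * y * x⁻¹ * y⁻¹, by simp only [map_mul, map_inv]⟩)
  by_cases h : z ∈ s
  · exact Or.inr (hy z (Finset.mem_erase.2 ⟨hz, h⟩))
  · exact Or.inl (hx z (Finset.mem_compl.2 h))

theorem card_le_descFactorial {G : Type*} [Group G] [MulAction G α] (s : Finset α)
    (hs : ∀ g : G, (∀ x ∈ s, g • x = x) → g = 1) :
    Nat.card G ≤ (Fintype.card α).descFactorial s.card := by
  rw [← Fintype.card_coe s, ← Fintype.card_embedding_eq, ← Nat.card_eq_fintype_card]
  refine Nat.card_le_card_of_injective (fun g : G => (⟨fun x : s => g • (x : α), fun x y h =>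
    Subtype.ext (MulAction.injective g h)⟩ : s ↪ α)) fun g h e => ?_
  refine (inv_mul_eq_one.1 (hs _ fun x hx => ?_)).symm
  rw [mul_smul, inv_smul_eq_iff]
  exact DFunLike.congr_fun e ⟨x, hx⟩

end H25
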