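import Cfsg.Agent.H25.EO1
import Cfsg.Agent.H25.Burn2
import Cfsg.Agent.H25.FrobPerm
import Cfsg.Agent.H26.ZS16

/-! Doubly transitive groups with an involution whose centralizer has constant fixity. -/

set_option autoImplicit false
set_option linter.unusedSectionVars false

namespace H25.CF
open Subgroup Cfsg MulAction H10 H1.CIT
open H6 (ord2_of ord2_mul_self ord2_ne_one ord2_inv ord2_conj)
open scoped MatrixGroups

/-- the hypothesis -/
structure Hy (Ω : Type*) {G : Type*} [Group G] [MulAction G Ω] (i : ℕ) (t : G) : Prop where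
  faith : FaithfulSMul G Ω
  two : IsMultiplyPretransitive G Ω 2
  ot : orderOf t = 2
  fix : ∀ g : G, Commute g t → g ≠ 1 → Nat.card (fixedBy Ω g) = i

universe u
variable {G : Type u} {Ω : Type*} [Group G] [Finite G] [Fintype Ω] [MulAction G Ω] {i : ℕ} {t : G}

theorem exists_moved [FaithfulSMul G Ω] {g : G} (hg : g ≠ 1) : ∃ x : Ω, g • x ≠ x := by
  by_contra! h
  exact hg (eq_of_smul_eq_smul (α := Ω) fun x => by rw [h, one_smul])

variable (h : Hy Ω i t)
include h

theorem Hy.tr {a b c d : Ω} (h1 : a ≠ b) (h2 : c ≠ d) : ∃ g : G, g • a = c ∧ g • b = d :=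
  is_two_pretransitive_iff.1 h.two h1 h2

theorem Hy.card_le : Nat.card (centralizer {t}) + i ≤ Fintype.card Ω := by
  classical
  haveI := h.faith
  set C := centralizer ({t} : Set G)
  haveI := Fintype.ofFinite C
  haveI := Fintype.ofFinite (orbitRel.Quotient C Ω)
  have h1 := sum_card_fixedBy_eq_card_orbits_mul_card_group C Ω
  rw [← Finset.add_sum_erase _ _ (Finset.mem_univ 1), Finset.sum_congr rfl (g := fun _ => i)
    (fun g hg => by
      rw [← Nat.card_eq_fintype_card]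
      exact h.fix g (mem_centralizer_singleton_iff.1 g.2) fun e =>
        (Finset.mem_erase.1 hg).1 (Subtype.ext e))] at h1
  simp only [fixedBy_one_eq_univ, Finset.sum_const, Finset.card_erase_of_mem (Finset.mem_univ _),
    Finset.card_univ, smul_eq_mul] at h1
  rw [Fintype.card_congr (Equiv.Set.univ Ω)] at h1
  obtain ⟨x, hx⟩ := exists_moved (Ω := Ω) (ord2_ne_one h.ot)
  have h2 : i < Fintype.card Ω := by
    rw [← h.fix t (Commute.refl t) (ord2_ne_one h.ot), Nat.card_eq_fintype_card]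
    exact Fintype.card_subtype_lt (x := x) hx
  rw [Nat.card_eq_fintype_card]
  obtain ⟨c, hc⟩ : ∃ c, Fintype.card C = c + 1 := ⟨Fintype.card C - 1, by
    have := Fintype.card_pos (α := C); omega⟩
  rw [hc] at h1 ⊢
  simp only [add_tsub_cancel_right] at h1
  have h3 : i < Fintype.card (orbitRel.Quotient C Ω) := by
    by_contra! k
    have := Nat.mul_le_mul_right (c + 1) k
    nlinarith
  nlinarith [Nat.mul_le_mul_right (c + 1) (Nat.succ_le_of_lt h3)]

theorem Hy.swap_conj {a b : Ω} (hab : a ≠ b) {w : G} (h1 : w • a = b) (h2 : w • b = a) :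
    ∃ g : G, g * t * g⁻¹ = w := by
  classical
  haveI := Fintype.ofFinite G
  set H := Finset.univ.filter fun g : G => g • a = a ∧ g • b = b
  set W := Finset.univ.filter fun g : G => t • g • a = g • b
  set S := Finset.univ.filter fun g : G => g • a = b ∧ g • b = a
  have tt : ∀ x : Ω, t • t • x = x := fun x => by rw [smul_smul, ord2_mul_self h.ot, one_smul]
  have k1 := Finset.mul_card_image_le_card W (f := fun g => g • a) H.card fun x hx => by
    obtain ⟨g, hg, rfl⟩ := Finset.mem_image.1 hx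
    refine Finset.card_le_card_of_injOn (g * ·) (fun k hk => ?_) (mul_right_injective g).injOn
    simp only [H, W, Finset.coe_filter, Finset.mem_univ, true_and, Set.mem_setOf_eq,
      Finset.mem_filter, mul_smul] at hk hg ⊢
    simp [hk.1, hk.2, hg]
  have k2 := Finset.card_le_mul_card_image W (f := fun g => g⁻¹ * t * g) (Nat.card (centralizer {t}))
    fun x hx => by
    obtain ⟨g, hg, rfl⟩ := Finset.mem_image.1 hx
    rw [Nat.card_eq_fintype_card, Fintype.card_subtype]
    refine Finset.card_le_card_of_injOn (· * g⁻¹) (fun k hk => ?_) (mul_left_injective g⁻¹).injOn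
    simp only [Finset.coe_filter, Finset.mem_univ, true_and, Set.mem_setOf_eq,
      mem_centralizer_singleton_iff] at hk ⊢
    calc k * g⁻¹ * t = k * (g⁻¹ * t * g) * g⁻¹ := by group
      _ = _ := by rw [← hk.2]; group
  have k3 : W.image (fun g => g⁻¹ * t * g) ⊆ S := fun x hx => by
    obtain ⟨g, hg, rfl⟩ := Finset.mem_image.1 hx
    simp only [S, W, Finset.mem_filter, Finset.mem_univ, true_and, mul_smul] at hg ⊢
    rw [hg, ← hg, tt]
    simp [hg]
  have k4 : S.card ≤ H.card := Finset.card_le_card_of_injOn (w * ·) (fun k hk => by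
    simp only [H, S, Finset.coe_filter, Finset.mem_univ, true_and, Set.mem_setOf_eq, mul_smul] at hk ⊢
    simp [hk.1, hk.2, h1, h2]) (mul_right_injective w).injOn
  have k5 : Fintype.card Ω ≤ (W.image fun g => g • a).card + i := by
    rw [← h.fix t (Commute.refl t) (ord2_ne_one h.ot), Nat.card_eq_fintype_card, Fintype.card_subtype,
      ← Finset.card_univ]
    refine (Finset.card_le_card fun x _ => ?_).trans (Finset.card_union_le _ _)
    by_cases e : t • x = x
    · simp [e]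
    obtain ⟨g, g1, g2⟩ := h.tr hab (Ne.symm e)
    exact Finset.mem_union_left _ (Finset.mem_image.2 ⟨g, by simp [W, g1, g2], g1⟩)
  have k6 := h.card_le
  have k7 : 0 < Nat.card (centralizer ({t} : Set G)) := Nat.card_pos
  have k8 : S.card ≤ (W.image fun g => g⁻¹ * t * g).card := by
    refine k4.trans (Nat.le_of_mul_le_mul_left ?_ k7)
    calc _ ≤ H.card * (W.image fun g => g • a).card := by rw [mul_comm]; gcongr; omega
      _ ≤ _ := k1.trans k2
  obtain ⟨g, -, e⟩ := Finset.mem_image.1 ((Finset.eq_of_subset_of_card_le k3 k8).ge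
    (show w ∈ S by simp [S, h1, h2]))
  exact ⟨g⁻¹, by simpa using e⟩

theorem Hy.conj (g : G) : Hy Ω i (g * t * g⁻¹) where
  faith := h.faith
  two := h.two
  ot := ord2_conj h.ot g
  fix := fun x hx h1 => by
    rw [← h.fix (g⁻¹ * x * g) (by
      change _ = _
      calc g⁻¹ * x * g * t = g⁻¹ * (x * (g * t * g⁻¹)) * g := by group
        _ = _ := by rw [hx.eq]; group) (fun e => h1 (by
      calc x = g * (g⁻¹ * x * g) * g⁻¹ := by group
        _ = 1 := by rw [e]; group))]
    refine Nat.card_congr ((toPerm g⁻¹).subtypeEquiv fun y => ?_)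
    simp [mul_smul, inv_smul_eq_iff]

theorem Hy.inv_conj {s : G} (hs : orderOf s = 2) : ∃ g : G, g * t * g⁻¹ = s := by
  haveI := h.faith
  obtain ⟨x, hx⟩ := exists_moved (Ω := Ω) (ord2_ne_one hs)
  exact h.swap_conj hx.symm rfl (by rw [smul_smul, ord2_mul_self hs, one_smul])

theorem Hy.all {s : G} (hs : orderOf s = 2) : Hy Ω i s := by
  obtain ⟨g, rfl⟩ := h.inv_conj hs
  exact h.conj g

theorem Hy.swap_ord {a b : Ω} (hab : a ≠ b) {w : G} (h1 : w • a = b) (h2 : w • b = a) :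
    orderOf w = 2 := by
  obtain ⟨g, rfl⟩ := h.swap_conj hab h1 h2
  exact ord2_conj h.ot g

theorem Hy.inverts {a b : Ω} (hab : a ≠ b) {w x : G} (h1 : w • a = b) (h2 : w • b = a)
    (h3 : x • a = a) (h4 : x • b = b) : w * x * w⁻¹ = x⁻¹ := by
  have := ord2_mul_self (h.swap_ord hab (w := w * x) (by rw [mul_smul, h3, h1]) (by rw [mul_smul, h4, h2]))
  rw [ord2_inv (h.swap_ord hab h1 h2), eq_inv_iff_mul_eq_one, mul_assoc, this]

theorem Hy.comm {a b : Ω} (hab : a ≠ b) {x y : G} (h1 : x • a = a) (h2 : x • b = b)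
    (h3 : y • a = a) (h4 : y • b = b) : Commute x y := by
  obtain ⟨w, w1, w2⟩ := h.tr hab hab.symm
  have e1 := h.inverts hab w1 w2 h1 h2
  have e2 := h.inverts hab w1 w2 h3 h4
  have e3 := h.inverts hab w1 w2 (x := x * y) (by rw [mul_smul, h3, h1]) (by rw [mul_smul, h4, h2])
  refine inv_injective ?_
  rw [← e3, mul_inv_rev, ← e1, ← e2]
  group

theorem Hy.fix_eq {g k : G} (hg : Commute g t) (g1 : g ≠ 1) (hk : Commute k t) (k1 : k ≠ 1)
    (e : fixedBy Ω g ⊆ fixedBy Ω k) : fixedBy Ω g = fixedBy Ω k :=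
  Set.eq_of_subset_of_ncard_le e ((h.fix k hk k1).trans (h.fix g hg g1).symm).le

theorem Hy.fix_sq {g : G} (hg : Commute g t) (h2 : g * g ≠ 1) : fixedBy Ω g = fixedBy Ω t := by
  have g1 : g ≠ 1 := by rintro rfl; simp at h2
  have e : g * t * (g * t) = g * g := by
    rw [mul_assoc, ← mul_assoc t, ← hg.eq, mul_assoc, ord2_mul_self h.ot, mul_one]
  have sq : ∀ k : G, fixedBy Ω k ⊆ fixedBy Ω (k * k) := fun k x hx => by
    rw [mem_fixedBy] at hx ⊢
    rw [mul_smul, hx, hx]
  have e1 := h.fix_eq hg g1 (hg.mul_left hg) h2 (sq g)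
  have e2 := h.fix_eq (hg.mul_left (Commute.refl t)) (fun k => h2 (by rw [← e, k, one_mul]))
    (hg.mul_left hg) h2 (e ▸ sq _)
  refine h.fix_eq hg g1 (Commute.refl t) (ord2_ne_one h.ot) fun x hx => ?_
  have h3 := e2.ge (e1.le hx)
  rw [mem_fixedBy] at hx h3 ⊢
  rw [hg.eq, mul_smul, hx] at h3
  exact h3

theorem Hy.sq (h3 : 3 ≤ i) {g : G} (hg : Commute g t) : g * g = 1 := by
  by_contra h2
  have e := h.fix_sq hg h2
  obtain ⟨a, ha, b, hb, c, hc, ab, ac, bc⟩ := (Set.two_lt_ncard (s := fixedBy Ω t)).1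
    (h3.trans (h.fix t (Commute.refl t) (ord2_ne_one h.ot)).ge)
  obtain ⟨u, u1, u2⟩ := h.tr ab ab.symm
  obtain ⟨v, v1, v2⟩ := h.tr ac ac.symm
  have c1 : ∀ x : G, x • a = a → x • b = b → x • c = c → u * v * x * (u * v)⁻¹ = x := fun x x1 x2 x3 => by
    calc u * v * x * (u * v)⁻¹ = u * (v * x * v⁻¹) * u⁻¹ := by group
      _ = (u * x * u⁻¹)⁻¹ := by rw [h.inverts ac v1 v2 x1 x3]; group
      _ = x := by rw [h.inverts ab u1 u2 x1 x2, inv_inv]
  have c2 : (u * v) • c = b := by rw [mul_smul, v2, u1]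
  have c3 : u * v * (u * v) = 1 := by
    by_contra k
    have := (h.fix_sq (mul_inv_eq_iff_eq_mul.1 (c1 t ha hb hc)) k).ge hc
    exact bc (c2.symm.trans this)
  have := h.inverts bc (w := u * v) (x := g) (by rw [← c2, smul_smul, c3, one_smul]) c2 (e.ge hb) (e.ge hc)
  rw [c1 g (e.ge ha) (e.ge hb) (e.ge hc)] at this
  exact h2 (mul_eq_one_iff_eq_inv.2 this)

theorem Hy.card_fix {s : G} (hs : orderOf s = 2) : (fixedBy Ω s).ncard = i :=
  (h.all hs).fix s (Commute.refl s) (ord2_ne_one hs)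

theorem Hy.uniq (h1 : i ≤ 1) {s : G} (hs : orderOf s = 2) {a b : Ω} (ha : s • a = a) (hb : s • b = b) :
    a = b :=
  (Set.ncard_le_one (Set.toFinite _)).1 ((h.card_fix hs).trans_le h1) a ha b hb

theorem Hy.trans (h1 : i ≤ 1) {y z : Ω} (hy : t • y ≠ y) (hz : t • z ≠ z) :
    ∃ c : G, c * t * c⁻¹ = t ∧ c • y = z := by
  have tt : ∀ x : Ω, t • t • x = x := fun x => by rw [smul_smul, ord2_mul_self h.ot, one_smul]
  obtain ⟨k, k1, k2⟩ := h.tr hy.symm hz.symm
  set x := t * (k * t * k⁻¹)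
  have x1 : x • z = z := by simp only [x, mul_smul]; rw [inv_smul_eq_iff.2 k1.symm, k2, tt]
  have x2 : x • t • z = t • z := by simp only [x, mul_smul]; rw [inv_smul_eq_iff.2 k2.symm, tt, k1]
  have ho : Odd (orderOf x) := Nat.not_even_iff_odd.1 fun e => hz (h.uniq h1 (ord_pow_div e.two_dvd)
    ((stabilizer G _).pow_mem x2 _) ((stabilizer G _).pow_mem x1 _))
  obtain ⟨m, hm⟩ := ho
  have y1 : x ^ (m + 1) • z = z := (stabilizer G _).pow_mem x1 _
  have e := h.inverts hz.symm rfl (tt z) y1 ((stabilizer G _).pow_mem x2 _)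
  have e2 : x ^ (m + 1) * x ^ (m + 1) = x := by
    rw [← pow_add, show m + 1 + (m + 1) = orderOf x + 1 by omega, pow_succ, pow_orderOf_eq_one, one_mul]
  refine ⟨x ^ (m + 1) * k, ?_, by rw [mul_smul, k1, y1]⟩
  generalize x ^ (m + 1) = r at e e2
  calc r * k * t * (r * k)⁻¹ = r * (t⁻¹ * x) * r⁻¹ := by simp only [x]; group
    _ = r * t⁻¹ * r := by rw [← e2]; group
    _ = r * (t * r * t⁻¹) * t := by nth_rw 1 [ord2_inv h.ot]; group
    _ = t := by rw [e]; group

theorem Hy.three (h2 : i ≤ 2) (hz : ∃ g : G, g * t * g⁻¹ ≠ t ∧ Commute (g * t * g⁻¹) t) {x : G}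
    {a b c : Ω} (ab : a ≠ b) (bc : b ≠ c) (ac : a ≠ c) (xa : x • a = a) (xb : x • b = b)
    (xc : x • c = c) : x = 1 := by
  by_contra x1
  have nc : ∀ s : G, orderOf s = 2 → ¬ Commute x s := fun s hs k => by
    have := (Set.two_lt_ncard (s := fixedBy Ω x)).2 ⟨a, xa, b, xb, c, xc, ab, ac, bc⟩
    exact absurd (this.trans_eq ((h.all hs).fix x k x1)) (by omega)
  obtain rfl | h1 := h2.eq_or_lt
  · obtain ⟨d, hd, e, he, de⟩ := (Set.one_lt_ncard (s := fixedBy Ω t)).1 (by rw [h.card_fix h.ot]; simp)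
    obtain ⟨g, g1, g2⟩ := h.tr de ab
    refine nc _ (ord2_conj h.ot g) (h.comm ab xa xb ?_ ?_)
    · rw [← g1, mul_smul, inv_smul_smul, mul_smul, hd]
    · rw [← g2, mul_smul, inv_smul_smul, mul_smul, he]
  replace h1 := Nat.le_of_lt_succ h1
  have x2 : x⁻¹ ≠ x := fun e => nc x (ord2_of (mul_eq_one_iff_eq_inv.2 e.symm) x1) (Commute.refl x)
  obtain ⟨u, u1, u2⟩ := h.tr ab ab.symm
  obtain ⟨v, v1, v2⟩ := h.tr bc bc.symm
  obtain ⟨w, w1, w2⟩ := h.tr ac ac.symm
  have e1 : u * v * w * x * (u * v * w)⁻¹ = x⁻¹ := by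
    calc _ = u * (v * (w * x * w⁻¹) * v⁻¹) * u⁻¹ := by group
      _ = u * (v * x * v⁻¹)⁻¹ * u⁻¹ := by rw [h.inverts ac w1 w2 xa xc]; group
      _ = _ := by rw [h.inverts bc v1 v2 xb xc, inv_inv, h.inverts ab u1 u2 xa xb]
  have e2 : (u * v * w) • a = a := by rw [mul_smul, mul_smul, w1, v2, u2]
  generalize u * v * w = r at e1 e2
  have e3 : Commute x (r * r) := by
    refine (mul_inv_eq_iff_eq_mul.1 ?_).symm
    calc r * r * x * (r * r)⁻¹ = r * (r * x * r⁻¹) * r⁻¹ := by group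
      _ = (r * x * r⁻¹)⁻¹ := by nth_rw 1 [e1]; group
      _ = x := by rw [e1, inv_inv]
  obtain ⟨m, hm⟩ : Odd (orderOf (r * r)) := Nat.not_even_iff_odd.1 fun e =>
    nc _ (ord_pow_div e.two_dvd) (e3.pow_right _)
  have e4 : r ^ (2 * m + 1) * x * (r ^ (2 * m + 1))⁻¹ = x⁻¹ := by
    rw [pow_succ', pow_mul, pow_two, mul_assoc r, ← (e3.pow_right m).eq, ← e1]; group
  have os : orderOf (r ^ (2 * m + 1)) = 2 := ord2_of (by
    rw [← (Commute.refl r).mul_pow, ← hm, pow_orderOf_eq_one]) fun e => x2 (by simpa [e] using e4.symm)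
  have sa : r ^ (2 * m + 1) • a = a := (stabilizer G _).pow_mem e2 _
  generalize r ^ (2 * m + 1) = s at e4 os sa
  have key : ∀ y : G, orderOf y = 2 → y • a = a → y * x * y⁻¹ = x⁻¹ := fun y oy ya => by
    obtain ⟨g, rfl⟩ := (h.all os).inv_conj oy
    have ga : g • a = a := h.uniq h1 oy (by rw [mul_smul, inv_smul_smul, mul_smul, sa]) ya
    obtain ⟨d, d1, d2⟩ := (h.all os).trans h1 (y := b) (z := g⁻¹ • b)
      (fun e => ab (h.uniq h1 os sa e)) fun e => ab (by
        have := h.uniq h1 os sa e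
        rw [eq_inv_smul_iff] at this
        rw [← this, ga])
    have da : d • a = a := h.uniq h1 os (by rw [← d1, mul_smul, inv_smul_smul, mul_smul, sa]) sa
    have k := h.comm ab (x := x) (y := g * d) xa xb (by rw [mul_smul, da, ga])
      (by rw [mul_smul, d2, smul_inv_smul])
    calc g * s * g⁻¹ * x * (g * s * g⁻¹)⁻¹
        = g * d * (s * ((g * d)⁻¹ * x * (g * d)) * s⁻¹) * (g * d)⁻¹ := by nth_rw 1 [← d1]; nth_rw 2 [← d1]; group
      _ = g * d * x⁻¹ * (g * d)⁻¹ := by rw [mul_assoc _ x, k.eq, inv_mul_cancel_left, e4]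
      _ = x⁻¹ := by rw [← k.inv_left.eq, mul_inv_cancel_right]
  obtain ⟨g, g1, g2⟩ := hz
  obtain ⟨k, rfl⟩ := h.inv_conj os
  set s := k * t * k⁻¹
  set y := k * (g * t * g⁻¹) * k⁻¹
  have oy : orderOf y = 2 := ord2_conj (ord2_conj h.ot g) k
  have cy : Commute y s := by
    change _ = _
    calc y * s = k * (g * t * g⁻¹ * t) * k⁻¹ := by simp only [y, s]; group
      _ = _ := by rw [g2.eq]; simp only [y, s]; group
  have ya : y • a = a := h.uniq h1 os (by rw [← mul_smul, ← cy.eq, mul_smul, sa]) sa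
  have oz : orderOf (y * s) = 2 := ord2_of (by
    rw [← pow_two, cy.mul_pow, pow_two, pow_two, ord2_mul_self oy, ord2_mul_self os, one_mul]) fun e => g1 (by
      have := eq_inv_of_mul_eq_one_left e
      rw [ord2_inv os] at this
      simpa [y, s] using this)
  refine x2 ((key _ oz (by rw [mul_smul, sa, ya])).symm.trans ?_)
  calc y * s * x * (y * s)⁻¹ = y * (s * x * s⁻¹) * y⁻¹ := by group
    _ = (y * x * y⁻¹)⁻¹ := by rw [e4]; group
    _ = x := by rw [key y oy ya, inv_inv]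

omit h in
theorem solv_bot [FaithfulSMul G Ω] (h2 : IsMultiplyPretransitive G Ω 2)
    (hR : ∀ N : Subgroup G, N.Normal → IsPretransitive N Ω → ∃ a : Ω, stabilizer N a ≠ ⊥)
    (N : Subgroup G) [N.Normal] (hs : Group.IsSolvable N) : N = ⊥ := by
  by_contra hn
  obtain ⟨M, i1, h1, h3, h4⟩ := exists_minimal_normal_le N hn
  haveI := isPreprimitive_of_is_two_pretransitive h2
  have tr := normal_transitive_of_primitive (α := Ω) M h1
  obtain ⟨a, ha⟩ := hR M i1 tr
  have hc : ∀ x y : M, x * y = y * x := by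
    rcases burnside_two_trans h2 M h1 h4 with k | k
    · exact absurd (k.2.2 a) ha
    · haveI := k.1
      exact IsSimpleGroup.comm_iff_isSolvable.2 (H1.isSolvable_of_le hs h3)
  refine ha (eq_bot_iff.2 fun x hx => Subtype.ext (eq_of_smul_eq_smul (α := Ω) fun y => ?_))
  obtain ⟨g, rfl⟩ := exists_smul_eq M a y
  change x • g • a = (1 : M) • g • a
  rw [smul_smul, hc, mul_smul, hx, one_smul]

theorem Hy.main (hR : ∀ N : Subgroup G, N.Normal → IsPretransitive N Ω → ∃ a : Ω, stabilizer N a ≠ ⊥) :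
    (∃ (F : Type) (_ : Field F) (_ : Fintype F), Nonempty (G ≃* PSL(2, F))) ∨ Lie.IsoSuzuki G := by
  haveI := h.faith
  have hs := solv_bot h.two hR
  have t1 := ord2_ne_one h.ot
  rcases le_or_gt 3 i with h3 | h2
  · have h4 : ¬ El G 4 := fun ⟨x, hx⟩ => by
      have := (h.all (s := x ^ 2) (by rw [orderOf_pow_of_dvd (by norm_num) (by simp [hx]), hx])).sq h3
        (g := x) ((Commute.refl x).pow_right 2)
      have := orderOf_dvd_of_pow_eq_one ((pow_two x).trans this)
      simp [hx] at this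
    have hC : Cit G := fun s x os ox k => (pow_eq_one_iff_of_coprime (Nat.coprime_two_left.2 ox)).1
      ⟨(pow_two x).trans ((h.all os).sq h3 k.symm), pow_orderOf_eq_one x⟩
    rcases hC.struct (hs _ (solv_of_pg isPGroup_pCore')) (fun k => t1 (mem_bot.1
      (hs ⊤ inferInstance ▸ mem_top t))) with
      ((⟨F, i, j, -, -, -, k⟩ | k) | ⟨F, i, j, -, -, -, -, k⟩ | ⟨⟨f⟩⟩) | k
    · exact .inl ⟨F, i, j, k⟩
    · exact .inr k
    · exact .inl ⟨F, i, j, k⟩
    · exact absurd ((El.congr f).2 (el_psl34.2 (by norm_num))) h4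
    · exact absurd ((k.el_eight hC).dvd (by norm_num)) h4
  have hz : ∃ g : G, g * t * g⁻¹ ≠ t ∧ Commute (g * t * g⁻¹) t := by
    by_contra! k
    have := H19.zstar_center (u := t) ⟨h.ot, fun g e => by_contra fun e' => k g e' e.symm⟩
      (hs _ (FT.odd_solvable _ (Nat.coprime_two_right.1 (H1.coprime_card_pPrimeCore 2))))
    exact t1 (mem_bot.1 (hs (center G) (Group.isSolvable_of_comm fun a b =>
      Subtype.ext (mem_center_iff.1 b.2 a)) ▸ this))
  have hZ : H26.Zas G Ω := ⟨h.faith, h.two, fun g a b c ab bc ac => h.three (by omega) hz ab bc ac, by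
    by_contra! k
    obtain ⟨a, -⟩ := exists_moved (Ω := Ω) t1
    haveI : IsPretransitive G Ω := isPretransitive_of_is_two_pretransitive (h2 := h.two)
    obtain ⟨N, n1, -, n2, n3⟩ := frobenius_perm a fun a b ab g ga gb => by_contra fun e => k g e a b ab ga gb
    obtain ⟨b, hb⟩ := hR N n1 n2
    exact hb (n3 b), hR⟩
  haveI : Nontrivial G := ⟨t, 1, t1⟩
  haveI : IsSimpleGroup G := ⟨fun N hN => or_iff_not_imp_left.2 fun hn => by
    have k := (hZ.normal_zas N hn).z3
    obtain ⟨a, b, ab⟩ := hZ.exists_pair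
    obtain ⟨w, w1, w2⟩ := k.two ab ab.symm
    obtain ⟨g, hg⟩ := (h.all (h.swap_ord ab w1 w2)).inv_conj h.ot
    refine eq_top_iff.2 fun x _ => ?_
    obtain ⟨y, y1, y2⟩ := k.two (c := x • b) (d := x • a) ((smul_left_cancel_iff x).not.2 ab) ab.symm
    obtain ⟨c, hc⟩ := h.swap_conj ab (w := y * x) (by rw [mul_smul]; exact y1) (by rw [mul_smul]; exact y2)
    exact (N.mul_mem_cancel_left y.2).1 (hc ▸ hN.conj_mem _ (hg ▸ hN.conj_mem _ w.2 g) c)⟩
  exact hZ.simple_strong.imp_left fun ⟨F, i, j, _, _, k⟩ => ⟨F, i, j, k⟩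

end H25.CF
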