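import Mathlib

/-! Composition length of finite groups, as the maximal length of a subnormal chain. -/

set_option autoImplicit false

namespace H25

open Subgroup

universe u

/-- Every subnormal chain has length at most `n`. -/
def LenLe : ℕ → (G : Type u) → [Group G] → Prop
  | 0, G, _ => Subsingleton G
  | n + 1, G, _ => ∀ N : Subgroup G, N.Normal → N ≠ ⊤ → LenLe n N

theorem LenLe.succ : ∀ {n : ℕ} {G : Type u} [Group G], LenLe n G → LenLe (n + 1) G
  | 0, G, _, h => fun N _ hN => by
    have : Subsingleton G := h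
    exact absurd (Subsingleton.elim _ _) hN
  | _ + 1, _, _, h => fun N hn hN => (h N hn hN).succ

theorem LenLe.mono {m n : ℕ} {G : Type u} [Group G] (h : LenLe m G) (hmn : m ≤ n) : LenLe n G := by
  induction hmn with
  | refl => exact h
  | step _ ih => exact ih.succ

theorem card_lt_of_ne_top {G : Type*} [Group G] [Finite G] {N : Subgroup G} (h : N ≠ ⊤) :
    Nat.card N < Nat.card G :=
  lt_of_le_of_ne N.card_le_card_group fun e => h (N.eq_top_of_card_eq e)

theorem lenLe_of_card : ∀ (n : ℕ) (G : Type u) [Group G] [Finite G], Nat.card G ≤ n + 1 → LenLe n G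
  | 0, G, _, _, h => Finite.card_le_one_iff_subsingleton.1 h
  | n + 1, _, _, _, h => fun N _ hN => lenLe_of_card n N (by have := card_lt_of_ne_top hN; omega)

/-- The composition length. -/
noncomputable def cl (G : Type u) [Group G] : ℕ := sInf {n | LenLe n G}

theorem cl_le_iff {G : Type u} [Group G] [Finite G] {n : ℕ} : cl G ≤ n ↔ LenLe n G :=
  ⟨fun h => (Nat.sInf_mem (s := {n | LenLe n G}) ⟨_, lenLe_of_card _ G (Nat.le_succ _)⟩).mono h,
    fun h => Nat.sInf_le h⟩

theorem cl_eq_zero (G : Type u) [Group G] [h : Subsingleton G] : cl G = 0 :=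
  Nat.le_zero.1 (cl_le_iff.2 h)

theorem cl_lt {G : Type u} [Group G] [Finite G] (N : Subgroup G) [hn : N.Normal] (hN : N ≠ ⊤) :
    cl N < cl G := by
  have h := cl_le_iff.1 (le_refl (cl G))
  rcases e : cl G with _ | n
  · rw [e] at h
    have : Subsingleton G := h
    exact absurd (Subsingleton.elim _ _) hN
  · rw [e] at h
    exact Nat.lt_succ_of_le (cl_le_iff.2 (h N hn hN))

theorem cl_le_succ {G : Type u} [Group G] [Finite G] {n : ℕ}
    (h : ∀ N : Subgroup G, N.Normal → N ≠ ⊤ → cl N ≤ n) : cl G ≤ n + 1 :=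
  cl_le_iff.2 fun N hn hN => cl_le_iff.1 (h N hn hN)

theorem cl_pos (G : Type u) [Group G] [Finite G] [Nontrivial G] : 0 < cl G :=
  lt_of_le_of_lt (Nat.zero_le _) (cl_lt ⊥ bot_ne_top)

theorem LenLe.of_surj : ∀ {n : ℕ} {G : Type u} {Q : Type*} [Group G] [Group Q] (f : G →* Q),
    Function.Surjective f → LenLe n G → LenLe n Q
  | 0, G, _, _, _, _, hf, h => by
    have : Subsingleton G := h
    exact hf.subsingleton
  | _ + 1, _, _, _, _, f, hf, h => fun N hn hN =>
    LenLe.of_surj (f.subgroupComap N) (f.subgroupComap_surjective_of_surjective N hf)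
      (h (N.comap f) (hn.comap f) fun e => hN (comap_injective hf (by rw [e, comap_top])))

theorem cl_le_of_surj {G : Type u} {Q : Type*} [Group G] [Group Q] [Finite G] (f : G →* Q)
    (hf : Function.Surjective f) : cl Q ≤ cl G :=
  have := Finite.of_surjective f hf
  cl_le_iff.2 (LenLe.of_surj f hf (cl_le_iff.1 le_rfl))

theorem cl_congr {G : Type u} {Q : Type*} [Group G] [Group Q] [Finite G] (e : G ≃* Q) :
    cl G = cl Q :=
  have := Finite.of_equiv _ e.toEquiv
  le_antisymm (cl_le_of_surj e.symm.toMonoidHom e.symm.surjective)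
    (cl_le_of_surj e.toMonoidHom e.surjective)

variable {G : Type u} [Group G] [Finite G]

theorem cl_top : cl (⊤ : Subgroup G) = cl G := cl_congr topEquiv

theorem cl_bot : cl (⊥ : Subgroup G) = 0 := cl_eq_zero _

theorem cl_normal_le (N : Subgroup G) [N.Normal] : cl N ≤ cl G := by
  by_cases h : N = ⊤
  · subst h; exact cl_top.le
  · exact (cl_lt N h).le

theorem cl_subgroupOf {A B : Subgroup G} (h : A ≤ B) : cl (A.subgroupOf B) = cl A :=
  cl_congr (subgroupOfEquivOfLe h)

theorem normal_subgroupOf_of_conj {G : Type*} [Group G] {A B : Subgroup G}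
    (hn : ∀ b ∈ B, ∀ a ∈ A, b * a * b⁻¹ ∈ A) : (A.subgroupOf B).Normal :=
  ⟨fun a ha b => hn b b.2 a ha⟩

theorem cl_le_of_conj {A B : Subgroup G} (h : A ≤ B) (hn : ∀ b ∈ B, ∀ a ∈ A, b * a * b⁻¹ ∈ A) :
    cl A ≤ cl B := by
  have := normal_subgroupOf_of_conj hn
  rw [← cl_subgroupOf h]
  exact cl_normal_le _

theorem cl_lt_of_conj {A B : Subgroup G} (h : A < B) (hn : ∀ b ∈ B, ∀ a ∈ A, b * a * b⁻¹ ∈ A) :
    cl A < cl B := by
  have := normal_subgroupOf_of_conj hn
  rw [← cl_subgroupOf h.le]
  exact cl_lt _ fun e => h.not_ge (subgroupOf_eq_top.1 e)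

theorem cl_le_ker_add_range_aux : ∀ (n : ℕ) (G : Type u) [Group G] [Finite G] {Q : Type*} [Group Q]
    (f : G →* Q), Nat.card G ≤ n → cl G ≤ cl f.ker + cl f.range
  | 0, G, _, _, _, _, _, h => absurd h (by have := Nat.card_pos (α := G); omega)
  | n + 1, G, _, _, Q, _, f, h => by
    rcases subsingleton_or_nontrivial G with hG | hG
    · rw [cl_eq_zero G]; exact Nat.zero_le _
    have key : ∀ M : Subgroup G, M.Normal → M ≠ ⊤ → cl M < cl f.ker + cl f.range := by
      intro M hM hM'
      have ih := cl_le_ker_add_range_aux n M (f.domRestrict M)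
        (by have := card_lt_of_ne_top hM'; omega)
      rw [MonoidHom.ker_domRestrict, MonoidHom.domRestrict_range, ← inf_subgroupOf_right,
        cl_subgroupOf inf_le_right] at ih
      have hfin : Finite f.range := Finite.of_surjective _ f.rangeRestrict_surjective
      have e2 : cl (M.map f) = cl (M.map f.rangeRestrict) := by
        rw [show M.map f = (M.map f.rangeRestrict).map f.range.subtype by
          rw [map_map]; rfl]
        exact (cl_congr (equivMapOfInjective _ _ Subtype.val_injective)).symm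
      have hn2 : (M.map f.rangeRestrict).Normal := hM.map _ f.rangeRestrict_surjective
      have hc : ∀ b ∈ f.ker, ∀ a ∈ f.ker ⊓ M, b * a * b⁻¹ ∈ f.ker ⊓ M := fun b _ a ha =>
        (inferInstance : (f.ker ⊓ M).Normal).conj_mem a ha b
      rw [e2] at ih
      by_cases hk : f.ker ≤ M
      · have h1 := cl_le_of_conj inf_le_left hc
        have h2 := cl_lt (M.map f.rangeRestrict) fun e => hM' (by
          have := comap_map_eq f.rangeRestrict M
          rw [e, comap_top, MonoidHom.ker_rangeRestrict, sup_of_le_left hk] at this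
          exact this.symm)
        omega
      · have h1 := cl_lt_of_conj (inf_lt_left.2 hk) hc
        have h2 := cl_normal_le (M.map f.rangeRestrict)
        omega
    have h0 := key ⊥ inferInstance bot_ne_top
    have := cl_le_succ (G := G) (n := cl f.ker + cl f.range - 1) fun M hM hM' => by
      have := key M hM hM'; omega
    omega

theorem cl_le_ker_add_range {Q : Type*} [Group Q] (f : G →* Q) : cl G ≤ cl f.ker + cl f.range :=
  cl_le_ker_add_range_aux _ G f le_rfl

theorem ker_add_le_cl_aux : ∀ (n : ℕ) (G : Type u) [Group G] [Finite G] {Q : Type*} [Group Q]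
    (f : G →* Q), Function.Surjective f → Nat.card G ≤ n → cl f.ker + cl Q ≤ cl G
  | 0, G, _, _, _, _, _, _, h => absurd h (by have := Nat.card_pos (α := G); omega)
  | n + 1, G, _, _, Q, _, f, hf, h => by
    have := Finite.of_surjective f hf
    rcases subsingleton_or_nontrivial Q with hQ | hQ
    · rw [cl_eq_zero Q]; exact cl_normal_le _
    have key : ∀ N : Subgroup Q, N.Normal → N ≠ ⊤ → cl f.ker + cl N < cl G := by
      intro N hN hN'
      have hM : N.comap f ≠ ⊤ := fun e => hN' (comap_injective hf (by rw [e, comap_top]))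
      have ih := ker_add_le_cl_aux n (N.comap f) (f.subgroupComap N)
        (f.subgroupComap_surjective_of_surjective N hf) (by have := card_lt_of_ne_top hM; omega)
      have e : (f.subgroupComap N).ker = f.ker.subgroupOf (N.comap f) := by
        ext x
        exact Subtype.ext_iff
      rw [e, cl_subgroupOf (ker_le_comap f N)] at ih
      have := cl_lt _ hM
      omega
    have h0 := key ⊥ inferInstance bot_ne_top
    have := cl_le_succ (G := Q) (n := cl G - cl f.ker - 1) fun N hN hN' => by
      have := key N hN hN'; omega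
    omega

theorem ker_add_le_cl {Q : Type*} [Group Q] (f : G →* Q) (hf : Function.Surjective f) :
    cl f.ker + cl Q ≤ cl G :=
  ker_add_le_cl_aux _ G f hf le_rfl

theorem cl_le_add_quot (N : Subgroup G) [N.Normal] : cl G ≤ cl N + cl (G ⧸ N) := by
  have := cl_le_ker_add_range (QuotientGroup.mk' N)
  rwa [QuotientGroup.ker_mk', QuotientGroup.range_mk', cl_top] at this

theorem cl_add_inf_le {S K : Subgroup G} [K.Normal] (h : ∀ g, ∃ s ∈ S, ∃ k ∈ K, s * k = g) :
    cl G + cl (K ⊓ S : Subgroup G) ≤ cl K + cl S := by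
  have h1 := cl_le_add_quot K
  have h2 := ker_add_le_cl ((QuotientGroup.mk' K).domRestrict S) fun x => by
    obtain ⟨g, rfl⟩ := QuotientGroup.mk_surjective x
    obtain ⟨s, hs, k, hk, rfl⟩ := h g
    exact ⟨⟨s, hs⟩, by simp [(QuotientGroup.eq_one_iff _).2 hk]⟩
  rw [MonoidHom.ker_domRestrict, QuotientGroup.ker_mk', ← inf_subgroupOf_right,
    cl_subgroupOf inf_le_right] at h2
  omega

theorem cl_sup_le {A B : Subgroup G} (hn : ∀ b ∈ B, ∀ a ∈ A, b * a * b⁻¹ ∈ A) :
    cl (A ⊔ B : Subgroup G) ≤ cl A + cl B := by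
  have hle : A ⊔ B ≤ normalizer (A : Set G) :=
    sup_le le_normalizer fun b hb => mem_normalizer_fintype (hn b hb)
  have : (A.subgroupOf (A ⊔ B)).Normal := normal_subgroupOf_of_le_normalizer hle
  have h := cl_add_inf_le (G := (A ⊔ B : Subgroup G)) (S := B.subgroupOf (A ⊔ B))
    (K := A.subgroupOf (A ⊔ B)) fun g => by
      have hg : g ∈ ((B.subgroupOf (A ⊔ B) ⊔ A.subgroupOf (A ⊔ B) : Subgroup (A ⊔ B : Subgroup G)) :
          Set (A ⊔ B : Subgroup G)) := by
        rw [← subgroupOf_sup le_sup_right le_sup_left, sup_comm B A, subgroupOf_self]; trivial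
      rw [mul_normal] at hg
      obtain ⟨s, hs, k, hk, e⟩ := hg
      exact ⟨s, hs, k, hk, e⟩
  rw [cl_subgroupOf le_sup_left, cl_subgroupOf le_sup_right] at h
  omega

theorem cl_simple (G : Type u) [Group G] [Finite G] [IsSimpleGroup G] : cl G ≤ 1 :=
  cl_le_succ fun N hn hN => by
    rw [(IsSimpleGroup.eq_bot_or_eq_top_of_normal N hn).resolve_right hN, cl_bot]

open ArithmeticFunction in
theorem cardFactors_card_lt {G : Type*} [Group G] [Finite G] {A B : Subgroup G} (h : A < B) :
    cardFactors (Nat.card A) < cardFactors (Nat.card B) := by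
  have h1 := card_mul_index (A.subgroupOf B)
  rw [Nat.card_congr (subgroupOfEquivOfLe h.le).toEquiv] at h1
  have h2 : (A.subgroupOf B).index ≠ 1 := fun e => h.not_ge (subgroupOf_eq_top.1 (index_eq_one.1 e))
  have h3 : (A.subgroupOf B).index ≠ 0 := index_ne_zero_of_finite
  rw [← h1, cardFactors_mul Nat.card_pos.ne' h3]
  have := cardFactors_pos_iff_one_lt.2 (show 1 < (A.subgroupOf B).index by omega)
  omega

open ArithmeticFunction in
theorem cl_le_cardFactors_aux : ∀ (n : ℕ) (G : Type u) [Group G] [Finite G],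
    cardFactors (Nat.card G) ≤ n → cl G ≤ n
  | 0, G, _, _, h => by
    have h1 : ¬ 1 < Nat.card G := fun e => by
      have := cardFactors_pos_iff_one_lt.2 e; omega
    have := Finite.card_le_one_iff_subsingleton.1 (not_lt.1 h1)
    exact (cl_eq_zero G).le
  | n + 1, G, _, _, h => cl_le_succ fun N _ hN => cl_le_cardFactors_aux n N (by
      have := cardFactors_card_lt (lt_top_iff_ne_top.2 hN)
      rw [card_top] at this
      omega)

theorem cl_le_cardFactors (G : Type u) [Group G] [Finite G] :
    cl G ≤ ArithmeticFunction.cardFactors (Nat.card G) :=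
  cl_le_cardFactors_aux _ G le_rfl

theorem le_cl_of_chain (l : ℕ) (H : Fin (l + 1) → Subgroup G) (hl : H (Fin.last l) = ⊤)
    (hchain : ∀ i : Fin l, H i.castSucc < H i.succ ∧
      ((H i.castSucc).subgroupOf (H i.succ)).Normal) : l ≤ cl G := by
  have : ∀ i : Fin (l + 1), i.val ≤ cl (H i) := by
    intro i
    induction i using Fin.induction with
    | zero => exact Nat.zero_le _
    | succ i ih =>
      obtain ⟨h1, h2⟩ := hchain i
      have := cl_lt ((H i.castSucc).subgroupOf (H i.succ))
        fun e => h1.not_ge (subgroupOf_eq_top.1 e)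
      rw [cl_subgroupOf h1.le] at this
      simp only [Fin.val_succ, Fin.val_castSucc] at ih ⊢
      omega
  have h := this (Fin.last l)
  rwa [hl, cl_top] at h

theorem cl_le_sum {ι : Type*} {A : ι → Type*} [∀ i, Group (A i)] [∀ i, Finite (A i)]
    (s : Finset ι) : ∀ (G : Type u) [Group G] [Finite G] (f : ∀ i, G →* A i),
      (∀ g, (∀ i ∈ s, f i g = 1) → g = 1) → cl G ≤ ∑ i ∈ s, cl (f i).range := by
  classical
  induction s using Finset.induction_on with
  | empty =>
    intro G _ _ f h
    have : Subsingleton G := subsingleton_of_forall_eq 1 fun g => h g (by simp)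
    exact (cl_eq_zero G).le.trans (Nat.zero_le _)
  | insert i s hi ih =>
    intro G _ _ f h
    rw [Finset.sum_insert hi, add_comm]
    refine (cl_le_ker_add_range (f i)).trans (Nat.add_le_add_right ?_ _)
    refine (ih (f i).ker (fun j => (f j).domRestrict _) fun g hg => Subtype.ext (h g ?_)).trans
      (Finset.sum_le_sum fun j _ => ?_)
    · intro j hj
      rcases Finset.mem_insert.1 hj with rfl | hj
      · exact g.2
      · exact hg j hj
    · rw [MonoidHom.domRestrict_range]
      refine cl_le_of_conj (map_le_range _ _) ?_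
      rintro _ ⟨b, rfl⟩ _ ⟨a, ha, rfl⟩
      exact ⟨b * a * b⁻¹, (inferInstance : (f i).ker.Normal).conj_mem a ha b, by simp⟩

end H25
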