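import Cfsg.Agent.H25.Cs0
import Cfsg.Agent.S3331
import Cfsg.Agent.H22.Linear

/-! The involution centralizer in the 3-local recognition of the alternating group of degree 8. -/

set_option autoImplicit false
open Subgroup

namespace H25.Cs
variable {G : Type*} [Group G] [Finite G]

theorem cs {s y r v : G} (os : orderOf s = 2) (oy : orderOf y = 3) (sy : Commute s y) (sr : Commute s r) (sv : Commute s v) (r2 : r * r = 1) (v2 : v * v = 1) (vy : v * y * v = y⁻¹) (ry : r * (y * r * y⁻¹) * (y⁻¹ * r * y) = 1) (hC : ∀ g, Commute g s → Commute g y → g ∈ zpowers y ∨ g * s ∈ zpowers y) (h48 : Nat.card (centralizer ({r, v} : Set G)) ∣ 48) (h64 : 64 ∣ Nat.card (centralizer ({s} : Set G))) (h128 : ¬ 128 ∣ Nat.card G) : Nat.card (centralizer ({s} : Set G)) ≤ 192 := by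
  let C := centralizer ({s} : Set G)
  have m : ∀ {g}, Commute s g → g ∈ C := fun c => mem_centralizer_singleton_iff.2 c.symm
  let t : C := ⟨s, m (.refl s)⟩
  let y' : C := ⟨y, m sy⟩
  let r' : C := ⟨r, m sr⟩
  let v' : C := ⟨v, m sv⟩
  have ot : orderOf t = 2 := by rw [← orderOf_coe]; exact os
  have ct : ∀ g, Commute t g := fun g => Subtype.ext (mem_centralizer_singleton_iff.1 g.2).symm
  haveI : (zpowers t).Normal := ⟨by
    rintro _ ⟨k, rfl⟩ g
    exact ⟨k, by simp [((ct g).zpow_left k).symm.eq]⟩⟩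
  let π := QuotientGroup.mk' (zpowers t)
  have su : ∀ x, ∃ g, π g = x := QuotientGroup.mk'_surjective _
  have k : ∀ {g}, π g = 1 ↔ g ∈ zpowers t := QuotientGroup.eq_one_iff _
  have l : ∀ {a g : C} {m : ℕ}, m.Coprime 2 → a ^ m = 1 → Commute (π g) (π a) → Commute g a := fun hm ha c =>
    lift ot ct hm ha (k.1 (by simp only [map_mul, map_inv, c.eq]; group))
  have y3 : y' ^ 3 = 1 := Subtype.ext (oy ▸ pow_orderOf_eq_one y)
  have e3 : π y' ^ 3 = 1 := by rw [← map_pow, y3, map_one]
  have hz : ∀ x, Commute x (π y') → x ∈ zpowers (π y') := fun x c => by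
    obtain ⟨g, rfl⟩ := su x
    rcases hC g ((ct g).symm.map C.subtype) ((l (by norm_num) y3 c).map C.subtype) with ⟨j, e⟩ | ⟨j, e⟩
    · exact ⟨j, by rw [show g = y' ^ j from Subtype.ext e.symm, map_zpow]⟩
    · refine ⟨j, ?_⟩
      rw [← mul_one (π g), ← k.2 (mem_zpowers t), ← map_mul, show g * t = y' ^ j from Subtype.ext e.symm, map_zpow]
  have o3 : orderOf (π y') = 3 := haveI : Fact (Nat.Prime 3) := ⟨by norm_num⟩
    orderOf_eq_prime e3 fun e => by
      have := orderOf_dvd_of_mem_zpowers (k.1 e)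
      rw [ot, ← orderOf_coe] at this
      exact absurd (oy ▸ this) (by norm_num)
  have hc := (zpowers t).card_eq_card_quotient_mul_card_subgroup
  rw [Nat.card_zpowers, ot] at hc
  have h2 := C.card_subgroup_dvd_card
  have := core (ρ := π r') (ν := π v') e3 hz (by rw [← map_mul, show r' * r' = 1 from Subtype.ext r2, map_one])
    (by rw [← map_mul, show v' * v' = 1 from Subtype.ext v2, map_one])
    (by rw [← map_mul, ← map_mul, show v' * y' * v' = y'⁻¹ from Subtype.ext vy, map_inv])
    (by
      simp only [← map_mul, ← map_inv]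
      rw [show r' * (y' * r' * y'⁻¹) * (y'⁻¹ * r' * y') = 1 from Subtype.ext ry, map_one])
    (fun x n hn xn c1 c2 => by
      obtain ⟨g, rfl⟩ := su x
      have n2 : n.Coprime 2 := hn.coprime_dvd_right (by norm_num)
      have g1 : (g ^ 2) ^ n = 1 := by
        rw [← pow_mul, mul_comm, pow_mul, ← ot]
        exact orderOf_dvd_iff_pow_eq_one.1 (orderOf_dvd_of_mem_zpowers (k.1 (by rw [map_pow, xn])))
      have d1 := (l (g := r') n2 g1 (by rw [map_pow]; exact c1.symm.pow_right 2)).map C.subtype
      have d2 := (l (g := v') n2 g1 (by rw [map_pow]; exact c2.symm.pow_right 2)).map C.subtype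
      have := ((centralizer ({r, v} : Set G)).orderOf_dvd_natCard (x := (g ^ 2 : C)) (mem_centralizer_iff.2 (by
        rintro _ (rfl | rfl)
        exacts [d1, d2]))).trans h48
      rw [orderOf_coe] at this
      have g2 := orderOf_eq_one_iff.1 (Nat.eq_one_of_dvd_coprimes
        ((hn.pow_right 4).coprime_dvd_right (by norm_num)) (orderOf_dvd_of_pow_eq_one g1) this)
      exact orderOf_eq_one_iff.1 (Nat.eq_one_of_dvd_coprimes n2 (orderOf_dvd_of_pow_eq_one xn)
        (orderOf_dvd_of_pow_eq_one (by rw [← map_pow, g2, map_one]))))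
    (by change 64 ∣ Nat.card C at h64; omega) (fun e => h128 (Dvd.dvd.trans (by omega) h2))
    ((Cfsg.Agent.S3331.result (zpowers (π y')) ((Nat.card_zpowers _).trans o3) (le_antisymm
      (fun x hx => hz x (mem_centralizer_iff.1 hx _ (mem_zpowers _)).symm) (le_centralizer _))).imp_right
      (Or.imp_right fun ⟨e⟩ => by
        haveI : Fact (Nat.Prime 7) := ⟨by norm_num⟩
        have := H22.gcd_mul_card_PSL (F := ZMod 7) 2 one_le_two
        rw [H22.card_SL_two, ZMod.card, ← Nat.card_congr e.toEquiv] at this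
        norm_num at this
        omega))
  change Nat.card C ≤ _
  omega

end H25.Cs
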