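import Cfsg.Agent.H24.C27c

/-! The 27 weights of `E₆` evaluated on rational toral elements of order 5 and 11. -/

set_option autoImplicit false
set_option maxRecDepth 100000

namespace H25.EF
open H24 H24.C27 Finset

/-- the weights in terms of six of them -/
def mw (j : ℕ) : Fin 6 → ℤ := [![1, 0, 0, 0, 0, 0], ![0, 1, 0, 0, 0, 0], ![0, 0, 1, 0, 0, 0], ![0, 0, 0, 1, 0, 0], ![-1, 1, 0, 1, 0, 0],
    ![-1, 0, 1, 1, 0, 0], ![1, -1, -1, -1, 0, 0], ![0, 0, -1, -1, 0, 0], ![0, -1, 0, -1, 0, 0], ![0, 0, 0, 0, 1,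
    0], ![-1, 1, 0, 0, 0, 1], ![-1, 0, 1, 0, -1, -1], ![1, -1, 0, 0, 1, 0], ![0, 0, 0, 0, 0, 1], ![0, -1, 1, 0,
    -1, -1], ![1, 0, -1, 0, 1, 0], ![0, 1, -1, 0, 0, 1], ![0, 0, 0, 0, -1, -1], ![-1, 0, 0, 0, -1, 0], ![0, 0, 0,
    -1, -1, 0], ![-1, 1, 1, 1, -1, 0], ![0, -1, 0, 0, 0, -1], ![1, -1, 0, -1, 0, -1], ![0, 0, 1, 1, 0, -1], ![0,
    0, -1, 0, 1, 1], ![1, 0, -1, -1, 1, 1], ![0, 1, 0, 1, 1, 1]].getD j 0

/-- the six basic weights -/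
def kk : Fin 6 → ℕ := ![0, 1, 2, 3, 9, 13]

theorem mw_kk : ∀ i, mw (kk i) = Pi.single i 1 := by decide +kernel

theorem wA_mw : ∀ r < 72, ∀ j < 27, wA r j = ∑ i, wA r (kk i) * mw j i := by decide +kernel

def gg (s x : ℕ) : ℕ := Nat.sub (Nat.pow 32 (Nat.mod x s)) 1

def mN (s j : ℕ) (i : Fin 6) : ℕ := if mw j i = -1 then s - 1 else (mw j i).toNat

theorem mw_mem : ∀ j < 27, ∀ i, mw j i = -1 ∨ 0 ≤ mw j i := by decide +kernel

noncomputable def chk (s B c : ℕ) : Bool :=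
  allLt 2 fun a0 => forceB (Nat.mul (s - 1) a0) fun b0 => allLt s fun a1 => forceB (Nat.mul (s - 1) a1) fun b1 =>
  allLt s fun a2 => forceB (Nat.mul (s - 1) a2) fun b2 => allLt s fun a3 => forceB (Nat.mul (s - 1) a3) fun b3 =>
  forceB (Nat.add (Nat.add (Nat.add (Nat.add (Nat.add (Nat.add (Nat.add (Nat.add (gg s a0) (gg s a1)) (gg s a2)) (gg s
    a3)) (gg s (Nat.add (Nat.add b0 a1) a3))) (gg s (Nat.add (Nat.add b0 a2) a3))) (gg s (Nat.add (Nat.add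
    (Nat.add a0 b1) b2) b3))) (gg s (Nat.add b2 b3))) (gg s (Nat.add b1 b3))) fun p3 =>
  allLt s fun a4 => forceB (Nat.mul (s - 1) a4) fun b4 =>
  forceB (Nat.add p3 (Nat.add (Nat.add (Nat.add (Nat.add (Nat.add (gg s a4) (gg s (Nat.add (Nat.add a0 b1) a4))) (gg s (Nat.add
    (Nat.add a0 b2) a4))) (gg s (Nat.add b0 b4))) (gg s (Nat.add b3 b4))) (gg s (Nat.add (Nat.add (Nat.add
    (Nat.add b0 a1) a2) a3) b4)))) fun p4 =>
  allLt s fun a5 => forceB (Nat.mul (s - 1) a5) fun b5 =>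
  forceB (Nat.add p4 (Nat.add (Nat.add (Nat.add (Nat.add (Nat.add (Nat.add (Nat.add (Nat.add (Nat.add (Nat.add (Nat.add (gg s
    (Nat.add (Nat.add b0 a1) a5)) (gg s (Nat.add (Nat.add (Nat.add b0 a2) b4) b5))) (gg s a5)) (gg s (Nat.add
    (Nat.add (Nat.add b1 a2) b4) b5))) (gg s (Nat.add (Nat.add a1 b2) a5))) (gg s (Nat.add b4 b5))) (gg s (Nat.add
    b1 b5))) (gg s (Nat.add (Nat.add (Nat.add a0 b1) b3) b5))) (gg s (Nat.add (Nat.add a2 a3) b5))) (gg s (Nat.add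
    (Nat.add b2 a4) a5))) (gg s (Nat.add (Nat.add (Nat.add (Nat.add a0 b2) b3) a4) a5))) (gg s (Nat.add (Nat.add
    (Nat.add a1 a3) a4) a5)))) fun x =>
  bor (bnot (Nat.beq (Nat.mod x B) 0)) (bor (Nat.beq x 0) (Nat.beq x (Nat.mul c B)))

theorem chk5 : chk 5 (∑ j ∈ range 5, gg 5 j) 5 = true := by decide +kernel

theorem chk11 : chk 11 (∑ j ∈ range 11, gg 11 j) 0 = true := by decide +kernel

theorem chk_spec {s B c : ℕ} (h : chk s B c = true) (hB : B ≠ 0) (a : Fin 6 → ℕ) (h0 : a 0 < 2) (h1 : ∀ i, a i < s)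
    {n : ℕ} (e : ∑ j ∈ range 27, gg s (∑ i, mN s j i * a i) = n * B) : n = 0 ∨ n = c := by
  simp only [chk, allLt_iff, forceB_eq, bor_iff, bnot_iff, Nat.beq_eq, Nat.add_eq, Nat.mul_eq] at h
  have := h _ h0 _ (h1 1) _ (h1 2) _ (h1 3) _ (h1 4) _ (h1 5)
  simp [sum_range_succ, Fin.sum_univ_six, mN, mw] at e
  generalize gg s = g at *
  have key : ∀ x, x = n * B → (¬ x.mod B = 0 ∨ x = 0 ∨ x = c * B) → n = 0 ∨ n = c := by
    rintro _ rfl (e1 | e1 | e1)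
    · exact (e1 (Nat.mul_mod_left _ _)).elim
    · exact Or.inl ((Nat.mul_eq_zero.1 e1).resolve_right hB)
    · exact Or.inr (Nat.eq_of_mul_eq_mul_right (Nat.pos_of_ne_zero hB) e1)
  exact key _ (by omega) this

end H25.EF
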