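import Cfsg.Agent.H1.CIT16
import Cfsg.Agent.H26.JRx
import Cfsg.Agent.H18.Small
import Cfsg.Agent.H17.Central

/-! Simple groups with few even element orders. -/

set_option autoImplicit false
set_option linter.unusedSectionVars false

namespace H25.EO
open Subgroup Cfsg H10 H1.CIT
open H4 (L2D)
open H5.Gd (TB TD TR SE)
open scoped MatrixGroups

universe u
variable {G : Type u} [Group G] [Finite G]

theorem two_odd_primes (hns : ¬ Group.IsSolvable G) : ∃ r s : ℕ, r.Prime ∧ s.Prime ∧ r ≠ 2 ∧ s ≠ 2 ∧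
    r ≠ s ∧ r ∣ Nat.card G ∧ s ∣ Nat.card G := by
  by_contra hn
  push Not at hn
  by_cases h : ∃ r : ℕ, r.Prime ∧ r ≠ 2 ∧ r ∣ Nat.card G
  · obtain ⟨r, hr, r2, rd⟩ := h
    refine hns (H17.isSolvable_of_two_primes Nat.prime_two hr fun s hs sd => ?_)
    by_contra hc
    push Not at hc
    exact hn r s hr hs r2 hc.1 hc.2.symm rd sd
  · push Not at h
    refine hns (H17.isSolvable_of_two_primes Nat.prime_two Nat.prime_two fun s hs sd => ?_)
    by_contra hc
    push Not at hc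
    exact h s hs hc.1 sd

theorem psl_not_solv {F : Type*} [Field F] [Fintype F] (h : 3 < Fintype.card F) :
    ¬ Group.IsSolvable PSL(2, F) := fun hs => by
  have := H22.PSL_fin_isSimpleGroup (F := F) 2 le_rfl fun _ => by omega
  have hc := IsSimpleGroup.comm_iff_isSolvable.2 hs
  have h4 := H26.J.four_dvd_psl (F := F) (by omega)
  letI : CommGroup PSL(2, F) := ⟨hc⟩
  have hp := IsSimpleGroup.prime_card (α := PSL(2, F))
  have := (Nat.prime_dvd_prime_iff_eq Nat.prime_two hp).1 (Dvd.dvd.trans (by norm_num) h4)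
  rw [← this] at h4
  omega

theorem TD.not_solv (h : TD G) : ¬ Group.IsSolvable G := fun hs => by
  obtain ⟨-, F, _, _, -, h3, ⟨e⟩⟩ := h
  exact psl_not_solv h3 (Group.isSolvable_of_surjective (f := e.toMonoidHom) e.surjective)

/-- in a group of Janko-Ree type an involution centralizes a nonsolvable subgroup -/
theorem TR.cent (h : TR G) {t : G} (ht : orderOf t = 2) :
    ∃ L : Subgroup G, L ≤ centralizer {t} ∧ ¬ Group.IsSolvable L := by
  obtain ⟨V, -, -, -, -, h⟩ := h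
  obtain ⟨E, L, h1, -, h2, -, -, h3⟩ := h t ht
  exact ⟨L, h2.trans (le_sup_left.trans h1.le), TD.not_solv h3⟩

theorem el_two_mul {t : G} (ht : orderOf t = 2) {L : Subgroup G} (hL : L ≤ centralizer {t}) {r : ℕ}
    (hr : r.Prime) (r2 : r ≠ 2) (hd : r ∣ Nat.card L) : El G (2 * r) := by
  obtain ⟨x, hx⟩ := el_of_prime hr hd
  refine el_mul (x := t) (y := x) (mem_centralizer_singleton_iff.1 (hL x.2)).symm ht.symm.dvd ?_
    ((Nat.coprime_primes Nat.prime_two hr).2 r2.symm)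
  rw [Subgroup.orderOf_coe, hx]

theorem sq_of_no_four (h4 : ¬ El G 4) {S : Subgroup G} (hS : IsPGroup 2 S) {x : G} (hx : x ∈ S) :
    x * x = 1 := by
  obtain ⟨k, hk⟩ := orderOf_eq_pow_of_mem hS hx
  have : k ≤ 1 := by
    by_contra hn
    exact h4 (El.dvd ⟨x, hk⟩ (pow_dvd_pow 2 (show 2 ≤ k by omega)))
  rw [← sq, ← orderOf_dvd_iff_pow_eq_one, hk]
  interval_cases k <;> norm_num

theorem comm_of_no_four (h4 : ¬ El G 4) {S : Subgroup G} (hS : IsPGroup 2 S) {x y : G} (hx : x ∈ S)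
    (hy : y ∈ S) : x * y = y * x := by
  have h1 := sq_of_no_four h4 hS hx
  have h2 := sq_of_no_four h4 hS hy
  have h3 := sq_of_no_four h4 hS (S.mul_mem hx hy)
  calc x * y = (y * y) * (x * y) * (x * x) := by rw [h1, h2]; group
    _ = y * (y * x * (y * x)) * x := by group
    _ = y * x := by
      rw [sq_of_no_four h4 hS (S.mul_mem hy hx)]; group

/-- simple groups with no element of order four and at most one order `2 r` -/
theorem no_four [hs : IsSimpleGroup G] (hn : ¬ IsMulCommutative G) (h4 : ¬ El G 4)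
    (h : ∀ r s : ℕ, r.Prime → s.Prime → r ≠ 2 → s ≠ 2 → El G (2 * r) → El G (2 * s) → r = s) :
    H26.J.L2E G ∨ L2D G := by
  obtain ⟨S, hS⟩ := exists_isSylowIn 2 (⊤ : Subgroup G)
  rcases H26.J.types_inv hs hn hS (fun a ha b hb _ _ => comm_of_no_four h4 hS.isPGroup ha hb) with
    k | k | k
  · rcases H26.J.tri_of_tb hs hn k with k | k | k
    · exact .inl k
    · obtain ⟨P, hP, x, hx, y, hy, e⟩ := H26.J.sz_not_comm k
      exact absurd (comm_of_no_four h4 hP hx hy) e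
    · obtain ⟨P, hP, x, hx, -, -, -, e⟩ := k.real
      exact absurd (sq_of_no_four h4 hP hx) e
  · exact .inr (H16.GD.l2d_of_td k)
  · obtain ⟨t, ht⟩ := exists_ord2 (G := G) fun h => hn ⟨⟨IsSimpleGroup.comm_iff_isSolvable.2 h⟩⟩
    obtain ⟨L, h1, h2⟩ := TR.cent k ht
    obtain ⟨r, s, hr, hs, r2, s2, hne, rd, sd⟩ := two_odd_primes h2
    exact absurd (h r s hr hs r2 s2 (el_two_mul ht h1 hr r2 rd) (el_two_mul ht h1 hs s2 sd)) hne

theorem dich [hs : IsSimpleGroup G] (hn : ¬ IsMulCommutative G)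
    (h4 : ∀ r : ℕ, r.Prime → r ≠ 2 → El G (2 * r) → ¬ El G 4)
    (h : ∀ r s : ℕ, r.Prime → s.Prime → r ≠ 2 → s ≠ 2 → El G (2 * r) → El G (2 * s) → r = s) :
    Kn G ∨ L2D G := by
  by_cases hc : ∀ r : ℕ, r.Prime → r ≠ 2 → ¬ El G (2 * r)
  · exact .inl ((cit_of_el hc).simple hn)
  push Not at hc
  obtain ⟨r, hr, r2, e⟩ := hc
  rcases no_four hn (h4 r hr r2 e) h with ⟨F, i, j, n, h1, h2, h3⟩ | k
  exacts [.inl (.inl (.inl ⟨F, i, j, n, by omega, h2, h3⟩)), .inr k]

end H25.EO
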