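import Cfsg.Agent.H25.EO1
import Cfsg.Agent.H1.Super

/-! A norm argument for Frobenius actions and groups with few element orders. -/

set_option autoImplicit false
set_option linter.unusedSectionVars false

namespace H25.EO
open Subgroup Cfsg H10 H1.CIT Finset
open scoped MatrixGroups IsMulCommutative

theorem frob_norm {H A : Type*} [Group H] [CommGroup A] [MulDistribMulAction H A] [Finite H]
    (K : Subgroup H) {x : H} (hx : x ∈ NN(K)) {n : ℕ} (hn : 0 < n)
    (hf : ∀ i, 0 < i → i < n → ∀ k ∈ K, Commute k (x ^ i) → k = 1)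
    (hN : ∀ v : A, ∏ i ∈ range n, x ^ i • v = 1) {k₀ : H} (h0 : k₀ ∈ K) (u : A) :
    (k₀ • u / u) ^ Nat.card K = 1 := by
  classical
  haveI := Fintype.ofFinite K
  set w := k₀ • u / u
  have h1 : ∏ k : K, (k : H) • (∏ i ∈ range n, x ^ i • ((k : H)⁻¹ • w)) = 1 := by simp [hN]
  simp only [Finset.smul_prod', smul_smul] at h1
  rw [Finset.prod_comm] at h1
  obtain ⟨m, rfl⟩ : ∃ m, n = m + 1 := ⟨n - 1, by omega⟩
  rw [Finset.prod_range_succ'] at h1
  have h2 : ∀ i ∈ range m, ∏ k : K, ((k : H) * (x ^ (i + 1) * (k : H)⁻¹)) • w = 1 := fun i hi => by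
    have hi' := Finset.mem_range.1 hi
    set y := x ^ (i + 1)
    have hy : y ∈ NN(K) := pow_mem hx _
    let f : K → K := fun k => k * ⟨y * (k : H)⁻¹ * y⁻¹, conj_mem_of_mem_NN hy (inv_mem k.2)⟩
    have hinj : Function.Injective f := fun a b e => by
      have e' : (a : H) * (y * (a : H)⁻¹ * y⁻¹) = b * (y * (b : H)⁻¹ * y⁻¹) := congrArg Subtype.val e
      have := hf (i + 1) (by omega) (by omega) ((b : H)⁻¹ * a) (mul_mem (inv_mem b.2) a.2) (by
        change (b : H)⁻¹ * a * y = y * ((b : H)⁻¹ * a)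
        calc (b : H)⁻¹ * a * y = (b : H)⁻¹ * (a * (y * (a : H)⁻¹ * y⁻¹)) * y * a := by group
          _ = _ := by rw [e']; group)
      exact Subtype.ext (inv_mul_eq_one.1 this).symm
    have e1 : ∏ k : K, ((k : H) * (y * (k : H)⁻¹)) • w = ∏ k : K, ((k : H) * y) • w :=
      Fintype.prod_bijective f (Finite.injective_iff_bijective.1 hinj) _ _ fun k => by
        simp only [f, Subgroup.coe_mul]; congr 1; group
    have e2 : ∏ k : K, ((k : H) * y * k₀) • u = ∏ k : K, ((k : H) * y) • u :=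
      Fintype.prod_equiv (Equiv.mulRight (⟨y * k₀ * y⁻¹, conj_mem_of_mem_NN hy h0⟩ : K)) _ _ fun k => by
        simp only [Equiv.coe_mulRight, Subgroup.coe_mul]; congr 1; group
    rw [e1]
    simp only [w, smul_div', smul_smul, Finset.prod_div_distrib, e2, div_self']
  rw [Finset.prod_eq_one h2] at h1
  simpa [Nat.card_eq_fintype_card] using h1

universe u
variable {G : Type u} [Group G] [Finite G]

theorem frob_el {V K : Subgroup G} {x : G} {p : ℕ} (hp : p.Prime) [IsMulCommutative V]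
    (he : ∀ v ∈ V, v ^ p = 1) (hK : K ≤ NN(V)) (hxV : x ∈ NN(V)) (hx : x ∈ NN(K))
    (hf : ∀ i, 0 < i → i < orderOf x → ∀ k ∈ K, Commute k (x ^ i) → k = 1)
    (hc : ¬ p ∣ Nat.card K) (hn : ¬ K ≤ CC(V)) : El G (orderOf x * p) := by
  haveI := Fact.mk hp
  letI : MulDistribMulAction NN(V) V := MulDistribMulAction.compHom V V.normalizerMonoidHom
  have hs : ∀ (g : NN(V)) (v : V), ((g • v : V) : G) = g * v * (g : G)⁻¹ := fun g v => rfl
  set x' : NN(V) := ⟨x, hxV⟩
  have hpow : ∀ (v : V) (j : ℕ), ((v : G) * x) ^ j = ((∏ i ∈ range j, x' ^ i • v : V) : G) * x ^ j :=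
    fun v j => by
    induction j with
    | zero => simp
    | succ j ih =>
      rw [pow_succ, ih, Finset.prod_range_succ, Subgroup.coe_mul, hs]
      simp only [x', SubgroupClass.coe_pow]
      group
  have hcop : (Nat.card K).Coprime p := ((Nat.Prime.coprime_iff_not_dvd hp).2 hc).symm
  by_cases hN : ∀ v : V, ∏ i ∈ range (orderOf x), x' ^ i • v = 1
  · refine absurd (fun k hk u hu => ?_) hn
    have := frob_norm (K.subgroupOf NN(V)) (x := x') (by
        rw [NN_subgroupOf hK]; exact hx) (orderOf_pos x)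
      (fun i h1 h2 k hk e => Subtype.ext (hf i h1 h2 k hk (congrArg Subtype.val e.eq))) hN
      (k₀ := ⟨k, hK hk⟩) hk ⟨u, hu⟩
    rw [Nat.card_congr (subgroupOfEquivOfLe hK).toEquiv] at this
    have h2 : ((⟨k, hK hk⟩ : NN(V)) • (⟨u, hu⟩ : V) / ⟨u, hu⟩) ^ p = 1 := Subtype.ext (he _ (Subtype.prop _))
    have h3 := (pow_eq_one_iff_of_coprime hcop).1 ⟨this, h2⟩
    have h4 : k * u * k⁻¹ = u := congrArg Subtype.val (div_eq_one.1 h3)
    exact (mul_inv_eq_iff_eq_mul.1 h4).symm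
  push Not at hN
  obtain ⟨v, hv⟩ := hN
  refine ⟨v * x, ?_⟩
  have h1 := hpow v (orderOf x)
  rw [pow_orderOf_eq_one, mul_one] at h1
  have h2 : orderOf (((v : G) * x) ^ orderOf x) = p := by
    rw [h1]
    exact orderOf_eq_prime (he _ (Subtype.prop _)) fun e => hv (Subtype.ext e)
  have h3 : orderOf x ∣ orderOf ((v : G) * x) := by
    by_contra hd
    set m := orderOf ((v : G) * x)
    have h4 := hpow v m
    rw [pow_orderOf_eq_one, ← pow_mod_orderOf] at h4
    have h5 : x ^ (m % orderOf x) ∈ V := by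
      rw [eq_inv_of_mul_eq_one_right h4.symm]
      exact inv_mem (Subtype.prop _)
    refine hn fun k hk => ?_
    have hKV : K ⊓ V = ⊥ := by
      refine eq_bot_iff.2 fun a ha => ?_
      exact (pow_eq_one_iff_of_coprime hcop).1 ⟨by
        rw [← orderOf_dvd_iff_pow_eq_one]; exact K.orderOf_dvd_natCard ha.1, he a ha.2⟩
    have := hf _ (Nat.pos_of_ne_zero fun e => hd (Nat.dvd_of_mod_eq_zero e))
      (Nat.mod_lt _ (orderOf_pos x)) k hk (by
        set y := x ^ (m % orderOf x)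
        have : k * y * k⁻¹ * y⁻¹ ∈ K ⊓ V := ⟨by
          rw [show k * y * k⁻¹ * y⁻¹ = k * (y * k⁻¹ * y⁻¹) by group]
          exact K.mul_mem hk (conj_mem_of_mem_NN (pow_mem hx _) (K.inv_mem hk)),
          V.mul_mem (conj_mem_of_mem_NN (hK hk) h5) (V.inv_mem h5)⟩
        rw [hKV, mem_bot] at this
        exact commutatorElement_eq_one_iff_commute.1 this)
    rw [this]
    exact one_mem _
  rw [orderOf_pow_of_dvd (orderOf_pos x).ne' h3] at h2
  rw [← h2, Nat.mul_div_cancel' h3]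

omit [Finite G] in
theorem exists_min_elt [Finite G] {X D : Subgroup G} (h : ¬ X ≤ D) : ∃ g ∈ X, g ∉ D ∧ ∃ s : ℕ, s.Prime ∧
    g ^ s ∈ D ∧ IsPGroup s (zpowers g) ∧ (orderOf g = s ∨ (g ^ s ≠ 1 ∧ s * s ∣ orderOf g ∧
      s ∣ orderOf (g ^ s))) := by
  classical
  obtain ⟨g0, h1, h2⟩ := SetLike.not_le_iff_exists.1 h
  have hex : ∃ n, ∃ g ∈ X, g ∉ D ∧ orderOf g = n := ⟨_, g0, h1, h2, rfl⟩
  obtain ⟨g, hg, hD, ho⟩ := Nat.find_spec hex
  have hmin : ∀ s : ℕ, s.Prime → s ∣ orderOf g → g ^ s ∈ D := fun s hs hd => by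
    by_contra hn
    have := Nat.find_min' hex ⟨g ^ s, pow_mem hg s, hn, rfl⟩
    rw [orderOf_pow_of_dvd hs.ne_zero hd, ← ho] at this
    exact absurd this (not_le.2 (Nat.div_lt_self (orderOf_pos g) hs.one_lt))
  obtain ⟨s, hs, hd⟩ := exists_prime_ord (x := g) fun e => hD (e ▸ one_mem D)
  have huniq : ∀ r : ℕ, r.Prime → r ∣ orderOf g → r = s := fun r hr hr' => by
    by_contra hne
    have hc := (Nat.coprime_primes hr hs).2 hne
    refine hD ?_
    have := D.zpow_mem (hmin r hr hr') (Nat.gcdA r s)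
    have := D.mul_mem this (D.zpow_mem (hmin s hs hd) (Nat.gcdB r s))
    rwa [← zpow_natCast, ← zpow_natCast, ← zpow_mul, ← zpow_mul, ← zpow_add, ← Nat.gcd_eq_gcd_ab, hc,
      Nat.cast_one, zpow_one] at this
  obtain ⟨j, hj⟩ := pow_of_primes (orderOf_pos g).ne' huniq
  haveI := Fact.mk hs
  refine ⟨g, hg, hD, s, hs, hmin s hs hd, IsPGroup.of_card (n := j) (by rw [Nat.card_zpowers, hj]), ?_⟩
  rcases j with _ | _ | j
  · rw [hj] at hd; exact absurd (Nat.dvd_one.1 hd) hs.one_lt.ne'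
  · exact .inl (by simpa using hj)
  · have e : orderOf (g ^ s) = s ^ (j + 1) := by
      rw [orderOf_pow_of_dvd hs.ne_zero hd, hj, pow_succ, Nat.mul_div_cancel _ hs.pos]
    refine .inr ⟨fun h1 => ?_, ⟨s ^ j, by rw [hj]; ring⟩, e ▸ dvd_pow_self s (by omega)⟩
    rw [h1, orderOf_one] at e
    exact absurd e.symm (Nat.one_lt_pow (by omega) hs.one_lt).ne'

end H25.EO
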