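import Cfsg.Agent.H25.EO2
import Cfsg.Agent.H8.Cyc
import Cfsg.Agent.H6.ZS2
import Cfsg.Agent.H4.GD2
import Cfsg.Agent.Lead.FT

/-! Groups in which no prime divides three element orders. -/

set_option autoImplicit false
set_option linter.unusedSectionVars false

namespace H25.EO
open Subgroup Cfsg H10 H1.CIT
open H4 (L2D DF)
open scoped MatrixGroups commutatorElement

universe u
variable {G : Type u} [Group G] [Finite G]

/-- no prime divides three element orders -/
def T3 (G : Type*) [Group G] : Prop := ∀ p a b c : ℕ, p.Prime → El G a → El G b → El G c → a ≠ b →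
  b ≠ c → a ≠ c → p ∣ a → p ∣ b → p ∣ c → False

omit [Finite G] in
theorem T3.sub (h : T3 G) (H : Subgroup G) : T3 H := fun p a b c hp ha hb hc =>
  h p a b c hp (ha.inj H.subtype_injective) (hb.inj H.subtype_injective) (hc.inj H.subtype_injective)

theorem T3.quot (h : T3 G) {H : Type*} [Group H] {f : G →* H} (hf : Function.Surjective f) : T3 H :=
  fun p a b c hp ha hb hc => h p a b c hp (ha.lift hf) (hb.lift hf) (hc.lift hf)

theorem T3.eq (h : T3 G) {p a b : ℕ} (hp : p.Prime) (ha : El G (p * a)) (hb : El G (p * b)) (a1 : a ≠ 1)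
    (b1 : b ≠ 1) : a = b := by
  by_contra hn
  have := hp.pos
  refine h p p _ _ hp (ha.dvd (dvd_mul_right _ _)) ha hb (fun e => a1 ?_) (fun e => hn ?_)
    (fun e => b1 ?_) dvd_rfl (dvd_mul_right _ _) (dvd_mul_right _ _)
  · exact (Nat.eq_of_mul_eq_mul_left this (by omega : p * 1 = p * a)).symm
  · exact Nat.eq_of_mul_eq_mul_left this e
  · exact (Nat.eq_of_mul_eq_mul_left this (by omega : p * 1 = p * b)).symm

theorem T3.omega (h : T3 G) {n : ℕ} (hn : El G n) : n.primeFactorsList.length ≤ 2 := by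
  by_contra hl
  have h0 : n ≠ 0 := by
    obtain ⟨x, rfl⟩ := hn
    exact (orderOf_pos x).ne'
  have hp := Nat.prod_primeFactorsList h0
  have hq := fun p => @Nat.prime_of_mem_primeFactorsList n p
  generalize n.primeFactorsList = l at *
  match l, hl, hp, hq with
  | a :: b :: c :: l, _, hp, hq =>
    have ha := hq a (by simp)
    have hb := (hq b (by simp)).two_le
    have hc := (hq c (by simp)).two_le
    simp only [List.prod_cons] at hp
    have := h.eq ha (hn.dvd ⟨c * l.prod, by rw [← hp]; ring⟩ : El G (a * b))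
      (hn.dvd ⟨l.prod, by rw [← hp]; ring⟩ : El G (a * (b * c))) (by omega) (by nlinarith)
    nlinarith
  | [], hl, _, _ => simp at hl
  | [_], hl, _, _ => simp at hl
  | [_, _], hl, _, _ => simp at hl

theorem el_mul_of_cent {c : G} {r s : ℕ} (hr : r.Prime) (hc : r ∣ orderOf c) {L : Subgroup G}
    (hL : L ≤ centralizer {c}) (hs : s.Prime) (hne : r ≠ s) (hd : s ∣ Nat.card L) : El G (r * s) := by
  obtain ⟨x, hx⟩ := el_of_prime hs hd
  refine el_mul (x := c) (y := x) (mem_centralizer_singleton_iff.1 (hL x.2)).symm hc ?_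
    ((Nat.coprime_primes hr hs).2 hne)
  rw [Subgroup.orderOf_coe, hx]

theorem T3.cent_bot (h : T3 G) {L : Subgroup G} (hL : ¬ Group.IsSolvable L) : CC(L) = ⊥ := by
  refine eq_bot_iff.2 fun c hc => by_contra fun c1 => ?_
  obtain ⟨r, hr, hd⟩ := exists_prime_ord c1
  have hc' : L ≤ centralizer {c} := fun x hx => mem_centralizer_singleton_iff.2 (hc x hx)
  obtain ⟨a, b, ha, hb, a2, b2, hne, da, db⟩ := two_odd_primes hL
  obtain ⟨t, ht⟩ := exists_ord2 hL
  have d2 : 2 ∣ Nat.card L := ht ▸ orderOf_dvd_natCard t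
  have k := fun (s : ℕ) (hs : s.Prime) => el_mul_of_cent hr hd hc' hs
  by_cases e1 : r = a
  · subst e1
    exact b2 (h.eq hr (k b hb hne db) (k 2 Nat.prime_two a2 d2) hb.one_lt.ne' (by norm_num))
  by_cases e2 : r = b
  · subst e2
    exact a2 (h.eq hr (k a ha e1 da) (k 2 Nat.prime_two b2 d2) ha.one_lt.ne' (by norm_num))
  exact hne (h.eq hr (k a ha e1 da) (k b hb e2 db) ha.one_lt.ne' hb.one_lt.ne')

theorem solv_of_burn {S : Subgroup G} (hS : IsSylowIn 2 S ⊤) (h : NN(S) ≤ CC(S)) :
    Group.IsSolvable G := by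
  obtain ⟨S, rfl⟩ := hS.exists_sylow_top
  have hc := MonoidHom.ker_transferSylow_isComplement' S h
  haveI := FT.odd_solvable (MonoidHom.transferSylow S h).ker (by
    rw [← hc.index_eq_card, ← Nat.not_even_iff_odd, even_iff_two_dvd]; exact S.not_dvd_index)
  haveI := solv_of_pg S.2
  exact Group.isSolvable_of_ker_le_range (Subgroup.subtype _) (MonoidHom.transferSylow S h)
    (Subgroup.range_subtype _).ge

theorem T3.core_bot (h : T3 G) (hns : ¬ Group.IsSolvable G) (h4 : ¬ El G 4) : pCore 2 G = ⊥ := by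
  obtain ⟨S, hS⟩ := exists_isSylowIn 2 (⊤ : Subgroup G)
  set Q := pCore 2 G
  have hQ : Q ≤ S := hS.le_of_NN isPGroup_pCore' le_top (le_NN_of_normal _ _)
  have hSC : S ≤ CC(Q) := fun s hs q hq => comm_of_no_four h4 hS.isPGroup (hQ hq) hs
  have hn : ¬ Group.IsSolvable CC(Q) := fun hs => hns (solv_of_quot _ hs (FT.odd_solvable _ (by
    rw [← Nat.not_even_iff_odd, even_iff_two_dvd]
    have := hS.not_dvd_relIndex
    rw [relIndex_top_right] at this
    exact fun e => this (e.trans (index_dvd_of_le hSC)))))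
  exact eq_bot_iff.2 ((le_centralizer_iff.1 le_rfl).trans (h.cent_bot hn).le)

theorem odd_ord_of_pg {s : ℕ} (hs : s.Prime) (s2 : s ≠ 2) {g : G} (h : IsPGroup s (zpowers g)) :
    Odd (orderOf g) := by
  haveI := Fact.mk hs
  obtain ⟨k, hk⟩ := orderOf_eq_pow_of_mem h (mem_zpowers g)
  exact hk ▸ (hs.odd_of_ne_two s2).pow

/-- the case of a solvable minimal normal subgroup -/
theorem T3.not_solv_normal (h : T3 G) (hns : ¬ Group.IsSolvable G) (h4 : ¬ El G 4) {V : Subgroup G}
    [V.Normal] (h0 : V ≠ ⊥) {r : ℕ} (hr : r.Prime) [IsMulCommutative V] (he : ∀ v ∈ V, v ^ r = 1)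
    (hP : IsPGroup r V) (hs : IsSimpleGroup (G ⧸ V)) : False := by
  haveI := Fact.mk hr
  have r2 : r ≠ 2 := by
    rintro rfl
    exact h0 (eq_bot_iff.2 ((le_pCore' hP).trans (h.core_bot hns h4).le))
  have hC : CC(V) = V := by
    have hle : V ≤ CC(V) := le_centralizer V
    rcases (Normal.map inferInstance _ (QuotientGroup.mk'_surjective V) :
      (CC(V).map (QuotientGroup.mk' V)).Normal).eq_bot_or_eq_top with e | e
    · rw [Subgroup.map_eq_bot_iff, QuotientGroup.ker_mk'] at e
      exact le_antisymm e hle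
    · have : CC(V) = ⊤ := by
        rw [← comap_map_eq_self (f := QuotientGroup.mk' V) (H := CC(V))
          (by rwa [QuotientGroup.ker_mk']), e, comap_top]
      refine absurd (eq_bot_iff.2 ((le_centralizer_iff.1 this.ge).trans (h.cent_bot fun k => hns ?_).le)) h0
      exact Group.isSolvable_of_surjective (f := (topEquiv (G := G)).toMonoidHom) topEquiv.surjective
  obtain ⟨S, hS⟩ := exists_isSylowIn 2 (⊤ : Subgroup G)
  have hSC : S ≤ CC(S) := fun s hs q hq => comm_of_no_four h4 hS.isPGroup hq hs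
  haveI : IsMulCommutative S := isMulCommutative_iff_le_CC.2 hSC
  obtain ⟨x, hxN, hxC, s, hs', h1, h2, h3⟩ := exists_min_elt fun k => hns (solv_of_burn hS k)
  have s2 : s ≠ 2 := by
    rintro rfl
    exact hxC (hSC (hS.le_of_le_NN h2 le_top (zpowers_le.2 hxN) (mem_zpowers x)))
  have ox := odd_ord_of_pg hs' s2 h2
  obtain ⟨k, hk⟩ := IsPGroup.iff_card.1 hS.isPGroup
  obtain ⟨t, ht, ot⟩ := exists_orderOf_eq_of_ne_bot hS.isPGroup (by
    rintro rfl
    exact hxC (by rw [CC_bot]; trivial))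
  have o : orderOf x = s := h3.resolve_right fun ⟨_, k1, k2⟩ => s2 (h.eq hs' (El.dvd ⟨x, rfl⟩ k1)
    (el_mul (x := x ^ s) (y := t) (h1 t ht).symm k2 ot.symm.dvd ((Nat.coprime_primes hs' Nat.prime_two).2 s2))
    hs'.one_lt.ne' (by norm_num))
  have e2r : El G (r * 2) := by
    by_contra hn
    have hc := H2.isCyclic_of_fpf_comm' S V h0 (le_NN_of_normal _ _) fun a ha a1 => by
      refine eq_bot_iff.2 fun v hv => by_contra fun v1 => hn (el_mul (x := v) (y := a)
        (mem_centralizer_singleton_iff.1 hv.2) (orderOf_eq_prime (he v hv.1) v1).symm.dvd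
        (orderOf_eq_prime (by rw [sq]; exact sq_of_no_four h4 hS.isPGroup ha) a1).symm.dvd
        ((Nat.coprime_primes hr Nat.prime_two).2 r2))
    obtain ⟨a, rfl⟩ := H8.exists_zpowers_eq_of_isCyclic hc
    have oa : orderOf a = 2 := orderOf_eq_prime
      (by rw [sq]; exact sq_of_no_four h4 hS.isPGroup (mem_zpowers a)) (by
        rintro rfl
        exact hxC (by rw [zpowers_one_eq_bot, CC_bot]; trivial))
    have := H1.pow_mem_centralizer_of_card_prime (p := 2) ((Nat.card_zpowers a).trans oa) hxN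
    exact hxC (by simpa using this)
  have hcop : (Nat.card (zpowers x)).Coprime (Nat.card S) := by
    rw [Nat.card_zpowers, hk]; exact (Nat.coprime_two_right.2 ox).pow_right k
  have hz := zpowers_le.2 hxN
  have hKS : ⁅S, zpowers x⁆ ≤ S := le_normalizer_iff_commutator_le_left.1 hz
  have := frob_el (V := V) (K := ⁅S, zpowers x⁆) (x := x) hr he (le_NN_of_normal _ _)
    (le_NN_of_normal ⊤ V (mem_top x)) (right_le_NN_comm _ _ (mem_zpowers x))
    (fun i h1 h2 a ha e => by
      have hz' : zpowers (x ^ i) = zpowers x := H16.zpowers_eq_of_prime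
        (by rw [Nat.card_zpowers, o]; exact hs') (pow_mem (mem_zpowers x) i)
        (pow_ne_one_of_lt_orderOf h1.ne' h2)
      refine (H1.inf_centralizer_inf_commutator_eq_bot hz hcop).le ⟨⟨hKS ha, ?_⟩, ha⟩
      rw [← hz']
      rintro _ ⟨j, rfl⟩
      exact (e.zpow_right j).eq.symm)
    (fun e => r2 ((Nat.prime_dvd_prime_iff_eq hr Nat.prime_two).1
      (hr.dvd_of_dvd_pow (hk ▸ e.trans (card_dvd_of_le hKS)))))
    (fun e => hxC (by
      rw [hC] at e
      have : ⁅S, zpowers x⁆ = ⊥ := eq_bot_iff.2 fun a ha => by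
        have h5 := he a (e ha)
        have h6 := sq_of_no_four h4 hS.isPGroup (hKS ha)
        exact (pow_eq_one_iff_of_coprime ((Nat.coprime_primes hr Nat.prime_two).2 r2)).1
          ⟨h5, by rwa [sq]⟩
      exact le_centralizer_iff.1 (commutator_eq_bot_iff_le_centralizer.1 this) (mem_zpowers x)))
  rw [o, mul_comm] at this
  exact s2 (h.eq hr this e2r hs'.one_lt.ne' (by norm_num))

theorem T3.two_eq (h : T3 G) (r s : ℕ) (hr : r.Prime) (hs : s.Prime) (_ : r ≠ 2) (_ : s ≠ 2)
    (e1 : El G (2 * r)) (e2 : El G (2 * s)) : r = s :=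
  h.eq Nat.prime_two e1 e2 hr.one_lt.ne' hs.one_lt.ne'

theorem pow_cent {c : G} {s : ℕ} (hs : s.Prime) {T : Subgroup G} (hT : Nat.card T = s) (hc : c ∈ NN(T))
    {n : ℕ} (hn : c ^ n = 1) (hcop : n.Coprime (s - 1)) : c ∈ CC(T) := by
  haveI := Fact.mk hs
  have h1 := H1.pow_mem_centralizer_of_card_prime hT hc
  have h2 := CC(T).mul_mem (CC(T).zpow_mem (hn ▸ one_mem _ : c ^ n ∈ CC(T)) (Nat.gcdA n (s - 1)))
    (CC(T).zpow_mem h1 (Nat.gcdB n (s - 1)))
  rwa [← zpow_natCast, ← zpow_natCast, ← zpow_mul, ← zpow_mul, ← zpow_add, ← Nat.gcd_eq_gcd_ab, hcop,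
    Nat.cast_one, zpow_one] at h2

/-- the almost simple case -/
theorem T3.not_simple_normal (h : T3 G) (h4 : ¬ El G 4) (hC : ¬ Cit G) {L : Subgroup G} [L.Normal]
    (hL : IsSimpleGroup L) (hns : ¬ Group.IsSolvable L) (hne : L ≠ ⊤)
    (hmax : ∀ g, g ∉ L → L ⊔ zpowers g = ⊤) : False := by
  have hCL := h.cent_bot hns
  have h2L : ∀ P : Subgroup G, IsPGroup 2 P → P ≤ L := fun P hP a ha => by
    obtain ⟨R, hR⟩ := hP.exists_le_sylow
    haveI : IsMulCommutative (R : Subgroup G) := isMulCommutative_iff_le_CC.2 fun s hs q hq =>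
      comm_of_no_four h4 R.isPGroup' hq hs
    have hO : pPrimeCore 2 G = ⊥ := by
      rcases (inferInstance : ((pPrimeCore 2 G).subgroupOf L).Normal).eq_bot_or_eq_top with e | e
      · rw [subgroupOf_eq_bot, disjoint_iff] at e
        refine eq_bot_iff.2 (le_trans ?_ hCL.le)
        exact commutator_eq_bot_iff_le_centralizer.1 (eq_bot_iff.2 ((commutator_le_inf _ _).trans e.le))
      · rw [subgroupOf_eq_top] at e
        exact absurd (FT.odd_solvable _ (odd_O.of_dvd_nat (card_dvd_of_le e))) hns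
    obtain ⟨z, hz, n, hn, e⟩ := H6.exists_center_of_abelian_sylow R hO (hR ha)
    have : z = 1 := hCL.le fun x _ => mem_center_iff.1 hz x
    rw [e, this, mul_one]
    obtain ⟨g, -, hg⟩ := SetLike.exists_of_lt (lt_top_iff_ne_top.2 hne)
    refine Normal.quotient_commutative_iff_commutator_le.1 ?_ hn
    haveI : IsCyclic (G ⧸ L) := ⟨⟨g, fun y => by
      obtain ⟨y, rfl⟩ := QuotientGroup.mk_surjective y
      obtain ⟨l, hl, _, ⟨j, rfl⟩, rfl⟩ := mem_sup_of_normal_left.1 ((hmax g hg).ge (mem_top y))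
      exact ⟨j, by simp [(QuotientGroup.eq_one_iff l).2 hl]⟩⟩⟩
    exact IsCyclic.commutative
  rcases no_four (G := L) (fun e => hns (isSolvable_of_comm e.1.1))
    (fun e => h4 (e.inj L.subtype_injective)) (h.sub L).two_eq with k | k
  · simp only [Cit, not_forall] at hC
    obtain ⟨t, x, ot, ox, hc, x1⟩ := hC
    obtain ⟨p, hp, hd⟩ := exists_prime_ord x1
    have p2 : p ≠ 2 := by
      rintro rfl
      exact (Nat.not_even_iff_odd.2 ox) (even_iff_two_dvd.2 hd)
    have e2p : El G (p * 2) := el_mul hc.symm hd ot.symm.dvd ((Nat.coprime_primes hp Nat.prime_two).2 p2)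
    have htL : t ∈ L := h2L _ (GW.isPGroup_zp2 ot) (mem_zpowers t)
    set c := x ^ (orderOf x / p)
    have oc : orderOf c = p := ord_pow_div hd
    have hcL : c ∉ L := fun hcL => by
      obtain ⟨j, hj⟩ := orderOf_eq_pow_of_mem (k.pg (t := ⟨t, htL⟩) (by simpa using ot))
        (x := ⟨c, hcL⟩) (mem_centralizer_singleton_iff.2 (Subtype.ext (hc.symm.pow_left _).eq))
      rw [Subgroup.orderOf_mk, oc] at hj
      exact p2 ((Nat.prime_dvd_prime_iff_eq hp Nat.prime_two).1 (hp.dvd_of_dvd_pow hj.dvd))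
    obtain ⟨F, _, _, n, h1, h2, ⟨f⟩⟩ := k
    have key := fun m => (El.congr f (n := m)).trans (el_psl_even (by omega) h2)
    have h8 := eight_le_pow h1
    have h9 : 2 ∣ 2 ^ n := dvd_pow_self 2 (by omega)
    by_cases p3 : p = 3
    · subst p3
      rcases two_pow_mod_three n with e | e
      · obtain ⟨r, hr⟩ : 3 ∣ 2 ^ n - 1 := by omega
        have := h.eq hp e2p (hr ▸ ((key (2 ^ n - 1)).2 (by simp)).inj L.subtype_injective : El G (3 * r))
          (by norm_num) (by omega)
        omega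
      · obtain ⟨r, hr⟩ : 3 ∣ 2 ^ n + 1 := by omega
        have := h.eq hp e2p (hr ▸ ((key (2 ^ n + 1)).2 (by simp)).inj L.subtype_injective : El G (3 * r))
          (by norm_num) (by omega)
        omega
    haveI := Fact.mk Nat.prime_three
    obtain ⟨y, hy, oy⟩ := exists_orderOf_eq_of_dvd (p := 3) (L := L)
      (by rw [Nat.card_congr f.toEquiv]; exact three_dvd_psl)
    have hy3 : Nat.card (zpowers y) = 3 := (Nat.card_zpowers y).trans oy
    obtain ⟨R, hR, hyR⟩ := exists_isSylowIn_ge (IsPGroup.of_card (n := 1) (by simpa using hy3))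
      (zpowers_le.2 hy)
    have hcyc : IsCyclic R := by
      have := (cycS_psl (F := F) (r := 3) (by norm_num) (by
        rw [h2]; exact fun e => by have := Nat.prime_three.dvd_of_dvd_pow e; omega)).of_surj
          f.symm.toMonoidHom f.symm.surjective (R.subgroupOf L) (isPGroup_subgroupOf hR.isPGroup L)
      exact isCyclic_of_surjective _ (subgroupOfEquivOfLe hR.le).surjective
    obtain ⟨a, ha, b, hb, e⟩ := hR.frattini' le_top (le_NN_of_normal _ _) (mem_top c)
    have hbN : b ∈ NN(zpowers y) := by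
      rw [mem_NN]
      refine eq_of_le_of_card_ge (H8.le_of_card_dvd_of_isCyclic hcyc
        ((cj_mono b hyR).trans (mem_NN.1 hb.2).le) hyR (by rw [card_cj])) (by rw [card_cj])
    have hb2 : b ^ 2 ∈ CC(zpowers y) := H1.pow_mem_centralizer_of_card_prime (p := 3) hy3 hbN
    have hpb : p ∣ orderOf (b ^ 2) := by
      refine Dvd.dvd.trans ?_ (orderOf_map_dvd (QuotientGroup.mk' L) _)
      have : orderOf (QuotientGroup.mk' L c) = p := by
        haveI := Fact.mk hp
        exact orderOf_eq_prime (by rw [← map_pow, ← oc, pow_orderOf_eq_one, map_one])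
          fun e => hcL ((QuotientGroup.eq_one_iff c).1 e)
      rw [← e, map_mul, show QuotientGroup.mk' L a = 1 from (QuotientGroup.eq_one_iff a).2 ha,
        one_mul] at this
      rw [map_pow, Nat.Coprime.orderOf_pow (by rw [this]; exact (Nat.coprime_primes hp Nat.prime_two).2 p2),
        this]
    have := h.eq hp e2p (el_mul (x := b ^ 2) (y := y) (hb2 y (mem_zpowers y)).symm hpb oy.symm.dvd
      ((Nat.coprime_primes hp Nat.prime_three).2 p3)) (by norm_num) (by norm_num)
    omega
  · obtain ⟨V, hV⟩ := k.exists_df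
    obtain ⟨v, hv, v1⟩ := H16.GD.k_exists hV.klein
    have ov := hV.ord hv v1
    have hS : IsSylowIn 2 V L := isSylowIn_of_not_dvd hV.le
      (IsPGroup.of_card (n := 2) (by simpa using hV.card))
      (by rw [← even_iff_two_dvd, Nat.not_even_iff_odd]; exact hV.odd)
    obtain ⟨c, hc, hcL, s, hs, -, h2, h3⟩ := exists_min_elt (X := NN(V) ⊓ centralizer {v}) (D := L)
      fun e => hne (eq_top_iff.2 fun g _ => by
        obtain ⟨a, ha, b, hb, rfl⟩ := hS.frattini' le_top (le_NN_of_normal _ _) (mem_top g)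
        obtain ⟨l, hl, e1⟩ := hV.exists_conj hv v1 (conj_mem_of_mem_NN hb.2 hv)
          (fun e => v1 (by simpa using e))
        have : l⁻¹ * b ∈ L := e ⟨NN(V).mul_mem (NN(V).inv_mem hl.2) hb.2, mem_centralizer_singleton_iff.2 (by
          calc l⁻¹ * b * v = l⁻¹ * (b * v * b⁻¹) * b := by group
            _ = _ := by rw [← e1]; group)⟩
        exact mul_mem ha (by simpa using mul_mem hl.1 this))
    have s2 : s ≠ 2 := by
      rintro rfl
      exact hcL (h2L _ h2 (mem_zpowers c))
    have oc := odd_ord_of_pg hs s2 h2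
    have hcv : Commute c v := mem_centralizer_singleton_iff.1 hc.2
    have cop := (Nat.coprime_primes hs Nat.prime_two).2 s2
    have o : orderOf c = s := h3.resolve_right fun ⟨_, k1, k2⟩ => s2 (h.eq hs (El.dvd ⟨c, rfl⟩ k1)
      (el_mul (hcv.pow_left s) k2 ov.symm.dvd cop) hs.one_lt.ne' (by norm_num))
    have hcV : c ∈ CC(V) := H16.GD.mem_of_sq oc (H16.GD.k_sq_cent hV.klein hv v1 hc.1 hc.2)
    have hT : c ∈ CC(H16.GD.Tv L v) := by
      obtain ⟨u, hu⟩ := H8.exists_zpowers_eq_of_isCyclic (hV.tv_cyclic hv v1)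
      by_cases u1 : orderOf u = 1
      · rw [← hu, orderOf_eq_one_iff.1 u1, zpowers_one_eq_bot, CC_bot]; trivial
      obtain ⟨-, k1, k2⟩ := (hV.mem_tv hv v1).1 (hu ▸ mem_zpowers u)
      have := h.eq Nat.prime_two (el_mul (x := v) (y := u) (mem_centralizer_singleton_iff.1 k1).symm
        ov.symm.dvd dvd_rfl (Nat.coprime_two_left.2 k2)) (el_mul hcv.symm ov.symm.dvd o.symm.dvd cop.symm)
        u1 hs.one_lt.ne'
      refine pow_cent hs (by rw [← hu, Nat.card_zpowers, this]) (H16.GD.tv_norm (K := zpowers c)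
        (le_NN_of_normal _ _) (zpowers_le.2 hc.2) (mem_zpowers c)) (o ▸ pow_orderOf_eq_one c) ?_
      have := hs.pos
      exact (Nat.coprime_self_sub_right hs.one_le).2 (by simp)
    have := hV.d3' hv v1 oc (le_NN_of_normal ⊤ L (mem_top c)) (by
      rw [← hV.tv_sup hv v1]
      exact le_centralizer_iff.1 (sup_le (le_centralizer_iff.1 (zpowers_le.2 hT))
        (le_centralizer_iff.1 (zpowers_le.2 hcV))) (mem_zpowers c))
    rw [hCL, mem_bot] at this
    exact hcL (this ▸ one_mem L)

theorem T3.simple_aux (n : ℕ) : ∀ (G : Type u) [Group G] [Finite G], Nat.card G = n → T3 G →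
    ¬ Group.IsSolvable G → ¬ El G 4 → IsSimpleGroup G := by
  induction n using Nat.strong_induction_on with
  | _ n ih =>
  intro G _ _ hn h hns h4
  by_cases hC : Cit G
  · rcases hC.struct (h.core_bot hns h4) hns with k | k
    · exact k.simple
    · exact absurd ((k.el_eight hC).dvd (by norm_num)) h4
  have sub : ∀ H : Subgroup G, H ≠ ⊤ → ¬ Group.IsSolvable H → IsSimpleGroup H := fun H h1 h2 =>
    ih _ (hn ▸ (card_lt_of_lt (lt_top_iff_ne_top.2 h1)).trans_eq card_top) H rfl (h.sub H) h2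
      fun e => h4 (e.inj H.subtype_injective)
  haveI : Nontrivial G := by
    by_contra hn
    rw [not_nontrivial_iff_subsingleton] at hn
    exact hns inferInstance
  refine ⟨fun N hN => by_contra fun hc => ?_⟩
  push Not at hc
  by_cases hs : Group.IsSolvable N
  · obtain ⟨V, r, hV, h0, -, hr, h1, h2, h3, -⟩ := H1.exists_minimal_normal_elementary N hs hc.1
    haveI := Fact.mk hr
    refine h.not_solv_normal hns h4 h0 hr h2 h3 (ih _ ?_ _ rfl (h.quot (QuotientGroup.mk'_surjective V))
      (fun k => hns (solv_of_quot V (solv_of_pg h3) k)) fun e => h4 (e.lift (QuotientGroup.mk'_surjective V)))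
    rw [← hn, ← V.index_mul_card]
    exact lt_mul_of_one_lt_right Nat.card_pos (V.one_lt_card_iff_ne_bot.2 h0)
  · refine h.not_simple_normal h4 hC (sub N hc.2 hs) hs hc.2 fun g hg => by_contra fun hne => ?_
    have := sub _ hne fun k => hs (H1.isSolvable_of_le k le_sup_left)
    rcases (inferInstance : (N.subgroupOf (N ⊔ zpowers g)).Normal).eq_bot_or_eq_top with e | e
    · rw [subgroupOf_eq_bot, disjoint_iff, inf_eq_left.2 le_sup_left] at e
      exact hc.1 e
    · exact hg (subgroupOf_eq_top.1 e (mem_sup_right (mem_zpowers g)))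

theorem T3.simple (h : T3 G) (hns : ¬ Group.IsSolvable G) (h4 : ¬ El G 4) : IsSimpleGroup G :=
  T3.simple_aux _ G rfl h hns h4

end H25.EO
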