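import Cfsg.Agent.H25.Zas3
import Cfsg.Agent.H3.Misc
import Cfsg.Agent.H3.Transfer2
import Cfsg.Agent.H17.Central

/-! Zassenhaus' theorem on non-solvable Frobenius complements. -/

set_option autoImplicit false

namespace H25

open Subgroup

universe u

variable {G : Type u} [Group G]

/-- `G` acts fixed-point-freely on some nontrivial finite group. -/
def FC (G : Type*) [Group G] : Prop := ∃ m, 1 < m ∧ H1.FPF G m

theorem fc_of_frob (h : ∃ (L : Type) (_ : Group L) (_ : Finite L) (H : Subgroup L),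
    Cfsg.IsFrobeniusComplement H ∧ Nonempty (G ≃* H)) : FC G := by
  obtain ⟨L, _, _, H, hH, ⟨e⟩⟩ := h
  obtain ⟨h1, h2⟩ := H1.FPF.of_frob hH
  exact ⟨_, h2, h1.of_injective e.toMonoidHom e.injective⟩

theorem fc_of_isFrob {L : Type*} [Group L] [Finite L] {H : Subgroup L}
    (hH : Cfsg.IsFrobeniusComplement H) : FC H :=
  ⟨_, (H1.FPF.of_frob hH).2, (H1.FPF.of_frob hH).1⟩

theorem fc_of_aut {V : Type*} [Group V] [Finite V] [Nontrivial V] (φ : G →* MulAut V)
    (hf : ∀ h : G, h ≠ 1 → ∀ v : V, φ h v = v → v = 1) : FC G :=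
  ⟨_, Finite.one_lt_card, H1.FPF.intro φ hf⟩

theorem fc_of_lin {F V : Type*} [CommRing F] [AddCommGroup V] [Module F V] [Finite V] [Nontrivial V]
    (ρ : G →* (V ≃ₗ[F] V)) (hf : ∀ v : V, v ≠ 0 → ∀ g : G, ρ g v = v → g = 1) : FC G :=
  ⟨_, Finite.one_lt_card, H1.FPF.of_rep (R := F) (M := V)
    (LinearEquiv.automorphismGroup.toLinearMapMonoidHom.comp ρ) fun g hg v hv => by
      by_contra h0
      exact hg (hf v h0 g hv)⟩

theorem exists_perfect_of_not_solvable [Finite G] (h : ¬ Group.IsSolvable G) :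
    ∃ K : Subgroup G, K ≠ ⊥ ∧ commutator K = ⊤ := by
  obtain ⟨K, hK, hmin⟩ := wellFounded_lt.has_min {K : Subgroup G | ¬ Group.IsSolvable K}
    ⟨⊤, fun h1 => h (solvable_of_surjective (f := (⊤ : Subgroup G).subtype) fun g => ⟨⟨g, trivial⟩, rfl⟩)⟩
  refine ⟨K, by rintro rfl; exact hK inferInstance, ?_⟩
  by_contra hc
  have h1 : (commutator K).map K.subtype < K := by
    refine lt_of_le_of_ne (map_subtype_le _) fun e => hc ?_
    apply map_injective K.subtype_injective
    rw [e, ← MonoidHom.range_eq_map, range_subtype]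
  have h2 : Group.IsSolvable ((commutator K).map K.subtype) := not_not.1 fun h2 => hmin _ h2 h1
  have h3 : Group.IsSolvable (commutator K) :=
    solvable_of_solvable_injective (f := (equivMapOfInjective _ _ K.subtype_injective).toMonoidHom)
      (MulEquiv.injective _)
  exact hK (solvable_of_ker_le_range (commutator K).subtype Abelianization.of (by
    rw [range_subtype, Abelianization.ker_of]))

theorem eq_top_of_perfect_of_index_le [Finite G] (h : commutator G = ⊤) {N : Subgroup G}
    (hN : N.index ≤ 4) : N = ⊤ := by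
  classical
  have : Group.IsPerfect G := ⟨h⟩
  have := Fintype.ofFinite (G ⧸ N)
  have h1 : Group.IsSolvable (Equiv.Perm (G ⧸ N)) := by
    refine H17.isSolvable_of_two_primes Nat.prime_two Nat.prime_three fun r hr hd => ?_
    rw [Nat.card_perm, hr.dvd_factorial] at hd
    have h4 : r ≤ 4 := hd.trans hN
    have := hr.two_le
    interval_cases r <;> simp_all (config := {decide := true})
  have h2 : Subsingleton (MulAction.toPermHom G (G ⧸ N)).range := by
    by_contra h2
    rw [not_subsingleton_iff_nontrivial] at h2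
    have := Group.IsPerfect.range (MulAction.toPermHom G (G ⧸ N))
    exact Group.IsPerfect.not_isSolvable (MulAction.toPermHom G (G ⧸ N)).range inferInstance
  rw [eq_top_iff]
  intro g _
  apply normalCore_le
  rw [normalCore_eq_ker, MonoidHom.mem_ker]
  exact congrArg Subtype.val (h2.elim ⟨_, g, rfl⟩ 1)

theorem mem_center_of_normal_cyclic [Finite G] (hp : commutator G = ⊤) {N : Subgroup G} [N.Normal]
    [IsCyclic N] {x : G} (hx : x ∈ N) : x ∈ center G := by
  let φ : G →* (ZMod (Nat.card N))ˣ :=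
    (IsCyclic.mulAutMulEquiv N).toMonoidHom.comp (MulAut.conjNormal (H := N))
  refine mem_center_iff.2 fun g => ?_
  have h1 : φ g = 1 := Abelianization.commutator_subset_ker φ (hp ▸ mem_top g)
  have h2 : MulAut.conjNormal (H := N) g = 1 := (IsCyclic.mulAutMulEquiv N).map_eq_one_iff.1 h1
  have h3 : ((MulAut.conjNormal (H := N) g ⟨x, hx⟩ : N) : G) = x := by rw [h2]; rfl
  rwa [MulAut.conjNormal_apply, mul_inv_eq_iff_eq_mul] at h3

theorem sl25_gen_three {K : Subgroup SL25} (h : ∀ g, orderOf g = 3 → g ∈ K) : K = ⊤ := by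
  rw [eq_top_iff, ← sl25_top, closure_le]
  rintro g (rfl | rfl)
  · exact h _ ((sl25_three _).2 (by decide))
  · have : sy = (mkSL (-1) (-2) (-2) 0 (by decide) * mkSL 0 (-2) (-2) (-1) (by decide)) ^ 6 := by
      decide
    rw [this]
    exact pow_mem (mul_mem (h _ ((sl25_three _).2 (by decide))) (h _ ((sl25_three _).2 (by decide)))) 6

theorem sl25_hom_ext {H : Type*} [Group H] {f g : SL25 →* H} (h1 : f sx = g sx) (h2 : f sy = g sy) :
    f = g := MonoidHom.eq_of_eqOn_dense sl25_top (by rintro _ (rfl | rfl) <;> assumption)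

theorem aut_sl25_neg (α : MulAut SL25) : α (-1) = -1 :=
  (sl25_invol _ (by rw [← map_pow]; simp)).resolve_left (by simpa using sl25_neg_ne)

theorem card_aut_sl25 : Nat.card (MulAut SL25) ≤ 120 := by
  refine le_trans ?_ ncard_sl25_pairs
  rw [← Nat.card_coe_set_eq]
  refine Nat.card_le_card_of_injective (fun α => ⟨(α sx, α sy), ?_, ?_, ?_⟩) fun α β e => ?_
  · exact (α.orderOf_eq sx).trans ((sl25_three _).2 (by decide))
  · rw [← map_pow, sy_pow, map_one]
  · rw [← map_mul, ← map_pow, sxy_pow, aut_sl25_neg]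
  · simp only [Subtype.mk.injEq, Prod.mk.injEq] at e
    exact MulEquiv.toMonoidHom_injective (sl25_hom_ext e.1 e.2)

theorem index_inn_sl25 : (MulAut.conj : SL25 →* MulAut SL25).range.index ≤ 2 := by
  have h1 := (MulAut.conj : SL25 →* MulAut SL25).range.card_mul_index
  have h2 := (MulAut.conj : SL25 →* MulAut SL25).ker.card_mul_index
  have h3 : (MulAut.conj : SL25 →* MulAut SL25).ker = center SL25 := by
    ext g
    simp only [MonoidHom.mem_ker, mem_center_iff, MulEquiv.ext_iff, MulAut.conj_apply,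
      MulAut.one_apply, mul_inv_eq_iff_eq_mul]
    exact forall_congr' fun _ => eq_comm
  rw [index_ker, h3, card_center_sl25, card_sl25] at h2
  have := card_aut_sl25
  rw [show Nat.card (MulAut.conj : SL25 →* MulAut SL25).range = 60 by omega] at h1
  omega

theorem index_sup_centralizer_sl25 [Finite G] (f : SL25 →* G) (hf : Function.Injective f)
    [f.range.Normal] : (f.range ⊔ centralizer (f.range : Set G)).index ≤ 2 := by
  let e := MonoidHom.ofInjective hf
  let ψ : G →* MulAut SL25 := (MulAut.congr e.symm).toMonoidHom.comp MulAut.conjNormal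
  have hψ : ∀ g s, f (ψ g s) = g * f s * g⁻¹ := fun g s => by
    change ((e (e.symm (MulAut.conjNormal g (e s))) : f.range) : G) = _
    rw [e.apply_symm_apply]; rfl
  have h1 : (MulAut.conj : SL25 →* MulAut SL25).range.comap ψ ≤
      f.range ⊔ centralizer (f.range : Set G) := by
    rintro g ⟨s, hs⟩
    have : (f s)⁻¹ * g ∈ centralizer (f.range : Set G) := by
      rintro _ ⟨t, rfl⟩
      have := hψ g t
      rw [← hs, MulAut.conj_apply, map_mul, map_mul, map_inv] at this
      calc _ = (f s)⁻¹ * (f s * f t * (f s)⁻¹) * g := by group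
        _ = _ := by rw [this]; group
    simpa using mul_mem_sup (show f s ∈ f.range from ⟨s, rfl⟩) this
  refine (Nat.le_of_dvd (Nat.pos_of_ne_zero index_ne_zero_of_finite) (index_dvd_of_le h1)).trans ?_
  rw [index_comap]
  refine le_trans ?_ index_inn_sl25
  rw [← relIndex_top_right]
  exact relIndex_le_of_le_right le_top (by rw [relIndex_top_right]; exact index_ne_zero_of_finite)

theorem mem_range_inf_centralizer_sl25 (f : SL25 →* G) (hf : Function.Injective f) {c : G}
    (h1 : c ∈ f.range) (h2 : c ∈ centralizer (f.range : Set G)) : c = 1 ∨ c = f (-1) := by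
  obtain ⟨s, rfl⟩ := h1
  rcases mem_center_sl25.1 (mem_center_iff.2 fun t => hf (by
    rw [map_mul, map_mul]; exact h2 _ ⟨t, rfl⟩) : s ∈ center SL25) with rfl | rfl
  · exact Or.inl (map_one f)
  · exact Or.inr rfl

namespace FC

theorem of_injective (h : FC G) {H : Type*} [Group H] (f : H →* G) (hf : Function.Injective f) :
    FC H := by
  obtain ⟨m, hm, h⟩ := h
  exact ⟨m, hm, h.of_injective f hf⟩

theorem sub (h : FC G) (K : Subgroup G) : FC K := h.of_injective K.subtype K.subtype_injective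

variable [Finite G] (h : FC G)
include h

theorem exists_frob [Nontrivial G] : ∃ (L : Type) (_ : Group L) (_ : Finite L) (H : Subgroup L),
    Cfsg.IsFrobeniusComplement H ∧ Nonempty (G ≃* H) := by
  obtain ⟨m, hm, h⟩ := h
  obtain ⟨L, _, _, C, h1, h2, -⟩ := h.exists_frob hm
  exact ⟨L, _, inferInstance, C, h1, h2⟩

theorem isCyclic (K : Subgroup G) (hK : IsMulCommutative K) : IsCyclic K := by
  obtain ⟨m, hm, h⟩ := h.sub K
  exact h.isCyclic_of_comm hm fun a b => hK.1.1 a b

theorem pgroup {p : ℕ} [Fact p.Prime] {K : Subgroup G} (hK : IsPGroup p K) :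
    IsCyclic K ∨ (p = 2 ∧ ∃ n : ℕ, Nonempty (K ≃* QuaternionGroup (2 ^ n))) :=
  Cfsg.Agent.S0016.result p hK (H2.unique_order_p_of_abelian_cyclic hK (h.sub K).isCyclic)

theorem pgroup_odd {p : ℕ} [Fact p.Prime] (hp : p ≠ 2) {K : Subgroup G} (hK : IsPGroup p K) :
    IsCyclic K := (h.pgroup hK).resolve_right fun e => hp e.1

theorem isZGroup (hodd : ¬ 2 ∣ Nat.card G) : IsZGroup G := by
  refine ⟨fun p hp P => ?_⟩
  have := Fact.mk hp
  by_cases h2 : p = 2
  · subst h2
    rcases P.isPGroup'.card_eq_or_dvd with h1 | h1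
    · have := (Nat.card_eq_one_iff_unique.1 h1).1
      infer_instance
    · exact (hodd (h1.trans (card_subgroup_dvd_card _))).elim
  · exact h.pgroup_odd h2 P.isPGroup'

theorem exists_qf [Nontrivial G] :
    ∃ (R : Type u) (_ : Ring R) (_ : Algebra ℚ R) (ρ : G →* R), QF ρ := by
  obtain ⟨m, hm, h⟩ := h
  exact exists_QF h hm

theorem invol_eq {x y : G} (hx : x ^ 2 = 1) (hx1 : x ≠ 1) (hy : y ^ 2 = 1) (hy1 : y ≠ 1) : x = y := by
  have : Nontrivial G := ⟨⟨x, 1, hx1⟩⟩
  obtain ⟨R, _, _, ρ, q⟩ := h.exists_qf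
  exact q.inj ((q.invol hx hx1).trans (q.invol hy hy1).symm)

theorem invol_central {x : G} (hx : x ^ 2 = 1) : x ∈ center G := by
  by_cases hx1 : x = 1
  · exact hx1 ▸ one_mem _
  refine mem_center_iff.2 fun g => ?_
  rw [← mul_inv_eq_iff_eq_mul]
  exact h.invol_eq (by rw [conj_pow, hx, mul_one, mul_inv_cancel]) (by simpa using hx1) hx hx1

/-- commuting elements of the same prime order generate the same subgroup -/
theorem mem_zpowers_of_commute {p : ℕ} (hp : p.Prime) {x y : G} (hx : orderOf x = p)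
    (hy : orderOf y = p) (c : Commute x y) : x ∈ zpowers y := by
  have h1 : IsCyclic (closure {x, y}) := h.isCyclic _ ⟨⟨(closureCommGroupOfComm (by
    rintro a (rfl | rfl) b (rfl | rfl)
    exacts [rfl, c, c.symm, rfl])).mul_comm⟩⟩
  rw [← H2.eq_of_card_eq_of_isCyclic h1 (X := zpowers x) (Y := zpowers y)
    (zpowers_le.2 (subset_closure (by simp))) (zpowers_le.2 (subset_closure (by simp)))
    (by rw [Nat.card_zpowers, Nat.card_zpowers, hx, hy])]
  exact mem_zpowers x

theorem rank_le_two {p : ℕ} [Fact p.Prime] {K : Subgroup G} (hK : IsPGroup p K) :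
    Group.rank K ≤ 2 := by
  classical
  rcases h.pgroup hK with h1 | ⟨-, n, ⟨e⟩⟩
  · obtain ⟨a, ha⟩ := h1.exists_generator
    refine (Group.rank_le (S := {a}) ?_).trans (by simp)
    rw [eq_top_iff]
    intro x _
    rw [Finset.coe_singleton, ← zpowers_eq_closure]
    exact ha x
  · obtain ⟨a, b, -, -, -, -, h5⟩ := H6.exists_gens_of_quaternion e
    refine (Group.rank_le (S := {a, b}) ?_).trans Finset.card_le_two
    rw [eq_top_iff]
    intro x _
    have ha : a ∈ closure (({a, b} : Finset K) : Set K) := subset_closure (by simp)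
    have hb : b ∈ closure (({a, b} : Finset K) : Set K) := subset_closure (by simp)
    obtain ⟨k, rfl | rfl⟩ := h5 x
    exacts [zpow_mem ha k, mul_mem (zpow_mem ha k) hb]

theorem npc_of_not_three_dvd (h3 : ¬ 3 ∣ Nat.card G) : Cfsg.HasNormalPComplement 2 G := by
  by_contra hc
  obtain ⟨Q, hQ, q, hq, hq2, hqd, g, k, hk, hg, hg'⟩ :=
    H3.exists_primePow_not_centralizing (default : Sylow 2 G) hc
  have hQ' := (default : Sylow 2 G).isPGroup'.to_le hQ
  obtain ⟨m, hm, h1, -, h2⟩ := H3.exists_dvd_pow_sub_one_rank hQ' hq hq2 hk hg hg'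
  have h4 := h1.trans (h.rank_le_two hQ')
  interval_cases m
  · exact hq.one_lt.ne' (Nat.dvd_one.1 h2)
  · exact h3 (((Nat.prime_dvd_prime_iff_eq hq Nat.prime_three).1 h2) ▸ hqd)

theorem solvable_of_npc (h2 : Cfsg.HasNormalPComplement 2 G) : Group.IsSolvable G := by
  obtain ⟨P, N, hN, hc⟩ := h2
  have h1 : IsZGroup N := (h.sub N).isZGroup (by
    rw [← hc.index_eq_card]; exact P.not_dvd_index)
  have h2 : IsPGroup 2 (G ⧸ N) := P.isPGroup'.of_equiv (hc.symm.QuotientMulEquiv).symm
  have := h2.isNilpotent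
  exact solvable_of_ker_le_range N.subtype (QuotientGroup.mk' N) (by simp)

theorem three_cases : {w : G | orderOf w = 3}.ncard ≤ 8 ∨
    ∃ f : SL25 →* G, Function.Injective f ∧ ∀ w, orderOf w = 3 → w ∈ f.range := by
  rcases subsingleton_or_nontrivial G with h0 | h0
  · exact Or.inl ((Set.ncard_le_one_of_subsingleton _).trans (by norm_num))
  obtain ⟨R, _, _, ρ, q⟩ := h.exists_qf
  exact q.three_cases

theorem exists_sl25_of_perfect [Nontrivial G] (hp : commutator G = ⊤) :
    ∃ f : SL25 →* G, Function.Injective f := by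
  have : Group.IsPerfect G := ⟨hp⟩
  have h3 : 3 ∣ Nat.card G := by
    by_contra h3
    exact Group.IsPerfect.not_isSolvable G (h.solvable_of_npc (h.npc_of_not_three_dvd h3))
  have : Fact (Nat.Prime 3) := ⟨Nat.prime_three⟩
  obtain ⟨x, hx⟩ := exists_prime_orderOf_dvd_card' 3 h3
  refine (h.three_cases.resolve_left fun h8 => ?_).imp fun f hf => hf.1
  have hx1 : x ≠ x⁻¹ := fun e => by
    have := orderOf_dvd_of_pow_eq_one (x := x) (n := 2) (by rw [pow_two]; nth_rw 1 [e]; simp)
    rw [hx] at this; omega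
  let N := normalizer (zpowers x : Set G)
  let f : (G ⧸ N) × Bool → {w : G | orderOf w = 3} := fun t =>
    ⟨t.1.out * (if t.2 then x else x⁻¹) * t.1.out⁻¹,
      orderOf_conj_three (by split_ifs; exacts [hx, (orderOf_inv x).trans hx]) _⟩
  have hf : Function.Injective f := by
    rintro ⟨a, s⟩ ⟨b, t⟩ e
    have e1 := congrArg Subtype.val e
    simp only [f] at e1
    have z : ∀ s : Bool, zpowers (if s then x else x⁻¹) = zpowers x := fun s => by
      cases s <;> simp
    have hab : a = b := by
      rw [← a.out_eq', ← b.out_eq', QuotientGroup.eq]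
      refine mem_normalizer_iff_map_conj_eq.2 ?_
      nth_rw 1 [← z t]
      rw [MonoidHom.map_zpowers, ← z s]
      congr 1
      simp only [MonoidHom.coe_coe, MulAut.conj_apply]
      calc _ = a.out⁻¹ * (b.out * (if t = true then x else x⁻¹) * b.out⁻¹) * a.out := by group
        _ = _ := by rw [← e1]; group
    subst hab
    rw [mul_left_inj, mul_right_inj] at e1
    cases s <;> cases t <;> simp_all
  have h4 := Nat.card_le_card_of_injective f hf
  rw [Nat.card_prod, Nat.card_coe_set_eq, Nat.card_eq_fintype_card (α := Bool), Fintype.card_bool] at h4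
  have hN : N = ⊤ := eq_top_of_perfect_of_index_le hp (by rw [index_eq_card]; omega)
  have hn : (zpowers x).Normal := normalizer_eq_top_iff.1 hN
  have hc : x ∈ center G := by
    exact mem_center_of_normal_cyclic hp (mem_zpowers x)
  obtain ⟨P, hP⟩ := (IsPGroup.of_card (n := 1) (G := zpowers x)
    (by rw [Nat.card_zpowers, hx, pow_one])).exists_le_sylow
  have := h.pgroup_odd (by norm_num) P.isPGroup'
  have := H3.eq_one_of_mem_abelian_hall (H := (P : Subgroup G)) P.card_coprime_index
    (hP (mem_zpowers x)) (hp ▸ mem_top x) hc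
  rw [this] at hx1
  exact hx1 inv_one.symm

theorem exists_sl25 (hs : ¬ Group.IsSolvable G) :
    ∃ f : SL25 →* G, Function.Injective f ∧ ∀ w, orderOf w = 3 → w ∈ f.range := by
  refine h.three_cases.resolve_left fun h8 => ?_
  obtain ⟨K, hK, hp⟩ := exists_perfect_of_not_solvable hs
  have := (nontrivial_iff_ne_bot K).2 hK
  obtain ⟨f, hf⟩ := (h.sub K).exists_sl25_of_perfect hp
  have hf' : Function.Injective (K.subtype.comp f) := K.subtype_injective.comp hf
  have h1 : (K.subtype.comp f) '' {g | orderOf g = 3} ⊆ {w : G | orderOf w = 3} := by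
    rintro _ ⟨g, hg, rfl⟩
    exact (orderOf_injective _ hf' g).trans hg
  have h2 := Set.ncard_le_ncard h1
  rw [Set.ncard_image_of_injective _ hf'] at h2
  have := ncard_sl25_three
  omega

theorem nonsolvable_structure (hs : ¬ Group.IsSolvable G) :
    ∃ (f : SL25 →* G) (M : Subgroup G), Function.Injective f ∧ f.range.Normal ∧
      (∀ w, orderOf w = 3 → w ∈ f.range) ∧
      zpowers (f (-1)) ⊔ M = centralizer (f.range : Set G) ∧ (f.range ⊔ M).index ≤ 2 ∧
      f.range ⊓ M = ⊥ ∧ (Nat.card M).Coprime 30 := by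
  obtain ⟨f, hf, h3⟩ := h.exists_sl25 hs
  have hn : f.range.Normal := ⟨by
    rintro _ ⟨s, rfl⟩ g
    have : s ∈ (f.range.comap (MulAut.conj g).toMonoidHom).comap f := by
      rw [sl25_gen_three (K := (f.range.comap (MulAut.conj g).toMonoidHom).comap f) fun t ht =>
        h3 _ (orderOf_conj_three ((orderOf_injective f hf t).trans ht) g)]
      trivial
    exact this⟩
  set C := centralizer (f.range : Set G) with hC
  have z2 : f (-1) ^ 2 = 1 := by rw [← map_pow]; simp
  have z1 : f (-1) ≠ 1 := fun e => sl25_neg_ne (hf (e.trans (map_one f).symm))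
  have zo : orderOf (f (-1)) = 2 := orderOf_eq_prime z2 z1
  have zC : f (-1) ∈ C := center_le_centralizer _ (h.invol_central z2)
  have key : ∀ c ∈ C, c ^ 4 = 1 → c = 1 ∨ c = f (-1) := fun c hc h4 => by
    have h2 : c ^ 2 = 1 := by
      by_contra h2
      have e1 : c ^ 2 = f (-1) := h.invol_eq (by rw [← pow_mul, h4]) h2 z2 z1
      have cm : Commute c (f (sx * sy)) := (hc _ ⟨_, rfl⟩).symm
      have e2 : (c * f (sx * sy)) ^ 2 = 1 := by
        rw [cm.mul_pow, e1, ← map_pow, sxy_pow, ← pow_two, z2]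
      have e3 : c * f (sx * sy) ∈ f.range := by
        by_cases e4 : c * f (sx * sy) = 1
        · exact e4 ▸ one_mem _
        · exact h.invol_eq e2 e4 z2 z1 ▸ ⟨_, rfl⟩
      rcases mem_range_inf_centralizer_sl25 f hf ((mul_mem_cancel_right (show _ ∈ f.range from ⟨_, rfl⟩)).1 e3) hc with
        rfl | rfl
      · exact h2 (one_pow 2)
      · exact h2 z2
    exact or_iff_not_imp_left.2 fun h1 => h.invol_eq h2 h1 z2 z1
  let Z : Subgroup C := zpowers ⟨f (-1), zC⟩
  have cZ : Nat.card Z = 2 := by rw [Nat.card_zpowers, ← orderOf_coe]; exact zo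
  have nZ : Z.Normal := ⟨fun c hc g => by
    have : c ∈ center C := (zpowers_le.2 (mem_center_iff.2 fun g =>
      Subtype.ext (mem_center_iff.1 (h.invol_central z2) g)) : Z ≤ center C) hc
    rwa [mem_center_iff.1 this g, mul_inv_cancel_right]⟩
  have iZ : ¬ 2 ∣ Z.index := fun hd => by
    obtain ⟨K, hK⟩ := Sylow.exists_subgroup_card_pow_prime 2 (n := 2) (G := C) (by
      rw [← Z.card_mul_index, cZ]; exact Nat.mul_dvd_mul_left 2 hd)
    have : K ≤ Z := fun c hc => by
      rcases key c c.2 (by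
        have := pow_card_eq_one' (x := (⟨c, hc⟩ : K))
        rw [hK] at this
        exact congrArg (fun t : K => ((t : C) : G)) this) with e | e
      · exact (show c = 1 from Subtype.ext e) ▸ one_mem _
      · exact (show c = ⟨f (-1), zC⟩ from Subtype.ext e) ▸ mem_zpowers _
    have := card_le_of_le this
    omega
  obtain ⟨M, hM⟩ := exists_right_complement'_of_coprime (N := Z)
    (by rw [cZ]; exact (Nat.prime_two.coprime_iff_not_dvd).2 iZ)
  have e1 : zpowers (f (-1)) ⊔ M.map C.subtype = C := by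
    have := congrArg (map C.subtype) hM.sup_eq_top
    rwa [Subgroup.map_sup, MonoidHom.map_zpowers, ← MonoidHom.range_eq_map, range_subtype] at this
  have cM : ¬ 2 ∣ Nat.card (M.map C.subtype) := by
    rwa [card_subtype, ← hM.symm.index_eq_card]
  have e2 : f.range ⊓ M.map C.subtype = ⊥ := by
    rw [eq_bot_iff]
    rintro c ⟨h1, h2⟩
    rcases mem_range_inf_centralizer_sl25 f hf h1 (map_subtype_le _ h2) with rfl | rfl
    · exact one_mem _
    · exact (cM (zo ▸ orderOf_dvd_natCard _ h2)).elim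
  have e3 : ∀ p : ℕ, p.Prime → ∀ s : SL25, orderOf s = p → ¬ p ∣ Nat.card (M.map C.subtype) := by
    intro p hp s hs hd
    have := Fact.mk hp
    obtain ⟨x, hx⟩ := exists_prime_orderOf_dvd_card' p hd
    rw [← orderOf_coe] at hx
    have h1 := h.mem_zpowers_of_commute hp hx ((orderOf_injective f hf s).trans hs)
      (map_subtype_le _ x.2 _ ⟨s, rfl⟩).symm
    have h2 : (x : G) = 1 := e2.le ⟨zpowers_le.2 (show f s ∈ f.range from ⟨s, rfl⟩) h1, x.2⟩
    rw [h2, orderOf_one] at hx
    exact hp.one_lt.ne hx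
  refine ⟨f, M.map C.subtype, hf, hn, h3, e1, ?_, e2, ?_⟩
  · refine le_of_eq_of_le ?_ (index_sup_centralizer_sl25 f hf)
    generalize M.map C.subtype = M' at e1
    rw [← hC, ← e1, ← sup_assoc, sup_of_le_left (zpowers_le.2 ⟨-1, rfl⟩ : zpowers (f (-1)) ≤ f.range)]
  · refine Nat.Coprime.symm (Nat.Coprime.mul_left (m := 2) (n := 15)
      ((Nat.prime_two.coprime_iff_not_dvd).2 cM) (Nat.Coprime.mul_left (m := 3) (n := 5) ?_ ?_))
    · exact (Nat.prime_three.coprime_iff_not_dvd).2 (e3 3 Nat.prime_three sx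
        ((sl25_three _).2 (by decide)))
    · exact (Nat.prime_five.coprime_iff_not_dvd).2 (e3 5 Nat.prime_five sy
        (orderOf_eq_prime sy_pow (by decide)))

/-- Zassenhaus: a nontrivial perfect Frobenius complement is `SL(2,5)`. -/
theorem equiv_sl25 [Nontrivial G] (hp : commutator G = ⊤) : Nonempty (G ≃* SL25) := by
  have : Group.IsPerfect G := ⟨hp⟩
  obtain ⟨f, M, hf, hn, -, h1, h2, h3, h4⟩ :=
    h.nonsolvable_structure (Group.IsPerfect.not_isSolvable G)
  have h5 := eq_top_of_perfect_of_index_le hp (h2.trans (by norm_num))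
  have h6 : IsZGroup M := (h.sub M).isZGroup fun e =>
    absurd (Nat.Coprime.eq_one_of_dvd (Nat.Coprime.coprime_dvd_right (by norm_num) h4).symm e)
      (by norm_num)
  have h7 : Function.Surjective ((QuotientGroup.mk' f.range).comp M.subtype) := by
    rw [← MonoidHom.range_eq_top, ← MonoidHom.map_range, range_subtype]
    exact H3.map_mk'_eq_top_of_sup_eq_top h5
  have h8 := solvable_of_surjective h7
  have h9 : Subsingleton (G ⧸ f.range) := by
    by_contra h9
    rw [not_subsingleton_iff_nontrivial] at h9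
    exact Group.IsPerfect.not_isSolvable _ h8
  have : Function.Surjective f := fun g =>
    (QuotientGroup.eq_one_iff g).1 (Subsingleton.elim (g : G ⧸ f.range) 1)
  exact ⟨(MulEquiv.ofBijective f ⟨hf, this⟩).symm⟩

end FC

end H25
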