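import Mathlib
import Cfsg.Agent.H25.ONS
import Cfsg.Agent.H25.Zas4
import Cfsg.Agent.H17.Frob
import Cfsg.Agent.Lead.FT

/-! Groups acting on an abelian group so that all non-trivial vector stabilizers are core-free
maximal subgroups. -/

set_option autoImplicit false

namespace H25

open MulAction Subgroup

section cf
variable {H : Type*} [Group H] {S : Subgroup H}

theorem cf_eq_bot (h0 : S.normalCore = ⊥) {K : Subgroup H} [K.Normal] (h : K ≤ S) : K = ⊥ :=
  le_bot_iff.1 (h0 ▸ normal_le_normalCore.2 h)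

theorem cf_eq_bot_of_norm [Finite H] (hS : IsCoatom S) (h0 : S.normalCore = ⊥) {K : Subgroup H}
    (hK : K ≤ S) (hn : ∀ s ∈ S, ∀ k ∈ K, s * k * s⁻¹ ∈ K) {x : H} (hx : x ∉ S)
    (hxn : ∀ k ∈ K, x * k * x⁻¹ ∈ K) : K = ⊥ := by
  have h1 : S ≤ normalizer (K : Set H) := fun s hs => mem_normalizer_fintype (hn s hs)
  have h2 : normalizer (K : Set H) = ⊤ :=
    hS.2 _ (lt_of_le_of_ne h1 fun e => hx (e ▸ mem_normalizer_fintype hxn))
  have : K.Normal := normalizer_eq_top_iff.1 h2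
  exact cf_eq_bot h0 hK

theorem cf_exists_not_mem (h0 : S.normalCore = ⊥) {K : Subgroup H} [K.Normal] (hK : K ≠ ⊥) :
    ∃ x ∈ K, x ∉ S := by
  by_contra h
  push Not at h
  exact hK (cf_eq_bot h0 h)

theorem cf_decomp (hS : IsCoatom S) (h0 : S.normalCore = ⊥) {K : Subgroup H} [K.Normal]
    (hK : K ≠ ⊥) (g : H) : ∃ s ∈ S, ∃ k ∈ K, s * k = g := by
  obtain ⟨x, hx, hxS⟩ := cf_exists_not_mem h0 hK
  have h : S ⊔ K = ⊤ :=
    hS.2 _ (lt_of_le_of_ne le_sup_left fun e => hxS (e ▸ (le_sup_right : K ≤ S ⊔ K) hx))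
  have hg : g ∈ ((S ⊔ K : Subgroup H) : Set H) := by rw [h]; trivial
  rw [mul_normal] at hg
  obtain ⟨s, hs, k, hk, e⟩ := hg
  exact ⟨s, hs, k, hk, e⟩

theorem cf_inf_eq_one [Finite H] (hS : IsCoatom S) (h0 : S.normalCore = ⊥) {A B : Subgroup H}
    [hA : A.Normal] [B.Normal] (hB : B ≠ ⊥) (hc : ∀ a ∈ A, ∀ b ∈ B, b * a = a * b) {a : H}
    (ha : a ∈ A) (haS : a ∈ S) : a = 1 := by
  obtain ⟨x, hx, hxS⟩ := cf_exists_not_mem h0 hB
  have : A ⊓ S = ⊥ := cf_eq_bot_of_norm hS h0 inf_le_right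
    (fun s hs k hk => mem_inf.2 ⟨hA.conj_mem k hk.1 s,
      mul_mem (mul_mem hs (mem_inf.1 hk).2) (inv_mem hs)⟩) hxS
    (fun k hk => by rw [hc k hk.1 x hx, mul_inv_cancel_right]; exact hk)
  exact mem_bot.1 (this ▸ ⟨ha, haS⟩)

variable {N : Subgroup H} {m : ℕ} {T : Fin m → Subgroup H}

theorem Fac.top_ne_bot (h : Fac N T) : N ≠ ⊥ := fun e =>
  h.ne_bot ⟨0, h.pos⟩ (le_bot_iff.1 (e ▸ h.le _))

theorem Fac.cf_trans (h : Fac N T) [N.Normal] (hS : IsCoatom S) (h0 : S.normalCore = ⊥)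
    (i j : Fin m) : ∃ s ∈ S, ∀ t ∈ T i, s * t * s⁻¹ ∈ T j := by
  obtain ⟨g, hg⟩ := h.trans i j
  obtain ⟨s, hs, n, hn, rfl⟩ := cf_decomp hS h0 h.top_ne_bot g
  refine ⟨s, hs, fun t ht => ?_⟩
  have := hg _ (h.norm i n⁻¹ (inv_mem hn) t ht)
  convert this using 1
  group

theorem Fac.cf_not_le (h : Fac N T) [N.Normal] (hS : IsCoatom S) (h0 : S.normalCore = ⊥)
    (i : Fin m) : ¬ T i ≤ S := by
  intro hi
  refine h.top_ne_bot (cf_eq_bot h0 (h.gen S fun j t ht => ?_))
  obtain ⟨s, hs, hst⟩ := h.cf_trans hS h0 j i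
  have := mul_mem (mul_mem (inv_mem hs) (hi (hst t ht))) hs
  simpa [mul_assoc] using this

/-- The intersection of a core-free maximal subgroup with a factor is trivial or self-normalising
in the factor. -/
theorem Fac.cf_selfnorm [Finite H] (h : Fac N T) (hS : IsCoatom S)
    (h0 : S.normalCore = ⊥) {i : Fin m} {x : H} (hx : x ∈ T i) (hxS : x ∉ S)
    (hn : ∀ r ∈ T i, r ∈ S → x * r * x⁻¹ ∈ S) {r : H} (hr : r ∈ T i) (hrS : r ∈ S) : r = 1 := by
  let K : Subgroup H := ⨆ j, T j ⊓ S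
  have key : ∀ g : H, (∀ j, ∀ t ∈ T j ⊓ S, g * t * g⁻¹ ∈ K) → ∀ k ∈ K, g * k * g⁻¹ ∈ K := by
    intro g hg
    have : K ≤ K.comap (MulAut.conj g).toMonoidHom := iSup_le fun j t ht => hg j t ht
    exact fun k hk => this hk
  have hle : ∀ j, T j ⊓ S ≤ K := fun j => le_iSup (fun j => T j ⊓ S) j
  have hK : K = ⊥ := by
    refine cf_eq_bot_of_norm hS h0 (iSup_le fun j => inf_le_right) (fun s hs => key s ?_) hxS
      (key x ?_)
    · intro j t ht
      obtain ⟨l, hl⟩ := h.perm s j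
      exact hle l (mem_inf.2 ⟨(hl t).1 ht.1, mul_mem (mul_mem hs (mem_inf.1 ht).2) (inv_mem hs)⟩)
    · intro j t ht
      by_cases hj : j = i
      · subst hj
        exact hle j (mem_inf.2 ⟨mul_mem (mul_mem hx (mem_inf.1 ht).1) (inv_mem hx), hn t ht.1 ht.2⟩)
      · rw [h.comm i j (Ne.symm hj) ht.1 x hx, mul_inv_cancel_right]
        exact hle j ht
  exact mem_bot.1 (hK ▸ hle i ⟨hr, hrS⟩)

theorem exists_invol_of_not_solvable {G : Type*} [Group G] [Finite G]
    (h : ¬ Group.IsSolvable G) : ∃ t : G, t ≠ 1 ∧ t * t = 1 := by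
  have h2 : 2 ∣ Nat.card G := by
    by_contra h2
    exact h (FT.odd_solvable G (Nat.odd_iff.2 (by omega)))
  obtain ⟨t, ht⟩ := exists_prime_orderOf_dvd_card' 2 h2
  refine ⟨t, fun e => by simp [e] at ht, ?_⟩
  rw [← pow_two, ← ht, pow_orderOf_eq_one]

theorem exists_invol_not_mem [Finite H] {A : Subgroup H} [IsSimpleGroup A]
    (hA : ¬ IsMulCommutative A) (h : ¬ A ≤ S) : ∃ t ∈ A, t ∉ S ∧ t * t = 1 := by
  obtain ⟨t, ht1, ht⟩ := exists_invol_of_not_solvable (G := A) fun hs =>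
    hA ⟨⟨IsSimpleGroup.comm_iff_isSolvable.2 hs⟩⟩
  by_contra hc
  push Not at hc
  have h1 : normalClosure ({t} : Set A) = ⊤ := by
    refine (IsSimpleGroup.eq_bot_or_eq_top_of_normal _ inferInstance).resolve_left fun e => ht1 ?_
    exact mem_bot.1 (e ▸ subset_normalClosure (Set.mem_singleton t))
  have h2 : normalClosure ({t} : Set A) ≤ S.subgroupOf A := by
    refine (closure_le _).2 fun x hx => ?_
    obtain ⟨a, ha, hc'⟩ := Group.mem_conjugatesOfSet_iff.1 hx
    obtain rfl : a = t := ha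
    obtain ⟨g, rfl⟩ := isConj_iff.1 hc'
    by_contra hx'
    refine hc _ (g * a * g⁻¹).2 hx' ?_
    rw [← Subgroup.coe_mul]
    have : g * a * g⁻¹ * (g * a * g⁻¹) = g * (a * a) * g⁻¹ := by group
    rw [this, ht]
    simp
  exact h fun x hx => h2 (h1 ▸ mem_top (⟨x, hx⟩ : A))

end cf

variable {H V : Type*} [Group H] [Finite H] [CommGroup V] [Finite V] [MulDistribMulAction H V]

theorem extAff_two [Nontrivial V]
    (hc : ∀ v : V, v ≠ 1 → IsCoatom (stabilizer H v) ∧ (stabilizer H v).normalCore = ⊥)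
    (hs : ¬ Group.IsSolvable H) : ∃ u : V, u ≠ 1 ∧ u * u = 1 := by
  obtain ⟨t, ht1, ht⟩ := exists_invol_of_not_solvable hs
  obtain ⟨v, hv⟩ : ∃ v : V, t • v ≠ v := by
    by_contra h
    push Not at h
    obtain ⟨v, hv⟩ := exists_ne (1 : V)
    refine ht1 (mem_bot.1 ((hc v hv).2 ▸ fun g => ?_))
    show (g * t * g⁻¹) • v = v
    rw [mul_smul, mul_smul, h, smul_inv_smul]
  let u := v * (t • v)⁻¹
  have hu : u ≠ 1 := fun e => hv (mul_inv_eq_one.1 e).symm
  have htu : t • u = u⁻¹ := by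
    simp only [u, smul_mul', smul_inv', smul_smul, ht, one_smul, mul_inv_rev, inv_inv]
  refine ⟨u, hu, ?_⟩
  by_contra h2
  have hne : u⁻¹ ≠ u := fun e => h2 (by nth_rewrite 1 [← e]; exact inv_mul_cancel u)
  let K : Subgroup H :=
    { carrier := {h | h • u = u ∨ h • u = u⁻¹}
      one_mem' := Or.inl (one_smul _ _)
      mul_mem' := by
        rintro a b (ha | ha) (hb | hb) <;> simp [mul_smul, ha, hb, smul_inv']
      inv_mem' := by
        rintro a (ha | ha)
        · exact Or.inl (inv_smul_eq_iff.2 ha.symm)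
        · exact Or.inr (inv_smul_eq_iff.2 (by rw [smul_inv', ha, inv_inv])) }
  have hK : K = ⊤ := (hc u hu).1.2 _ (lt_of_le_of_ne (fun h hh => Or.inl hh) fun e => by
    have : t ∈ K := Or.inr htu
    rw [← e] at this
    exact hne (htu.symm.trans this))
  have hall : ∀ h : H, h • u = u ∨ h • u = u⁻¹ := fun h => (hK ▸ mem_top h : h ∈ K)
  have hn : (stabilizer H u).Normal := ⟨fun s hs g => by
    have hs' : s • u = u := hs
    show (g * s * g⁻¹) • u = u
    rw [mul_smul, mul_smul]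
    rcases hall g⁻¹ with h | h
    · rw [h, hs', ← inv_smul_eq_iff.1 h]
    · rw [h, smul_inv', hs', ← h, smul_inv_smul]⟩
  have hb := cf_eq_bot (hc u hu).2 (le_refl (stabilizer H u))
  have hall' : ∀ h : H, h = 1 ∨ h = t := fun h => by
    rcases hall h with e | e
    · exact Or.inl (mem_bot.1 (hb ▸ e))
    · have : t⁻¹ * h ∈ stabilizer H u := by
        show (t⁻¹ * h) • u = u
        rw [mul_smul, e, ← htu, inv_smul_smul]
      exact Or.inr (inv_mul_eq_one.1 (mem_bot.1 (hb ▸ this))).symm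
  refine hs (Group.isSolvable_of_comm fun a b => ?_)
  rcases hall' a with rfl | rfl <;> rcases hall' b with rfl | rfl <;> simp

omit [Finite H] [Finite V] in
theorem extAff_fix {u : V} (hu : u ≠ 1) (hu2 : u * u = 1) {t : H} (ht : t * t = 1) :
    ∃ w : V, w ≠ 1 ∧ t • w = w := by
  by_cases h : u * t • u = 1
  · exact ⟨u, hu, (mul_left_cancel (h.trans hu2.symm))⟩
  · exact ⟨_, h, by rw [smul_mul', smul_smul, ht, one_smul, mul_comm]⟩

theorem extAff_abelian [Nontrivial V]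
    (hc : ∀ v : V, v ≠ 1 → IsCoatom (stabilizer H v) ∧ (stabilizer H v).normalCore = ⊥)
    {M : Subgroup H} [hM : M.Normal] (h0 : M ≠ ⊥) (hMc : IsMulCommutative M) :
    Group.IsSolvable H := by
  have hcomm : ∀ a ∈ M, ∀ b ∈ M, b * a = a * b := fun a ha b hb =>
    congrArg Subtype.val (hMc.1.1 ⟨b, hb⟩ ⟨a, ha⟩)
  have hfc : FC M := fc_of_aut ((MulDistribMulAction.toMulAut H V).comp M.subtype)
    fun h h1 v hv => by
      by_contra hv1
      exact h1 (Subtype.ext (cf_inf_eq_one (hc v hv1).1 (hc v hv1).2 h0 hcomm h.2 hv))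
  have hcyc : IsCyclic M :=
    (topEquiv : (⊤ : Subgroup M) ≃* M).isCyclic.1 (hfc.isCyclic ⊤ inferInstance)
  obtain ⟨v, hv⟩ := exists_ne (1 : V)
  obtain ⟨hS, hS0⟩ := hc v hv
  have hab : ∀ a ∈ stabilizer H v, ∀ b ∈ stabilizer H v, a * b = b * a := by
    intro a ha b hb
    have h1 : a * b * (b * a)⁻¹ ∈ centralizer (M : Set H) := by
      intro x hx
      have e : (MulAut.conjNormal (a * b) : MulAut M) = MulAut.conjNormal (b * a) := by
        rw [map_mul, map_mul]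
        exact (IsCyclic.mulAutMulEquiv M).injective (by rw [map_mul, map_mul, mul_comm])
      have e2 : (MulAut.conjNormal (a * b * (b * a)⁻¹) : MulAut M) = 1 := by
        rw [map_mul, map_inv, e, mul_inv_cancel]
      have e3 := congrArg (fun f : MulAut M => (f ⟨x, hx⟩ : H)) e2
      simp only [MulAut.conjNormal_apply, MulAut.one_apply] at e3
      exact (mul_inv_eq_iff_eq_mul.1 e3).symm
    exact mul_inv_eq_one.1 (cf_inf_eq_one hS hS0 h0 (A := centralizer (M : Set H))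
      (fun c hc b hb => mem_centralizer_iff.1 hc b hb) h1
      (mul_mem (mul_mem ha hb) (inv_mem (mul_mem hb ha))))
  have : Group.IsSolvable M := Group.isSolvable_of_comm hMc.1.1
  have : Group.IsSolvable (H ⧸ M) := Group.isSolvable_of_comm fun a b => by
    obtain ⟨a, rfl⟩ := QuotientGroup.mk_surjective a
    obtain ⟨b, rfl⟩ := QuotientGroup.mk_surjective b
    obtain ⟨s, hs, k, hk, rfl⟩ := cf_decomp hS hS0 h0 a
    obtain ⟨s', hs', k', hk', rfl⟩ := cf_decomp hS hS0 h0 b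
    simp only [QuotientGroup.mk_mul, (QuotientGroup.eq_one_iff _).2 hk,
      (QuotientGroup.eq_one_iff _).2 hk', mul_one]
    rw [← QuotientGroup.mk_mul, hab s hs s' hs', QuotientGroup.mk_mul]
  exact Group.isSolvable_of_ker_le_range M.subtype (QuotientGroup.mk' M) (by simp)

theorem extAff_fac {u : V} (hu : u ≠ 1) (hu2 : u * u = 1)
    (hc : ∀ v : V, v ≠ 1 → IsCoatom (stabilizer H v) ∧ (stabilizer H v).normalCore = ⊥)
    {N : Subgroup H} [N.Normal] {m : ℕ} {T : Fin m → Subgroup H} (h : Fac N T) {i j : Fin m}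
    (hij : i ≠ j) : False := by
  have hsi := h.simple i
  have hsj := h.simple j
  obtain ⟨v, hv, hmax⟩ := Set.exists_max_image {v : V | v ≠ 1}
    (fun v => Nat.card (T j ⊓ stabilizer H v : Subgroup H)) (Set.toFinite _) ⟨u, hu⟩
  obtain ⟨hS, hS0⟩ := hc v hv
  obtain ⟨r, hr, hrv, hr1⟩ : ∃ r ∈ T j, r ∈ stabilizer H v ∧ r ≠ 1 := by
    obtain ⟨t, ht, ht1, ht2⟩ := exists_invol_not_mem (S := ⊥) (h.nonab j)
      (fun e => h.ne_bot j (le_bot_iff.1 e))
    obtain ⟨w, hw, htw⟩ := extAff_fix hu hu2 ht2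
    by_contra hn
    push Not at hn
    have h1 : T j ⊓ stabilizer H v = ⊥ := eq_bot_iff.2 fun x hx => mem_bot.2 (hn x hx.1 hx.2)
    have h2 := hmax w hw
    simp only [h1, card_bot] at h2
    have h3 : T j ⊓ stabilizer H w = ⊥ := card_eq_one.1 (le_antisymm h2 Nat.card_pos)
    exact ht1 (h3 ▸ ⟨ht, htw⟩)
  obtain ⟨q, hq, hqv, hq1⟩ : ∃ q ∈ T i, q ∈ stabilizer H v ∧ q ≠ 1 := by
    obtain ⟨s, hs, hst⟩ := h.cf_trans hS hS0 j i
    exact ⟨_, hst r hr, mul_mem (mul_mem hs hrv) (inv_mem hs), by simpa using hr1⟩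
  obtain ⟨t, ht, htv, ht2⟩ := exists_invol_not_mem (h.nonab i) (h.cf_not_le hS hS0 i)
  have hcm : ∀ x ∈ T i, ∀ y ∈ T j, x * y = y * x := fun x hx y hy => h.comm i j hij hy x hx
  have hTI : ∀ b ∈ T j, b ∉ stabilizer H v → ∀ y ∈ T j, y ∈ stabilizer H v →
      b * y * b⁻¹ ∈ stabilizer H v → y = 1 := by
    intro b hb hbv
    -- replace `b` by its inverse for convenience
    let w := t • v * (b⁻¹ • v)⁻¹
    have hw : w ≠ 1 := by
      intro e
      have e1 : b * t ∈ stabilizer H v := by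
        show (b * t) • v = v
        rw [mul_smul, mul_inv_eq_one.1 e, smul_inv_smul]
      refine hq1 (h.cf_selfnorm hS hS0 ht htv (fun x hx hxv => ?_) hq hqv)
      have e2 := mul_mem (mul_mem e1 hxv) (inv_mem e1)
      have e3 := hcm _ (mul_mem (mul_mem ht hx) (inv_mem ht)) b hb
      convert e2 using 1
      calc t * x * t⁻¹ = (t * x * t⁻¹ * b) * b⁻¹ := by group
        _ = _ := by rw [e3]; group
    obtain ⟨hW, hW0⟩ := hc w hw
    have hfix : ∀ x ∈ T i, x • w = w → x • v = v ∧ x • t • v = t • v := by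
      intro x hx hxw
      let z := x • t • v * (t • v)⁻¹
      have hz' : z = b⁻¹ • (x • v * v⁻¹) := by
        simp only [w, smul_mul', smul_inv'] at hxw
        rw [smul_mul', smul_inv', smul_smul b⁻¹, ← hcm x hx _ (inv_mem hb), mul_smul]
        simp only [z]
        rw [mul_inv_eq_iff_eq_mul] at hxw
        rw [hxw]
        rw [mul_comm, ← mul_assoc, ← mul_assoc, inv_mul_cancel, one_mul, mul_comm]
      have hz : z = 1 := by
        by_contra hz
        have hle : T j ⊓ stabilizer H v ≤ T j ⊓ stabilizer H z := by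
          rintro y ⟨hy, hyv⟩
          have hyv' : y • v = v := hyv
          refine ⟨hy, ?_⟩
          show y • z = z
          simp only [z, smul_mul', smul_inv', smul_smul]
          rw [← hcm _ (mul_mem hx ht) y hy, ← hcm t ht y hy, mul_smul (x * t), mul_smul t, hyv']
        have heq := eq_of_le_of_card_ge hle (hmax z hz)
        refine hr1 (h.cf_selfnorm hS hS0 (inv_mem hb) (fun e => hbv (inv_mem_iff.1 e))
          (fun y hy hyv => ?_) hr hrv)
        have hyv' : y • v = v := hyv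
        have : b⁻¹ * y * b⁻¹⁻¹ ∈ T j ⊓ stabilizer H z := by
          refine mem_inf.2 ⟨mul_mem (mul_mem (inv_mem hb) hy) (inv_mem (inv_mem hb)), ?_⟩
          show (b⁻¹ * y * b⁻¹⁻¹) • z = z
          rw [hz', mul_smul, mul_smul, inv_smul_smul, smul_mul' y, smul_inv', smul_smul y,
            ← hcm x hx y hy, mul_smul, hyv']
        rw [← heq] at this
        exact this.2
      refine ⟨?_, mul_inv_eq_one.1 hz⟩
      rw [hz', inv_smul_eq_iff, smul_one] at hz
      exact mul_inv_eq_one.1 hz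
    have hwi : ∀ x ∈ T i, x ∈ stabilizer H w → x = 1 := by
      intro x hx hxw
      refine h.cf_selfnorm hW hW0 ht (fun e => htv (hfix t ht e).1) (fun y hy hyw => ?_) hx hxw
      obtain ⟨h1, h2⟩ := hfix y hy hyw
      have ti : t⁻¹ = t := inv_eq_of_mul_eq_one_right ht2
      have hy' : t * y * t⁻¹ ∈ T i := mul_mem (mul_mem ht hy) (inv_mem ht)
      show (t * y * t⁻¹) • w = w
      simp only [w, smul_mul', smul_inv']
      rw [smul_smul _ b⁻¹, hcm _ hy' _ (inv_mem hb), mul_smul b⁻¹, mul_smul, mul_smul,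
        inv_smul_smul, h1, mul_smul, mul_smul, ti, h2, smul_smul t t, ht2, one_smul]
    intro y hy hyv hyb
    obtain ⟨s, hs, hst⟩ := h.cf_trans hW hW0 j i
    have hyw : y ∈ stabilizer H w := by
      have hyv' : y • v = v := hyv
      have hyb' : (b * y * b⁻¹) • v = v := hyb
      show y • w = w
      simp only [w, smul_mul', smul_inv']
      rw [smul_smul y t, ← hcm t ht y hy, mul_smul, hyv']
      congr 2
      rw [eq_inv_smul_iff, ← mul_smul, ← mul_smul, hyb']
    simpa using hwi _ (hst y hy) (mul_mem (mul_mem hs hyw) (inv_mem hs))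
  have := Fintype.ofFinite (T j)
  obtain ⟨K, hK, hKn, hcompl⟩ := H17.frobenius_kernel (G := T j)
    (H := (stabilizer H v).subgroupOf (T j))
    fun x hx y hy hxy => Subtype.ext (hTI x x.2 hx y y.2 hy hxy)
  rcases IsSimpleGroup.eq_bot_or_eq_top_of_normal K hKn with e | e
  · rw [e, isComplement'_bot_left] at hcompl
    exact h.cf_not_le hS hS0 j fun x hx => (hcompl ▸ mem_top (⟨x, hx⟩ : T j) :
      (⟨x, hx⟩ : T j) ∈ (stabilizer H v).subgroupOf (T j))
  · rcases (hK ⟨r, hr⟩).1 (e ▸ mem_top _) with e' | e'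
    · exact hr1 (congrArg Subtype.val e')
    · exact e' 1 (by rw [inv_one, one_mul, mul_one]; exact hrv)

theorem extAff_almostSimple [Nontrivial V]
    (hc : ∀ v : V, v ≠ 1 → IsCoatom (stabilizer H v) ∧ (stabilizer H v).normalCore = ⊥)
    (hs : ¬ Group.IsSolvable H) : ∃ T : Subgroup H, T.Normal ∧ IsSimpleGroup T ∧
      ¬ IsMulCommutative T ∧ centralizer (T : Set H) = ⊥ := by
  obtain ⟨u, hu, hu2⟩ := extAff_two hc hs
  have hG0 : (⊤ : Subgroup H) ≠ ⊥ := fun e => hs (Group.isSolvable_of_comm fun a b => by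
    rw [mem_bot.1 (e ▸ mem_top a : a ∈ (⊥ : Subgroup H)), one_mul, mul_one])
  obtain ⟨N, hN, h0, -, hmin⟩ := exists_minimal_normal_le (⊤ : Subgroup H) hG0
  have hna : ¬ IsMulCommutative N := fun h => hs (extAff_abelian hc h0 h)
  obtain ⟨m, T, hT⟩ := exists_fac N h0 hmin hna
  have hm1 : m = 1 := by
    by_contra hm
    have := hT.pos
    exact extAff_fac hu hu2 hc hT (i := ⟨0, by omega⟩) (j := ⟨1, by omega⟩) (by simp)
  have hsim : IsSimpleGroup N := hT.eq_of_one hm1 ⟨0, hT.pos⟩ ▸ hT.simple _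
  refine ⟨N, hN, hsim, hna, ?_⟩
  by_contra hC
  obtain ⟨t, ht, ht1, ht2⟩ := exists_invol_not_mem (S := ⊥) hna (fun e => h0 (le_bot_iff.1 e))
  obtain ⟨w, hw, htw⟩ := extAff_fix hu hu2 ht2
  exact ht1 (mem_bot.2 (cf_inf_eq_one (hc w hw).1 (hc w hw).2 hC
    (fun a ha b hb => (hb a ha).symm) ht htw))

end H25
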