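import Cfsg.Agent.H25.Stab
import Cfsg.Agent.H1.Basic

/-! Extremely primitive groups: Manning's theorem. -/

set_option autoImplicit false

namespace H25

open MulAction Subgroup
open scoped Pointwise

variable {G Ω : Type*} [Group G] [MulAction G Ω]

/-- A normal subgroup of a group primitive on an orbit fixes the orbit or is transitive on it. -/
theorem orbit_eq_of_normal_prim {H K : Subgroup G} {y : Ω} (hp : IsPreprimitive H (orbit H y))
    (hKH : K ≤ H) (hn : H ≤ normalizer (K : Set G)) (hy : ¬ K ≤ stabilizer G y) :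
    orbit K y = orbit H y := by
  have hN : (K.subgroupOf H).Normal := (normal_subgroupOf_iff_le_normalizer hKH).2 hn
  have htr : IsPretransitive (K.subgroupOf H) (orbit H y) := by
    apply IsQuasiPreprimitive.isPretransitive_of_normal
    intro h
    apply hy
    intro k hk
    have : (⟨y, mem_orbit_self y⟩ : orbit H y) ∈ fixedPoints (K.subgroupOf H) (orbit H y) :=
      h ▸ Set.mem_univ _
    exact congrArg Subtype.val (this ⟨⟨k, hKH hk⟩, hk⟩)
  apply Set.Subset.antisymm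
  · rintro _ ⟨k, rfl⟩; exact ⟨⟨k, hKH k.2⟩, rfl⟩
  · intro z hz
    obtain ⟨k, hk⟩ := htr.exists_smul_eq ⟨y, mem_orbit_self y⟩ ⟨z, hz⟩
    exact ⟨⟨k.1, k.2⟩, congrArg Subtype.val hk⟩

theorem stabilizer_sup_eq_top [Finite G] [FaithfulSMul G Ω] [IsPreprimitive G Ω] {a b : Ω}
    (hab : a ≠ b) (ha : stabilizer G a ≠ ⊥) : stabilizer G a ⊔ stabilizer G b = ⊤ := by
  have : Nontrivial Ω := ⟨a, b, hab⟩
  refine (IsPreprimitive.isCoatom_stabilizer_of_isPreprimitive G b).2 _
    (lt_of_le_of_ne le_sup_right fun h => ha (stabilizer_eq_bot_of_le hab (h ▸ le_sup_left)))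

theorem eq_univ_of_inv [Finite G] [FaithfulSMul G Ω] [IsPreprimitive G Ω] {a b : Ω}
    (hab : a ≠ b) (ha : stabilizer G a ≠ ⊥) {S : Set Ω} (hS : S.Nonempty)
    (h1 : stabilizer G a ≤ stabilizer G S) (h2 : stabilizer G b ≤ stabilizer G S) :
    S = Set.univ := by
  have := sup_le h1 h2
  rw [stabilizer_sup_eq_top hab ha] at this
  obtain ⟨x, hx⟩ := hS
  rw [Set.eq_univ_iff_forall]
  intro y
  obtain ⟨g, rfl⟩ := exists_smul_eq G x y
  exact (mem_stabilizer_iff.1 (this (mem_top g))).le (Set.smul_mem_smul_set hx)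

theorem le_stabilizer_orbit (H : Subgroup G) (y : Ω) : H ≤ stabilizer G (orbit H y) :=
  fun h hh => smul_orbit (⟨h, hh⟩ : H) y

theorem orbit_conj_smul (K : Subgroup G) (g : G) (y : Ω) :
    orbit (MulAut.conj g • K : Subgroup G) (g • y) = g • orbit K y := by
  ext z
  constructor
  · rintro ⟨⟨_, k, hk, rfl⟩, rfl⟩
    exact ⟨k • y, ⟨⟨k, hk⟩, rfl⟩, by simp [mul_smul]⟩
  · rintro ⟨_, ⟨k, rfl⟩, rfl⟩
    exact ⟨⟨_, H1.conj_mem_conj_smul (g := g) k.2⟩, by simp [mul_smul, Subgroup.smul_def]⟩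

theorem stabilizer_smul_eq (g : G) (y : Ω) :
    stabilizer G (g • y) = MulAut.conj g • stabilizer G y :=
  stabilizer_smul_eq_stabilizer_map_conj g y

theorem le_normalizer_inf_fixing (H : Subgroup G) (y : Ω) :
    H ≤ normalizer ((H ⊓ fixingSubgroup G (orbit H y) : Subgroup G) : Set G) := by
  rw [← normal_subgroupOf_iff_le_normalizer inf_le_left]
  refine ⟨fun n hn g => ⟨(g * n * g⁻¹).2, ?_⟩⟩
  have h1 := (mem_fixingSubgroup_iff G).1 hn.2
  refine (mem_fixingSubgroup_iff G).2 fun z hz => ?_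
  have := h1 _ (mem_orbit_of_mem_orbit g⁻¹ hz)
  change ((g : G) * n * (g : G)⁻¹) • z = z
  rw [mul_smul, mul_smul]
  exact (congrArg ((g : G) • ·) this).trans (smul_inv_smul _ _)

/-- Manning's theorem. -/
theorem manning [Finite G] [Finite Ω] [FaithfulSMul G Ω] [IsPreprimitive G Ω]
    (hH : ∀ α : Ω, stabilizer G α ≠ ⊥)
    (hep : ∀ α ω : Ω, IsPreprimitive (stabilizer G α) (orbit (stabilizer G α) ω))
    (α : Ω) (K : Subgroup G) (hK : K ≤ stabilizer G α) (hn : stabilizer G α ≤ normalizer (K : Set G))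
    {β : Ω} (hβ : β ≠ α) (hKβ : K ≤ stabilizer G β) : K = ⊥ := by
  by_contra hK0
  let P : Ω → Subgroup G → Prop := fun a K => K ≤ stabilizer G a ∧
    stabilizer G a ≤ normalizer (K : Set G) ∧ K ≠ ⊥ ∧ ∃ b ≠ a, K ≤ stabilizer G b
  obtain ⟨⟨a, K, x⟩, ⟨hK, hn, hK0, b, hba, hKb⟩, hmax⟩ := Set.exists_max_image
    {t : Ω × Subgroup G × Ω | P t.1 t.2.1} (fun t => (orbit t.2.1 t.2.2).ncard) (Set.toFinite _)
    ⟨(α, K, α), hK, hn, hK0, β, hβ, hKβ⟩
  simp only at hK hn hK0 hba hKb hmax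
  set m := (orbit K x).ncard with hm
  have hone : ∀ (L : Subgroup G) (y : Ω), L ≤ stabilizer G y → (orbit L y).ncard = 1 := by
    intro L y h
    rw [ncard_suborbit, relIndex_eq_one.2 h]
  have hm1 : m ≠ 1 := by
    obtain ⟨k, hk, hk1⟩ := K.bot_or_exists_ne_one.resolve_left hK0
    obtain ⟨y, hy⟩ : ∃ y : Ω, k • y ≠ y := by
      by_contra h
      push Not at h
      exact hk1 (eq_of_smul_eq_smul (α := Ω) fun y => by rw [h, one_smul])
    have h1 := hmax (a, K, y) ⟨hK, hn, hK0, b, hba, hKb⟩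
    have h2 : 1 < (orbit K y).ncard := (Set.one_lt_ncard_iff_nontrivial).2
      ⟨_, mem_orbit y (⟨k, hk⟩ : K), _, mem_orbit_self y, hy⟩
    simp only at h1
    omega
  obtain ⟨g, rfl⟩ := exists_smul_eq G a b
  set K' := MulAut.conj g • K with hK'
  have hP' : P (g • a) K' := by
    refine ⟨?_, ?_, ?_, g • g • a, fun h => hba (smul_left_cancel g h), ?_⟩
    · rw [stabilizer_smul_eq]; exact map_mono hK
    · rw [stabilizer_smul_eq]; exact H1.le_normalizer_map hn _
    · rw [Ne, ← card_eq_one, H1.card_conj_smul, card_eq_one]; exact hK0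
    · rw [stabilizer_smul_eq]; exact map_mono hKb
  have hinv : ∀ (c : Ω) (L : Subgroup G), P c L →
      stabilizer G c ≤ stabilizer G {y : Ω | (orbit L y).ncard = m} := by
    intro c L hL h hh
    apply Set.eq_of_subset_of_ncard_le _ (by rw [Set.ncard_smul_set])
    rintro _ ⟨y, hy, rfl⟩
    have e := orbit_eq_of_normal_prim (hep c y) hL.1 hL.2.1 fun h' => hm1 (hy ▸ hone L y h')
    have : h • y ∈ orbit L y := e ▸ mem_orbit y (⟨h, hh⟩ : stabilizer G c)
    change (orbit L (h • y)).ncard = m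
    rw [orbit_eq_iff.2 this]; exact hy
  have hU' : {y : Ω | (orbit K' y).ncard = m} = g • {y : Ω | (orbit K y).ncard = m} := by
    ext y
    obtain ⟨y, rfl⟩ := MulAction.surjective g y
    simp only [Set.mem_setOf_eq, Set.smul_mem_smul_set_iff]
    rw [orbit_conj_smul, Set.ncard_smul_set]
  obtain ⟨y, hy, hy'⟩ : ∃ y : Ω, (orbit K y).ncard = m ∧ (orbit K' y).ncard ≠ m := by
    by_contra h
    push Not at h
    have e : {y : Ω | (orbit K y).ncard = m} = {y : Ω | (orbit K' y).ncard = m} :=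
      Set.eq_of_subset_of_ncard_le h (by rw [hU', Set.ncard_smul_set])
    have := eq_univ_of_inv hba.symm (hH a) (S := {y : Ω | (orbit K y).ncard = m}) ⟨x, rfl⟩ (hinv a K ⟨hK, hn, hK0, _, hba, hKb⟩)
      (e ▸ hinv _ K' hP')
    exact hm1 ((this ▸ Set.mem_univ a : a ∈ {y : Ω | (orbit K y).ncard = m}) ▸ hone K a hK)
  have hΓ : orbit K y = orbit (stabilizer G a) y :=
    orbit_eq_of_normal_prim (hep a y) hK hn fun h' => hm1 (hy ▸ hone K y h')
  have hya : y ≠ a := by
    rintro rfl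
    exact hm1 (hy ▸ hone K y hK)
  have hfix : K' ≤ fixingSubgroup G (orbit (stabilizer G a) y) := by
    intro k hk
    rw [mem_fixingSubgroup_iff]
    intro z hz
    by_contra hkz
    have e := orbit_eq_of_normal_prim (hep _ z) hP'.1 hP'.2.1 fun h' => hkz (h' hk)
    rw [← hΓ] at hz
    have h1 : orbit K z ⊆ orbit K' z := by
      rw [e]; rintro _ ⟨l, rfl⟩; exact ⟨⟨l, hKb l.2⟩, rfl⟩
    have h2 := hmax (_, K', z) hP'
    rw [orbit_eq_iff.2 hz] at h1
    have h3 := Set.eq_of_subset_of_ncard_le h1 (hy ▸ h2)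
    apply hy'
    rw [orbit_eq_iff.2 (h3 ▸ mem_orbit_self y), ← h3, hy]
  have hnt : Nontrivial Ω := ⟨y, a, hya⟩
  have hK'a : K' ≤ stabilizer G a := by
    have h1 : stabilizer G a = stabilizer G (orbit (stabilizer G a) y) := by
      by_contra hne
      have h2 := (IsPreprimitive.isCoatom_stabilizer_of_isPreprimitive G a).2 _
        (lt_of_le_of_ne (le_stabilizer_orbit _ y) hne)
      obtain ⟨l, hl⟩ := exists_smul_eq G y a
      have h5 : l • orbit (stabilizer G a) y = orbit (stabilizer G a) y :=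
        mem_stabilizer_iff.1 (h2 ▸ mem_top l)
      have h3 : a ∈ orbit (stabilizer G a) y := by
        have := h5.le (Set.smul_mem_smul_set (mem_orbit_self y))
        rwa [hl] at this
      obtain ⟨l', hl'⟩ := h3
      exact hya (smul_left_cancel (l' : G) (hl'.trans l'.2.symm))
    rw [h1]
    exact hfix.trans (fixingSubgroup_le_stabilizer G _)
  set L := stabilizer G a ⊓ fixingSubgroup G (orbit (stabilizer G a) y)
  have hK'L : K' ≤ L := le_inf hK'a hfix
  have hPL : P a L := ⟨inf_le_left, le_normalizer_inf_fixing _ y,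
    fun h => hP'.2.2.1 (eq_bot_iff.2 (h ▸ hK'L)), y, hya,
    fun l hl => (mem_fixingSubgroup_iff G).1 hl.2 y (mem_orbit_self y)⟩
  have hx' : (orbit K' (g • x)).ncard = m := by rw [orbit_conj_smul, Set.ncard_smul_set]
  have hnf : ¬ K' ≤ stabilizer G (g • x) := fun h' => hm1 (hx' ▸ hone K' _ h')
  have e1 := orbit_eq_of_normal_prim (hep _ (g • x)) hP'.1 hP'.2.1 hnf
  have e2 := orbit_eq_of_normal_prim (hep _ (g • x)) hPL.1 hPL.2.1 fun h => hnf (hK'L.trans h)
  have e3 : orbit K' (g • x) = orbit L (g • x) :=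
    Set.eq_of_subset_of_ncard_le (by rintro _ ⟨l, rfl⟩; exact ⟨⟨l, hK'L l.2⟩, rfl⟩)
      (hx' ▸ hmax (a, L, g • x) hPL)
  have := eq_univ_of_inv hba.symm (hH a) ⟨_, mem_orbit_self (g • x)⟩
    (le_stabilizer_orbit (stabilizer G a) (g • x))
    (by rw [← e2, ← e3, e1]; exact le_stabilizer_orbit _ _)
  obtain ⟨l, hl⟩ : a ∈ orbit (stabilizer G a) (g • x) := this ▸ Set.mem_univ a
  have h4 : g • x = a := smul_left_cancel (l : G) (hl.trans l.2.symm)
  exact hnf (h4 ▸ hK'a)

end H25
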