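import Cfsg.Agent.H25.ExtPrim
import Cfsg.Agent.H1.Prim

/-! Extremely primitive groups: two-point stabilisers are core-free maximal in point stabilisers. -/

set_option autoImplicit false

namespace H25

open MulAction Subgroup

variable {G Ω : Type*} [Group G] [MulAction G Ω]

theorem extPrim_corefree [Finite G] [Finite Ω] [FaithfulSMul G Ω] [IsPreprimitive G Ω]
    (hH : ∀ α : Ω, stabilizer G α ≠ ⊥)
    (hep : ∀ α ω : Ω, IsPreprimitive (stabilizer G α) (orbit (stabilizer G α) ω))
    {α ω : Ω} (hω : ω ≠ α) : IsCoatom (stabilizer (stabilizer G α) ω) ∧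
      (stabilizer (stabilizer G α) ω).normalCore = ⊥ := by
  have key : ∀ K : Subgroup (stabilizer G α), K.Normal → K ≤ stabilizer (stabilizer G α) ω →
      K = ⊥ := by
    intro K hK h
    rw [← map_eq_bot_iff_of_injective _ (subtype_injective _)]
    refine manning hH hep α _ (map_subtype_le _) ?_ hω ?_
    · exact H1.le_normalizer_map_subtype_iff.2 hK
    · rintro _ ⟨k, hk, rfl⟩; exact h hk
  refine ⟨?_, key _ inferInstance (normalCore_le _)⟩
  have hnt : Nontrivial (orbit (stabilizer G α) ω) := by
    by_contra hs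
    rw [not_nontrivial_iff_subsingleton] at hs
    have := key ⊤ inferInstance fun k _ =>
      congrArg Subtype.val (hs.elim ⟨_, mem_orbit ω k⟩ ⟨ω, mem_orbit_self ω⟩)
    apply hH α
    rw [← map_eq_bot_iff_of_injective _ (subtype_injective _), ← MonoidHom.range_eq_map,
      range_subtype] at this
    exact this
  have := hep α ω
  have h := IsPreprimitive.isCoatom_stabilizer_of_isPreprimitive (stabilizer G α)
    (⟨ω, mem_orbit_self ω⟩ : orbit (stabilizer G α) ω)
  convert h using 1
  ext k
  simp only [mem_stabilizer_iff, Subtype.ext_iff]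
  rfl

theorem stabilizer_ne_bot_of_trans [Finite G] [IsPretransitive G Ω] {a : Ω}
    (h : stabilizer G a ≠ ⊥) (b : Ω) : stabilizer G b ≠ ⊥ := by
  rwa [Ne, ← card_eq_one, card_stabilizer_eq b a, card_eq_one]

end H25
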