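import Cfsg.Agent.H25.Zas4
import Cfsg.Agent.H6.Dihedral
import Cfsg.Agent.S3116
import Cfsg.Agent.S3742

/-! The normal Z-subgroup of a Frobenius complement with quotient `1, V₄, A₄, S₄, A₅, S₅`. -/

set_option autoImplicit false

namespace H25

open Subgroup Equiv

universe u

variable {G : Type u} [Group G]

def q8rep : Fin 5 → SL25 := ![mkSL 0 1 (-1) 0 (by decide), mkSL 1 1 3 (-1) (by decide),
  mkSL 1 2 (-1) (-1) (by decide), mkSL 1 3 1 (-1) (by decide), mkSL 1 4 2 (-1) (by decide)]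

def q8cls (x : SL25) : Fin 5 :=
  if (x * q8rep 0) ^ 4 = 1 then 0 else if (x * q8rep 1) ^ 4 = 1 then 1 else
  if (x * q8rep 2) ^ 4 = 1 then 2 else if (x * q8rep 3) ^ 4 = 1 then 3 else 4

theorem q8rep_sq : ∀ i, q8rep i ^ 2 = -1 := by decide +kernel
theorem q8cls_rep : ∀ i, q8cls (q8rep i) = i := by decide +kernel

def Q8Aux (x : SL25) : Prop := ∀ a b c d h, a + d = 0 →
  (q8cls x = q8cls (mkSL a b c d h) ↔ (x * mkSL a b c d h) ^ 4 = 1)

instance (x : SL25) : Decidable (Q8Aux x) := by unfold Q8Aux; infer_instance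

theorem q8aux : ∀ a b c d h, a + d = 0 → Q8Aux (mkSL a b c d h) := by decide +kernel

theorem q8cls_eq {x y : SL25} (hx : x ^ 2 = -1) (hy : y ^ 2 = -1) :
    q8cls x = q8cls y ↔ (x * y) ^ 4 = 1 := by
  have h1 := sl25_sq x hx
  have h2 := sl25_sq y hy
  clear hx hy
  induction x using sl25_cases
  induction y using sl25_cases
  exact q8aux _ _ _ _ _ h1 _ _ _ _ _ h2

theorem q8_inn (s : SL25) : (∀ i, q8cls (s * q8rep i * s⁻¹) = i) → s = 1 ∨ s = -1 := by
  revert s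
  apply sl25_cases
  decide +kernel

theorem aut_sq (α : MulAut SL25) {x : SL25} (hx : x ^ 2 = -1) : α x ^ 2 = -1 := by
  rw [← map_pow, hx, aut_sl25_neg]

/-- The action of `Aut(SL(2,5))` on the five Sylow `2`-subgroups. -/
@[reducible] def q8act : MulAction (MulAut SL25) (Fin 5) where
  smul α i := q8cls (α (q8rep i))
  one_smul := q8cls_rep
  mul_smul α β i := by
    change q8cls (α (β (q8rep i))) = q8cls (α (q8rep (q8cls (β (q8rep i)))))
    have h1 := aut_sq β (q8rep_sq i)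
    rw [q8cls_eq (aut_sq α h1) (aut_sq α (q8rep_sq _)), ← map_mul, ← map_pow, ← map_one α,
      α.injective.eq_iff, ← q8cls_eq h1 (q8rep_sq _), q8cls_rep]

theorem exists_aut_sl25_hom : ∃ φ : MulAut SL25 →* Perm (Fin 5), Function.Injective φ := by
  obtain ⟨φ, hφ⟩ : ∃ φ : MulAut SL25 →* Perm (Fin 5), ∀ α i, φ α i = q8cls (α (q8rep i)) :=
    ⟨@MulAction.toPermHom _ _ _ q8act, fun _ _ => rfl⟩
  refine ⟨φ, (injective_iff_map_eq_one _).2 fun α h => ?_⟩
  have key : ∀ s : SL25, α s = s ∨ α s = -1 * s := fun s => by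
    have h1 : φ (MulAut.conj (α s * s⁻¹)) = 1 := by
      have : MulAut.conj (α s * s⁻¹) = α * MulAut.conj s * α⁻¹ * (MulAut.conj s)⁻¹ := by
        ext1 t; simp [mul_assoc]
      rw [this, map_mul, map_mul, map_mul, map_inv, map_inv, h, one_mul, inv_one, mul_one,
        mul_inv_cancel]
    rcases q8_inn (α s * s⁻¹) (fun i => by
      rw [← MulAut.conj_apply, ← hφ, h1, Perm.one_apply]) with e | e
    · exact Or.inl (mul_inv_eq_one.1 e)
    · exact Or.inr (mul_inv_eq_iff_eq_mul.1 e)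
  refine MulEquiv.toMonoidHom_injective (sl25_hom_ext ((key _).resolve_right fun e => ?_)
    ((key _).resolve_right fun e => ?_))
  · have := congrArg (· ^ 3) e
    simp only [← map_pow, sx_pow, map_one] at this
    exact absurd this (by decide)
  · have := congrArg (· ^ 5) e
    simp only [← map_pow, sy_pow, map_one] at this
    exact absurd this (by decide)

theorem surj_or_alt {α : Type*} [Fintype α] [DecidableEq α] (φ : G →* Perm α)
    (h : Nat.card (Perm α) ≤ 2 * φ.ker.index) :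
    (∃ f : G →* alternatingGroup α, Function.Surjective f ∧ f.ker = φ.ker) ∨
      Function.Surjective φ := by
  have h1 := φ.range.card_mul_index
  have h2 : φ.range.index ≠ 0 := index_ne_zero_of_finite
  have h3 : 0 < Nat.card φ.range := Nat.card_pos
  rw [index_ker, ← h1, mul_comm 2] at h
  have h4 := Nat.le_of_mul_le_mul_left h h3
  by_cases h5 : φ.range.index = 1
  · exact Or.inr (MonoidHom.range_eq_top.1 (index_eq_one.1 h5))
  have h6 := Perm.eq_alternatingGroup_of_index_eq_two (show φ.range.index = 2 by omega)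
  refine Or.inl ⟨φ.codRestrict _ fun g => h6 ▸ ⟨g, rfl⟩, fun ⟨σ, hσ⟩ => ?_, φ.ker_codRestrict _ _⟩
  rw [← h6] at hσ
  obtain ⟨g, rfl⟩ := hσ
  exact ⟨g, rfl⟩

/-- The projection of a generalized quaternion group onto the four-group. -/
def quatV4 (m : ℕ) : QuaternionGroup (2 * m) →* DihedralGroup 2 :=
  MonoidHom.mk' (fun
    | .a i => .r (ZMod.castHom (dvd_mul_right 2 (2 * m)) (ZMod 2) i)
    | .xa i => .sr (ZMod.castHom (dvd_mul_right 2 (2 * m)) (ZMod 2) i)) (by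
    rintro (i | i) (j | j) <;> simp only [QuaternionGroup.a_mul_a, QuaternionGroup.a_mul_xa,
      QuaternionGroup.xa_mul_a, QuaternionGroup.xa_mul_xa, DihedralGroup.r_mul_r,
      DihedralGroup.r_mul_sr, DihedralGroup.sr_mul_r, DihedralGroup.sr_mul_sr, map_add, map_sub,
      map_natCast]
    rw [Nat.cast_mul, show ((2 : ℕ) : ZMod 2) = 0 from rfl, zero_mul, zero_add])

theorem quatV4_surj (m : ℕ) : Function.Surjective (quatV4 m) := by
  have := ZMod.castHom_surjective (dvd_mul_right 2 (2 * m))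
  rintro (i | i) <;> obtain ⟨j, rfl⟩ := this i
  exacts [⟨.a j, rfl⟩, ⟨.xa j, rfl⟩]

theorem quatV4_ker (m : ℕ) [NeZero m] : (quatV4 m).ker ≤ zpowers (QuaternionGroup.a 1) := by
  rintro (i | i) h
  · exact ⟨i.val, by simp only [zpow_natCast, QuaternionGroup.a_one_pow, ZMod.natCast_zmod_val]⟩
  · exact absurd h (by rintro ⟨⟩)

theorem eq_of_zgroup [Finite G] [IsZGroup G] {c d : G} (hc : orderOf c = 2) (hd : orderOf d = 2)
    (h : Commute c d) : c = d := by
  have h1 : IsPGroup 2 (zpowers c ⊔ zpowers d : Subgroup G) :=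
    IsPGroup.to_sup_of_normal_right' (.of_card (n := 1) (by rw [Nat.card_zpowers, hc, pow_one]))
      (.of_card (n := 1) (by rw [Nat.card_zpowers, hd, pow_one]))
      (zpowers_le.2 (centralizer_le_normalizer _ (by
        rintro _ ⟨k, rfl⟩; exact (h.zpow_right k).symm)))
  have h2 := H2.eq_of_card_eq_of_isCyclic h1.isCyclic_of_isZGroup (X := zpowers c) (Y := zpowers d)
    le_sup_left le_sup_right (by rw [Nat.card_zpowers, Nat.card_zpowers, hc, hd])
  classical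
  obtain ⟨k, hk, e⟩ := Finset.mem_image.1 (mem_zpowers_iff_mem_range_orderOf.1 (h2 ▸ mem_zpowers c))
  rw [hd, Finset.mem_range] at hk
  interval_cases k
  · rw [← e, pow_zero, orderOf_one] at hc; omega
  · rw [← e, pow_one]

/-- no non-trivial normal Z-subgroup. -/
def NoZ (Q : Type*) [Group Q] : Prop := ∀ K : Subgroup Q, K.Normal → IsZGroup K → K = ⊥

theorem noZ_of_perm {n : ℕ} (hn : ∀ K : Subgroup (Perm (Fin n)), K ≠ ⊥ →
    (∀ a ∈ alternatingGroup (Fin n), ∀ k ∈ K, a * k * a⁻¹ ∈ K) →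
    ∃ c ∈ K, ∃ d ∈ K, c ^ 2 = 1 ∧ d ^ 2 = 1 ∧ c ≠ 1 ∧ d ≠ 1 ∧ c ≠ d ∧ c * d = d * c) :
    NoZ (alternatingGroup (Fin n)) ∧ NoZ (Perm (Fin n)) := by
  have key : ∀ K : Subgroup (Perm (Fin n)), IsZGroup K →
      (∀ a ∈ alternatingGroup (Fin n), ∀ k ∈ K, a * k * a⁻¹ ∈ K) → K = ⊥ := fun K hK h => by
    by_contra h0
    obtain ⟨c, hc, d, hd, h1, h2, h3, h4, h5, h6⟩ := hn K h0 h
    exact h5 (congrArg Subtype.val (eq_of_zgroup (c := (⟨c, hc⟩ : K)) (d := ⟨d, hd⟩)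
      (orderOf_eq_prime (Subtype.ext h1) fun e => h3 (congrArg Subtype.val e))
      (orderOf_eq_prime (Subtype.ext h2) fun e => h4 (congrArg Subtype.val e))
      (Subtype.ext h6)))
  refine ⟨fun K hK hZ => ?_, fun K hK hZ => key K hZ fun a _ k hk => hK.1 k hk a⟩
  refine (map_eq_bot_iff_of_injective _ (subtype_injective _)).1 (key _
    (IsZGroup.of_surjective (f := (K.equivMapOfInjective _ (subtype_injective _)).toMonoidHom)
      (K.equivMapOfInjective _ (subtype_injective _)).surjective) ?_)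
  rintro a ha _ ⟨k, hk, rfl⟩
  exact ⟨_, hK.1 k hk ⟨a, ha⟩, rfl⟩

theorem noZ_four : NoZ (alternatingGroup (Fin 4)) ∧ NoZ (Perm (Fin 4)) := by
  refine noZ_of_perm fun K h0 h => ?_
  obtain ⟨⟨σ, hσ⟩, h1⟩ := (ne_bot_iff_exists_ne_one.1 h0)
  have h2 : σ ≠ 1 := fun e => h1 (Subtype.ext e)
  have key : ∀ σ : Perm (Fin 4), σ ≠ 1 → ∃ a : Perm (Fin 4), Perm.sign a = 1 ∧
      (a * σ * a⁻¹ * σ⁻¹) ^ 2 = 1 ∧ a * σ * a⁻¹ * σ⁻¹ ≠ 1 := by decide +kernel
  have key2 : ∀ σ a : Perm (Fin 4), let c := a * σ * a⁻¹ * σ⁻¹; c ^ 2 = 1 → c ≠ 1 →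
      let b : Perm (Fin 4) := swap 0 1 * swap 0 2
      b * c * b⁻¹ ≠ 1 ∧ c ≠ b * c * b⁻¹ ∧ c * (b * c * b⁻¹) = b * c * b⁻¹ * c := by decide +kernel
  obtain ⟨a, ha, h3, h4⟩ := key σ h2
  have h5 := K.mul_mem (h a ha σ hσ) (K.inv_mem hσ)
  obtain ⟨h6, h7, h8⟩ := key2 σ a h3 h4
  exact ⟨_, h5, _, h _ (Perm.mem_alternatingGroup.2 (by decide)) _ h5, h3,
    by rw [conj_pow, h3, mul_one, mul_inv_cancel], h4, h6, h7, h8⟩

theorem noZ_five : NoZ (alternatingGroup (Fin 5)) ∧ NoZ (Perm (Fin 5)) := by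
  refine noZ_of_perm fun K h0 h => ?_
  have hn : (K.subgroupOf (alternatingGroup (Fin 5))).Normal := ⟨fun k hk a => h a a.2 k hk⟩
  rcases hn.eq_bot_or_eq_top with e | e
  · obtain ⟨⟨σ, hσ⟩, h1⟩ := (ne_bot_iff_exists_ne_one.1 h0)
    have h2 : σ ≠ 1 := fun e => h1 (Subtype.ext e)
    have key : ∀ σ : Perm (Fin 5), σ ≠ 1 → ∃ a ∈ ({swap 0 1 * swap 0 2,
        swap 0 1 * swap 0 3, swap 0 1 * swap 0 4} : Finset (Perm (Fin 5))), Perm.sign a = 1 ∧
        Perm.sign (a * σ * a⁻¹ * σ⁻¹) = 1 ∧ a * σ * a⁻¹ * σ⁻¹ ≠ 1 := by decide +kernel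
    obtain ⟨a, -, ha, h3, h4⟩ := key σ h2
    exact (h4 (congrArg Subtype.val (e.le (show (⟨_, h3⟩ : alternatingGroup (Fin 5)) ∈ _ from
      K.mul_mem (h a ha σ hσ) (K.inv_mem hσ))))).elim
  · have h1 := subgroupOf_eq_top.1 e
    exact ⟨swap 0 1 * swap 2 3, h1 (Perm.mem_alternatingGroup.2 (by decide)), swap 0 2 * swap 1 3,
      h1 (Perm.mem_alternatingGroup.2 (by decide)), by decide⟩

end H25
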