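import Cfsg.Agent.H25.IrrField

/-! Normal subgroups of linear groups transitive on non-zero vectors. -/

set_option autoImplicit false

namespace H25

open Module
open scoped IsMulCommutative

universe u

variable {F : Type*} [Field F] {V : Type u} [AddCommGroup V] [Module F V] {G : Type*} [Group G]

/-- `N` acts irreducibly. -/
def Irr (σ : G →* End F V) (N : Subgroup G) : Prop :=
  ∀ W : Submodule F V, (∀ n ∈ N, ∀ w ∈ W, σ n w ∈ W) → W = ⊥ ∨ W = ⊤

/-- the enveloping algebra of `N`. -/
abbrev envA (σ : G →* End F V) (N : Subgroup G) : Subalgebra F (End F V) :=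
  Algebra.adjoin F (σ '' N)

/-- transitivity on non-zero vectors. -/
def LTrans (σ : G →* End F V) : Prop := ∀ v w : V, v ≠ 0 → w ≠ 0 → ∃ g, σ g v = w

variable {σ : G →* End F V} {N : Subgroup G}

theorem Irr.mono (h : Irr σ N) {M : Subgroup G} (hM : N ≤ M) : Irr σ M :=
  fun W hW => h W fun n hn => hW n (hM hn)

theorem mem_envA {n : G} (hn : n ∈ N) : σ n ∈ envA σ N := Algebra.subset_adjoin ⟨n, hn, rfl⟩

theorem envA_induction {P : End F V → Prop} (h1 : ∀ n ∈ N, P (σ n)) (h0 : P 0)
    (h2 : ∀ a b, P a → P b → P (a + b)) (h3 : ∀ (c : F) a, P a → P (c • a)) {T : End F V}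
    (hT : T ∈ envA σ N) : P T := by
  have : T ∈ Submodule.span F (σ '' N) := by
    rw [← Subalgebra.mem_toSubmodule, Algebra.adjoin_eq_span] at hT
    have e : (Submonoid.closure (σ '' N) : Set (End F V)) = σ '' N :=
      congrArg SetLike.coe (Submonoid.closure_eq (N.toSubmonoid.map σ))
    rwa [e] at hT
  induction this using Submodule.span_induction with
  | mem x hx => obtain ⟨n, hn, rfl⟩ := hx; exact h1 n hn
  | zero => exact h0
  | add x y hx hy ihx ihy =>
    exact h2 _ _ (ihx (Algebra.span_le_adjoin F _ hx)) (ihy (Algebra.span_le_adjoin F _ hy))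
  | smul c x hx ih => exact h3 _ _ (ih (Algebra.span_le_adjoin F _ hx))

theorem rep_inv_apply (σ : G →* End F V) (g : G) (v : V) : σ g⁻¹ (σ g v) = v := by
  rw [← End.mul_apply, ← map_mul, inv_mul_cancel, map_one, End.one_apply]

theorem rep_apply_inv (σ : G →* End F V) (g : G) (v : V) : σ g (σ g⁻¹ v) = v := by
  simpa using rep_inv_apply σ g⁻¹ v

theorem rep_injective (σ : G →* End F V) (g : G) : Function.Injective (σ g) :=
  Function.LeftInverse.injective (rep_inv_apply σ g)

theorem rep_ne_zero (σ : G →* End F V) (g : G) {v : V} (hv : v ≠ 0) : σ g v ≠ 0 :=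
  fun h => hv (rep_injective σ g (h.trans (map_zero _).symm))

theorem conj_mem_envA [hN : N.Normal] (g : G) {T : End F V} (hT : T ∈ envA σ N) :
    σ g * T * σ g⁻¹ ∈ envA σ N := by
  refine envA_induction (P := fun T => σ g * T * σ g⁻¹ ∈ envA σ N) (fun n hn => ?_) (by simp)
    (fun a b ha hb => ?_) (fun c a ha => ?_) hT
  · rw [← map_mul, ← map_mul]; exact mem_envA (hN.conj_mem n hn g)
  · rw [mul_add, add_mul]; exact add_mem ha hb
  · rw [mul_smul_comm, smul_mul_assoc]; exact Subalgebra.smul_mem _ ha c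

theorem envA_apply_mem {W : Submodule F V} (hW : ∀ n ∈ N, ∀ w ∈ W, σ n w ∈ W) {T : End F V}
    (hT : T ∈ envA σ N) {w : V} (hw : w ∈ W) : T w ∈ W :=
  envA_induction (P := fun T => T w ∈ W) (fun n hn => hW n hn w hw) W.zero_mem
    (fun _ _ => W.add_mem) (fun c _ => W.smul_mem c) hT

theorem envA_comm {T : End F V} (h : ∀ n ∈ N, T * σ n = σ n * T) {S : End F V}
    (hS : S ∈ envA σ N) : T * S = S * T :=
  Algebra.commute_of_mem_adjoin_of_forall_mem_commute hS (by rintro _ ⟨n, hn, rfl⟩; exact h n hn)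

instance finite_end [Finite V] : Finite (End F V) :=
  Finite.of_injective (fun f : End F V => (f : V → V)) DFunLike.coe_injective

theorem comm_of_inj [Finite V] (R : Subalgebra F (End F V))
    (h : ∀ T ∈ R, T ≠ 0 → Function.Injective T) : IsMulCommutative R := by
  rcases subsingleton_or_nontrivial R with h0 | h0
  · exact ⟨⟨fun _ _ => Subsingleton.elim _ _⟩⟩
  have : NoZeroDivisors R := ⟨fun {a b} e => or_iff_not_imp_left.2 fun h1 => Subtype.ext
    (LinearMap.ext fun v => h a a.2 (fun e => h1 (Subtype.ext e))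
      ((DFunLike.congr_fun (congrArg Subtype.val e) v).trans (map_zero _).symm))⟩
  have := NoZeroDivisors.to_isDomain R
  exact ⟨⟨(Finite.isDomain_to_isField R).mul_comm⟩⟩

/-- A normal subgroup of a group transitive on non-zero vectors is irreducible, or its enveloping
algebra is a field. -/
theorem LTrans.irr_or_inj [Finite V] (ht : LTrans σ) (N : Subgroup G) [N.Normal] :
    Irr σ N ∨ ∀ T ∈ envA σ N, T ≠ 0 → Function.Injective T := by
  let ev : V → envA σ N →ₗ[F] V := fun v => (LinearMap.applyₗ v).comp (envA σ N).val.toLinearMap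
  have k1 : ∀ v w, v ≠ 0 → w ≠ 0 →
      Nat.card (LinearMap.ker (ev v)) ≤ Nat.card (LinearMap.ker (ev w)) := fun v w hv hw => by
    obtain ⟨g, rfl⟩ := ht v w hv hw
    refine Nat.card_le_card_of_injective (fun T => ⟨⟨_, conj_mem_envA g T.1.2⟩, ?_⟩) fun S T e => ?_
    · change σ g (T.1.1 (σ g⁻¹ (σ g v))) = 0
      rw [rep_inv_apply, show T.1.1 v = 0 from T.2, map_zero]
    · refine Subtype.ext (Subtype.ext (LinearMap.ext fun x => rep_injective σ g ?_))
      simpa [rep_inv_apply] using DFunLike.congr_fun (congrArg (fun t => t.1.1) e) (σ g x)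
  have k2 : ∀ v w, v ≠ 0 → w ≠ 0 →
      Nat.card (LinearMap.range (ev v)) ≤ Nat.card (LinearMap.range (ev w)) := fun v w hv hw => by
    have e := fun v => Submodule.card_eq_card_quotient_mul_card (LinearMap.ker (ev v))
    have e1 := (e v).symm.trans (e w)
    rw [Nat.card_congr (ev v).quotKerEquivRange.toEquiv,
      Nat.card_congr (ev w).quotKerEquivRange.toEquiv,
      le_antisymm (k1 v w hv hw) (k1 w v hw hv)] at e1
    exact (Nat.eq_of_mul_eq_mul_left Nat.card_pos e1).le
  have k3 : ∀ v, v ∈ LinearMap.range (ev v) := fun v => ⟨1, rfl⟩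
  have k4 : ∀ v w, w ≠ 0 → w ∈ LinearMap.range (ev v) →
      LinearMap.range (ev w) = LinearMap.range (ev v) := fun v w hw h => by
    obtain ⟨S, rfl⟩ := h
    refine SetLike.coe_injective (Set.eq_of_subset_of_ncard_le ?_
      (k2 v _ (by rintro rfl; exact hw (map_zero S.1)) hw))
    rintro _ ⟨T, rfl⟩
    exact ⟨T * S, rfl⟩
  refine or_iff_not_imp_left.2 fun hi T hT h0 => (injective_iff_map_eq_zero _).2 fun u hu => ?_
  by_contra hu0
  have k5 : ∀ w, w ∉ LinearMap.range (ev u) → T w = 0 := fun w hw => by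
    have hw0 : w ≠ 0 := fun e => hw (e ▸ zero_mem _)
    have h1 : LinearMap.ker (ev (u + w)) ≤ LinearMap.ker (ev u) ⊓ LinearMap.ker (ev w) := by
      intro S hS
      have e : ev u S = ev w (-S) := by
        rw [map_neg, eq_neg_iff_add_eq_zero]; exact (map_add S.1 u w).symm.trans hS
      have : ev u S = 0 := by
        by_contra h
        exact hw ((k4 u _ h ⟨S, rfl⟩) ▸ (k4 w _ h ⟨_, e.symm⟩).symm ▸ k3 w)
      exact ⟨this, by rwa [this, map_neg, zero_eq_neg] at e⟩
    have h2 : LinearMap.ker (ev (u + w)) = LinearMap.ker (ev u) :=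
      SetLike.coe_injective (Set.eq_of_subset_of_ncard_le (h1.trans inf_le_left) (k1 u _ hu0
        fun e => hw (eq_neg_of_add_eq_zero_right e ▸ neg_mem (k3 u))))
    exact (h1 (h2.ge (show (⟨T, hT⟩ : envA σ N) ∈ _ from hu))).2
  obtain ⟨w, hw⟩ : ∃ w, w ∉ LinearMap.range (ev u) := by
    by_contra h
    push Not at h
    refine hi fun W hW => or_iff_not_imp_left.2 fun h1 => eq_top_iff.2 fun x _ => ?_
    obtain ⟨y, hy, hy0⟩ := W.exists_mem_ne_zero_of_ne_bot h1
    obtain ⟨S, rfl⟩ := (k4 u y hy0 (h y)).ge (h x)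
    exact envA_apply_mem hW S.2 hy
  refine h0 (LinearMap.ext fun x => ?_)
  by_cases hx : x ∈ LinearMap.range (ev u)
  · have := k5 (x + w) fun e => hw ((add_mem_cancel_left hx).1 e)
    rwa [map_add, k5 w hw, add_zero] at this
  · exact k5 x hx

/-- Schur's lemma. -/
theorem Irr.inj (h : Irr σ N) {T : End F V} (hT : ∀ n ∈ N, T * σ n = σ n * T) (h0 : T ≠ 0) :
    Function.Injective T :=
  LinearMap.ker_eq_bot.1 ((h (LinearMap.ker T) fun n hn w hw => by
    rw [LinearMap.mem_ker, ← End.mul_apply, hT n hn, End.mul_apply, hw, map_zero]).resolve_right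
      fun e => h0 (LinearMap.ker_eq_top.1 e))

theorem Irr.comm [Finite V] (h : Irr σ N) {S T : End F V} (hS : ∀ n ∈ N, S * σ n = σ n * S)
    (hT : ∀ n ∈ N, T * σ n = σ n * T) : S * T = T * S :=
  congrArg Subtype.val ((comm_of_inj (Subalgebra.centralizer F (σ '' N)) fun T hT =>
    h.inj fun n hn => (hT _ ⟨n, hn, rfl⟩).symm).1.1
    ⟨S, by rintro _ ⟨n, hn, rfl⟩; exact (hS n hn).symm⟩
    ⟨T, by rintro _ ⟨n, hn, rfl⟩; exact (hT n hn).symm⟩)

theorem Irr.centralizer_comm [Finite V] (h : Irr σ N) (hσ : Function.Injective σ) :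
    IsMulCommutative (Subgroup.centralizer (N : Set G)) :=
  ⟨⟨fun a b => Subtype.ext (hσ (by
    simp only [Subgroup.coe_mul, map_mul]
    exact h.comm (fun n hn => by rw [← map_mul, ← a.2 n hn, map_mul])
      fun n hn => by rw [← map_mul, ← b.2 n hn, map_mul]))⟩⟩

theorem LTrans.irr_of_not_comm [Finite V] (ht : LTrans σ) (hσ : Function.Injective σ) [N.Normal]
    (h : ¬ IsMulCommutative N) : Irr σ N :=
  (ht.irr_or_inj N).resolve_right fun h1 => h ⟨⟨fun a b => Subtype.ext (hσ (by
    simp only [Subgroup.coe_mul, map_mul]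
    exact congrArg Subtype.val ((comm_of_inj _ h1).1.1 ⟨_, mem_envA a.2⟩ ⟨_, mem_envA b.2⟩)))⟩⟩

theorem LTrans.inj_of_comm [Finite V] (ht : LTrans σ) [N.Normal] (h : IsMulCommutative N) :
    ∀ T ∈ envA σ N, T ≠ 0 → Function.Injective T :=
  (ht.irr_or_inj N).elim (fun h1 _ hT => h1.inj fun n hn => (envA_comm (fun m hm => by
    rw [← map_mul, ← map_mul, setLike_mul_comm hn hm]) hT).symm) id

/-- Jacobson's density theorem. -/
theorem Irr.density [Finite V] [Nontrivial V] (h : Irr σ N) {T : End F V}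
    (hT : ∀ S : End F V, (∀ n ∈ N, S * σ n = σ n * S) → T * S = S * T) : T ∈ envA σ N := by
  have : IsSimpleModule (envA σ N) V := by
    refine (isSimpleModule_iff _ _).2 ⟨fun W => ?_⟩
    refine (h (W.restrictScalars F) fun n hn w hw => W.smul_mem ⟨_, mem_envA hn⟩ hw).imp
      (fun e => ?_) fun e => ?_
    · exact (Submodule.restrictScalars_eq_bot_iff _ _ _).1 e
    · exact (Submodule.restrictScalars_eq_top_iff _ _ _).1 e
  have := Fintype.ofFinite V
  obtain ⟨r, hr⟩ := jacobson_density (R := envA σ N) (M := V)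
    { toFun := T
      map_add' := T.map_add
      map_smul' := fun S x => DFunLike.congr_fun (hT (S.restrictScalars F) fun n hn =>
        LinearMap.ext fun y => S.map_smul ⟨_, mem_envA hn⟩ y) x } Finset.univ
  rw [show T = r from LinearMap.ext fun x => hr x (Finset.mem_univ x)]
  exact r.2

end H25
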