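import Cfsg.Agent.H25.Hup2
import Cfsg.Agent.H25.Zsig
import Cfsg.Agent.H17.PGen
import Cfsg.Agent.H1.AutP
import Cfsg.Agent.H1.Solvable

/-! Huppert's theorem on solvable linear groups transitive on non-zero vectors. -/

set_option autoImplicit false

namespace H25

open Module Subgroup

universe u

variable {F : Type*} [Field F] {V : Type u} [AddCommGroup V] [Module F V] {G : Type*} [Group G]
  [Finite V] [Nontrivial V]

theorem LTrans.card_dvd {σ : G →* End F V} (ht : LTrans σ) : Nat.card V - 1 ∣ Nat.card G := by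
  letI : MulAction G V := MulAction.compHom V σ
  obtain ⟨v, hv⟩ := exists_ne (0 : V)
  have h1 : MulAction.orbit G v = Set.univ \ {0} := by
    ext w
    exact ⟨by rintro ⟨g, rfl⟩; exact ⟨trivial, rep_ne_zero σ g hv⟩, fun h => ht v w hv h.2⟩
  have := MulAction.index_stabilizer G v
  rw [h1, Set.ncard_diff_singleton_of_mem (Set.mem_univ _), Set.ncard_univ] at this
  exact this ▸ index_dvd_card _

theorem zpowers_eq_of_prime {g a : G} (hp : (orderOf g).Prime) (ha : a ∈ zpowers g) (h1 : a ≠ 1) :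
    zpowers a = zpowers g := by
  have : Finite (zpowers g) := finite_zpowers.2 (orderOf_pos_iff.1 hp.pos)
  exact eq_of_le_of_card_ge (zpowers_le.2 ha) (by
    rw [Nat.card_zpowers, Nat.card_zpowers,
      ((Nat.dvd_prime hp).1 (orderOf_dvd_of_mem_zpowers ha)).resolve_left
        (by rwa [orderOf_eq_one_iff])])

variable {K : Type*} [Field K] [Algebra F K] [Module K V] [IsScalarTower F K V]
  {σ : G →* End F V} {A N : Subgroup G}

theorem ScalF.irr_ppd [Finite G] (hK : ScalF K σ A) (hσ : Function.Injective σ) {g : G}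
    (hg : g ∈ centralizer (A : Set G)) (hl : Ppd (Nat.card K) (finrank K V) (orderOf g)) :
    Irr σ (A ⊔ zpowers g) := by
  letI : MulAction G V := MulAction.compHom V σ
  have : Finite K := finite_scalars K V
  have : Module.Finite K V := Module.Finite.of_finite
  have hd : 0 < finrank K V := finrank_pos
  have hq : 1 ≤ Nat.card K := Nat.card_pos
  let U : Submodule K V :=
    { carrier := {v | σ g v = v}
      add_mem' := fun {a b} (ha : _ = _) (hb : _ = _) => (map_add _ a b).trans (by rw [ha, hb])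
      zero_mem' := map_zero _
      smul_mem' := fun k v (hv : _ = _) => (hK.map_smul hg k v).trans (by rw [hv]) }
  have key : ∀ W : Submodule K V, (∀ w ∈ W, σ g w ∈ W) →
      finrank K V ∣ finrank K W - finrank K (W ⊓ U : Submodule K V) := fun W hW => by
    have h1 := H2.card_dvd_of_free (A := zpowers g) ((W : Set V) \ (W ⊓ U : Submodule K V))
      (by
        have : ∀ n : ℕ, ∀ x ∈ W, σ (g ^ n) x ∈ W := fun n x hx => by
          induction n with
          | zero => simpa using hx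
          | succ n ih => rw [pow_succ', map_mul]; exact hW _ ih
        rintro ⟨a, ha⟩ x ⟨h1, h2⟩
        obtain ⟨n, rfl⟩ := mem_powers_iff_mem_zpowers.2 ha
        refine ⟨this n x h1, fun h3 => h2 ⟨h1, rep_injective σ (g ^ n) ?_⟩⟩
        rw [← End.mul_apply, ← map_mul, ← pow_succ, pow_succ', map_mul]
        exact h3.2)
      fun a x hx e => by
        by_contra h1
        have : g ∈ MulAction.stabilizer G x :=
          (zpowers_le.2 (show (a : G) ∈ MulAction.stabilizer G x from e))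
            ((zpowers_eq_of_prime hl.1 a.2 fun e => h1 (Subtype.ext e)).ge (mem_zpowers g))
        exact hx.2 ⟨hx.1, this⟩
    rw [Nat.card_zpowers, Nat.card_coe_set_eq, Set.ncard_diff (by exact inf_le_left),
      ← Nat.card_coe_set_eq, ← Nat.card_coe_set_eq, SetLike.coe_sort_coe, SetLike.coe_sort_coe,
      natCard_eq_pow_finrank (K := K) (V := W),
      natCard_eq_pow_finrank (K := K) (V := (W ⊓ U : Submodule K V))] at h1
    obtain ⟨k, hk⟩ := Nat.exists_eq_add_of_le
      (Submodule.finrank_mono (inf_le_left : W ⊓ U ≤ W))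
    rw [hk, pow_add, ← Nat.mul_sub_one] at h1
    rw [hk, Nat.add_sub_cancel_left, ← ((ppd_iff hq hd).1 hl).2, ← dvd_pow_sub_one_iff hq]
    refine ((Nat.Prime.dvd_mul hl.1).1 h1).resolve_left fun h2 => hl.1.one_lt.ne' ?_
    exact Nat.eq_one_of_dvd_coprimes ((Nat.coprime_self_sub_right (Nat.one_le_pow _ _ hq)).2
      (Nat.coprime_one_right _)) ((hl.1.dvd_of_dvd_pow h2).trans (dvd_pow_self _ hd.ne')) hl.2.1
  have hU : U = ⊥ := by
    have h1 := key ⊤ fun _ _ => trivial
    rw [finrank_top, top_inf_eq] at h1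
    by_contra h2
    have h3 : 0 < finrank K U := by
      have := Submodule.nontrivial_iff_ne_bot.2 h2
      exact finrank_pos
    have h4 : U = ⊤ := Submodule.eq_top_of_finrank_eq (by
      have := Nat.eq_zero_of_dvd_of_lt h1 (by omega)
      have := U.finrank_le
      omega)
    have h5 : g = 1 := hσ (LinearMap.ext fun v => by
      rw [map_one]; exact h4.ge (Submodule.mem_top (x := v)))
    exact hl.1.one_lt.ne' (by rw [h5, orderOf_one])
  intro W hW
  let W' : Submodule K V :=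
    { W with
      smul_mem' := fun k _ hv =>
        envA_apply_mem (fun n hn => hW n (mem_sup_left hn)) (hK.lsmul_mem k) hv }
  have h1 := key W' (hW g (mem_sup_right (mem_zpowers g)))
  rw [hU, inf_bot_eq, finrank_bot, Nat.sub_zero] at h1
  by_cases h2 : finrank K W' = 0
  · exact Or.inl (SetLike.ext fun x => SetLike.ext_iff.1 (Submodule.finrank_eq_zero.1 h2) x)
  · exact Or.inr (SetLike.ext fun x => SetLike.ext_iff.1 (Submodule.eq_top_of_finrank_eq
      (le_antisymm W'.finrank_le (Nat.le_of_dvd (Nat.pos_of_ne_zero h2) h1))) x)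

theorem ScalF.not_centralizer_le [Finite G] (hK : ScalF K σ A) [A.Normal]
    (hσ : Function.Injective σ) (ht : LTrans σ) (hI : ¬ Irr σ A) :
    ¬ centralizer (A : Set G) ≤ A := fun h => by
  have : Finite K := finite_scalars K V
  have : Finite F := Finite.of_injective _ (algebraMap F K).injective
  have : Module.Finite K V := Module.Finite.of_finite
  have : Module.Finite F K := Module.Finite.of_finite
  have h1 := Nat.le_of_dvd Nat.card_pos ht.card_dvd
  have h2 := Nat.le_of_dvd finrank_pos ((index_dvd_of_le h).trans (hK.index_centralizer_dvd hσ))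
  have h3 : 1 < Nat.card K := Finite.one_lt_card
  have h4 := Nat.le_of_dvd (by omega) (hK.card_dvd hσ)
  have h5 : finrank F K < Nat.card K := by
    rw [natCard_eq_pow_finrank (K := F)]; exact Nat.lt_pow_self Finite.one_lt_card
  have h6 : 2 ≤ finrank K V := by
    have : finrank K V ≠ 1 := fun e => hI (hK.irr_of_finrank e)
    have : 0 < finrank K V := finrank_pos
    omega
  have h7 := Nat.pow_le_pow_right h3.le h6
  rw [← A.card_mul_index, natCard_eq_pow_finrank (K := K)] at h1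
  have h8 := Nat.mul_le_mul h4 (h2.trans h5.le)
  obtain ⟨q, hq⟩ := Nat.exists_eq_add_of_lt h3
  rw [hq] at h1 h7 h8
  simp only [Nat.add_sub_cancel] at h8
  have := Nat.sub_le_iff_le_add.1 h1
  nlinarith

theorem ScalF.semilinear {p : ℕ} [Fact p.Prime] [Module (ZMod p) V] [Algebra (ZMod p) K]
    [IsScalarTower (ZMod p) K V] {σ : G →* End (ZMod p) V} (hK : ScalF K σ A) [A.Normal]
    (hI : Irr σ A) : ∃ n, n ≠ 0 ∧ Nat.card V = p ^ n ∧ ∃ e : V ≃+ GaloisField p n,
      ∀ g, ∃ (a : GaloisField p n) (τ : GaloisField p n ≃+* GaloisField p n),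
        ∀ v, e (σ g v) = a * τ (e v) := by
  have : Finite K := finite_scalars K V
  have : Module.Finite (ZMod p) K := Module.Finite.of_finite
  have h1 : Nat.card K = p ^ finrank (ZMod p) K := by
    rw [natCard_eq_pow_finrank (K := ZMod p), Nat.card_zmod]
  obtain ⟨φ, hφ⟩ := hK.exists_galois
  obtain ⟨v, hv⟩ := exists_ne (0 : V)
  let b := LinearEquiv.ofBijective (LinearMap.toSpanSingleton K V v)
    ⟨smul_left_injective K hv, fun w =>
      (finrank_eq_one_iff_of_nonzero' v hv).1 (hK.finrank_of_irr hI) w⟩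
  let c := GaloisField.algEquivGaloisField p _ h1
  refine ⟨_, finrank_pos.ne', (Nat.card_congr b.toEquiv).symm.trans h1,
    b.symm.toAddEquiv.trans c.toAddEquiv, fun g =>
      ⟨c (b.symm (σ g v)), (c.symm.trans ((φ g).trans c)).toRingEquiv, fun w => ?_⟩⟩
  obtain ⟨k, rfl⟩ := b.surjective w
  change c (b.symm (σ g (k • v))) = _ * c (φ g (c.symm (c (b.symm (b k)))))
  rw [hφ, LinearEquiv.map_smul, smul_eq_mul, map_mul, mul_comm, c.symm_apply_apply,
    b.symm_apply_apply]

/-- The configuration of Huppert's theorem. -/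
structure Hup (K : Type*) [Field K] [Module K V] (σ : G →* End F V) (A N : Subgroup G) (r : ℕ) :
    Prop where
  inj : Function.Injective σ
  sc : ScalF K σ A
  nA : A.Normal
  nN : N.Normal
  le : A ≤ N
  ncomm : ¬ IsMulCommutative N
  irr : Irr σ N
  cen : N ≤ centralizer (A : Set G)
  comm : ∀ x ∈ N, ∀ y ∈ N, y * x * y⁻¹ * x⁻¹ ∈ A
  cN : centralizer (N : Set G) ≤ A
  prime : r.Prime
  pow : ∀ x ∈ N, x ^ r ∈ A

omit [Finite V] [Nontrivial V] in
theorem centralizer_le_of_max [Finite V] (hσ : Function.Injective σ) [N.Normal] (hI : Irr σ N)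
    (hN : N ≤ centralizer (A : Set G))
    (hmax : ∀ B : Subgroup G, B.Normal → IsMulCommutative B → A ≤ B → B = A) :
    centralizer (N : Set G) = A :=
  hmax _ inferInstance (hI.centralizer_comm hσ) (le_centralizer_iff.1 hN)

theorem exists_hup [Finite G] [Group.IsSolvable G] (hσ : Function.Injective σ) (ht : LTrans σ)
    [A.Normal] (hA : IsMulCommutative A) (hK : ScalF K σ A) (hI : ¬ Irr σ A)
    (hmax : ∀ B : Subgroup G, B.Normal → IsMulCommutative B → A ≤ B → B = A) :
    ∃ N r, Hup K σ A N r := by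
  have h1 := hK.not_centralizer_le hσ ht hI
  have h2 : A ≤ centralizer (A : Set G) := le_centralizer A
  have := (normal_centralizer (H := A)).map _ (QuotientGroup.mk'_surjective A)
  obtain ⟨M, r, hM, h3, h4, h5, h6, h7, -⟩ := H1.exists_minimal_normal_elementary
    ((centralizer (A : Set G)).map (QuotientGroup.mk' A)) inferInstance
    (by rwa [Ne, Subgroup.map_eq_bot_iff, QuotientGroup.ker_mk'])
  have a1 : A ≤ M.comap (QuotientGroup.mk' A) := QuotientGroup.le_comap_mk' A M
  have a2 : ¬ IsMulCommutative (M.comap (QuotientGroup.mk' A)) := fun h => h3 (by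
    rw [← map_comap_eq_self_of_surjective (QuotientGroup.mk'_surjective A) M,
      hmax _ inferInstance h a1, Subgroup.map_eq_bot_iff, QuotientGroup.ker_mk'])
  have a3 : M.comap (QuotientGroup.mk' A) ≤ centralizer (A : Set G) :=
    (comap_mono h4).trans (by rw [comap_map_eq, QuotientGroup.ker_mk', sup_of_le_left h2])
  have a4 := ht.irr_of_not_comm hσ a2
  refine ⟨_, r, hσ, hK, inferInstance, inferInstance, a1, a2, a4, a3, fun x hx y hy => ?_,
    (centralizer_le_of_max hσ a4 a3 hmax).le, h5, fun x hx => ?_⟩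
  · rw [← QuotientGroup.eq_one_iff]
    change QuotientGroup.mk' A y * QuotientGroup.mk' A x * (QuotientGroup.mk' A y)⁻¹ *
      (QuotientGroup.mk' A x)⁻¹ = 1
    rw [setLike_mul_comm (mem_comap.1 hy) (mem_comap.1 hx)]; group
  · rw [← QuotientGroup.eq_one_iff]
    exact h7 _ hx

omit [Finite V] [Nontrivial V] in
theorem conj_pow_of_comm {g x c : G} (h : g * x * g⁻¹ = c * x) (hc : Commute c g) (n : ℕ) :
    g ^ n * x * (g ^ n)⁻¹ = c ^ n * x := by
  induction n with
  | zero => simp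
  | succ n ih =>
    calc _ = g * (g ^ n * x * (g ^ n)⁻¹) * g⁻¹ := by rw [pow_succ']; group
      _ = c ^ n * (g * x * g⁻¹) := by rw [ih, ← mul_assoc, ← (hc.pow_left n).eq]; group
      _ = _ := by rw [pow_succ, h, mul_assoc]

namespace Hup

variable [Finite G] {r : ℕ} (h : Hup K σ A N r)
include h

omit [Finite V] [Nontrivial V] [Algebra F K] [IsScalarTower F K V] in
theorem dvd_card : r ∣ Nat.card A := by
  obtain ⟨x, hx, y, hy, h1⟩ : ∃ x ∈ N, ∃ y ∈ N, y * x * y⁻¹ * x⁻¹ ≠ 1 := by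
    by_contra h1
    push Not at h1
    exact h.ncomm ⟨⟨fun a b => Subtype.ext (mul_inv_eq_iff_eq_mul.1
      (mul_inv_eq_one.1 (h1 b b.2 a a.2)))⟩⟩
  have h2 := conj_pow_of_comm (inv_mul_cancel_right (y * x * y⁻¹) x).symm
    (h.cen hy _ (h.comm x hx y hy)) r
  rw [h.cen hx _ (h.pow y hy), mul_inv_cancel_right, right_eq_mul] at h2
  have := Fact.mk h.prime
  rw [← orderOf_eq_prime h2 h1]
  exact A.orderOf_dvd_natCard (h.comm x hx y hy)

omit [Finite V] [Nontrivial V] [Algebra F K] [IsScalarTower F K V] in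
theorem exists_relIndex : ∃ j, 0 < j ∧ A.relIndex N = r ^ j := by
  have := Fact.mk h.prime
  have := h.nA
  obtain ⟨j, hj⟩ := IsPGroup.iff_card.1 (show IsPGroup r (N ⧸ A.subgroupOf N) from fun x => by
    obtain ⟨x, rfl⟩ := QuotientGroup.mk_surjective x
    exact ⟨1, by rw [pow_one]; exact (QuotientGroup.eq_one_iff _).2 (h.pow x x.2)⟩)
  refine ⟨j, Nat.pos_of_ne_zero ?_, hj⟩
  rintro rfl
  exact h.ncomm ⟨⟨fun a b => Subtype.ext (h.cen b.2 _ (relIndex_eq_one.1 hj a.2))⟩⟩

theorem finrank_sq : finrank K V ^ 2 = A.relIndex N := by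
  have : Finite K := finite_scalars K V
  refine (h.sc.finrank_sq h.inj h.le h.cen h.comm (fun x _ hx => h.cN hx) ?_ h.irr).2
  have h1 : ∀ n : ℕ, n ∣ Nat.card K - 1 → (n : F) ≠ 0 := fun n ⟨m, hm⟩ e => by
    have := Fintype.ofFinite K
    have h2 : ((Nat.card K - 1 : ℕ) : K) = 0 := by
      rw [hm, Nat.cast_mul, ← map_natCast (algebraMap F K), e, map_zero, zero_mul]
    rw [Nat.cast_sub Nat.card_pos, Nat.card_eq_fintype_card, FiniteField.cast_card_eq_zero] at h2
    simp at h2
  obtain ⟨j, -, hj⟩ := h.exists_relIndex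
  have h2 := h.sc.card_dvd h.inj
  rw [← (A.subgroupOf N).card_mul_index, Nat.card_congr (subgroupOfEquivOfLe h.le).toEquiv,
    ← relIndex, hj, Nat.cast_mul, Nat.cast_pow]
  exact mul_ne_zero (h1 _ h2) (pow_ne_zero _ (h1 _ (h.dvd_card.trans h2)))

theorem one_lt_finrank : 1 < finrank K V := by
  obtain ⟨j, h0, hj⟩ := h.exists_relIndex
  rw [← h.finrank_sq] at hj
  exact (one_lt_pow_iff_of_nonneg (Nat.zero_le _) two_ne_zero).1
    (hj ▸ Nat.one_lt_pow h0.ne' h.prime.one_lt)

theorem fpf {g : G} (hg : g ∈ centralizer (A : Set G))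
    (hl : Ppd (Nat.card K) (finrank K V) (orderOf g)) {x : G} (hx : x ∈ N)
    (hgx : g * x * g⁻¹ * x⁻¹ ∈ A) : x ∈ A := by
  have h1 : ∀ c ∈ A, c ^ orderOf g = 1 → c = 1 := fun c hc e =>
    orderOf_eq_one_iff.1 (((Nat.dvd_prime hl.1).1 (orderOf_dvd_of_pow_eq_one e)).resolve_right
      fun e => hl.2.2 1 one_pos h.one_lt_finrank (by
        rw [pow_one, ← e]; exact (A.orderOf_dvd_natCard hc).trans (h.sc.card_dvd h.inj)))
  have h2 : ∀ u ∈ N, g * u * g⁻¹ * u⁻¹ ∈ A → u ∈ centralizer (A ⊔ zpowers g : Subgroup G) :=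
    fun u hu hc => by
      have e := conj_pow_of_comm (inv_mul_cancel_right (g * u * g⁻¹) u).symm (hg _ hc) (orderOf g)
      rw [pow_orderOf_eq_one, inv_one, one_mul, mul_one, right_eq_mul] at e
      refine zpowers_le.1 (le_centralizer_iff.1 (sup_le (le_centralizer_iff.1 (zpowers_le.2
        (h.cen hu))) (zpowers_le.2 ?_)))
      rintro _ ⟨k, rfl⟩
      exact (Commute.zpow_right (mul_inv_eq_iff_eq_mul.1 (mul_inv_eq_one.1 (h1 _ hc e))) k).symm
  have h3 := (h.sc.irr_ppd h.inj hg hl).centralizer_comm h.inj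
  have h4 : Commute g x := h2 x hx hgx g (mem_sup_right (mem_zpowers g))
  refine h.cN fun y hy => ?_
  have := h.nN
  have h5 : (y * g) ^ orderOf g ∈ N := by
    rw [← QuotientGroup.eq_one_iff, QuotientGroup.mk_pow, QuotientGroup.mk_mul,
      (QuotientGroup.eq_one_iff y).2 hy, one_mul, ← QuotientGroup.mk_pow, pow_orderOf_eq_one,
      QuotientGroup.mk_one]
  have h6 := h2 _ h5 (by
    have := h.comm _ h5 _ (inv_mem hy)
    rwa [show y⁻¹ * (y * g) ^ orderOf g * y⁻¹⁻¹ = g * (y * g) ^ orderOf g * g⁻¹ by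
      rw [← conj_pow, ← conj_pow]; congr 1; group] at this)
  have h7 : x * (y * g) * x⁻¹ = x * y * x⁻¹ * y⁻¹ * (y * g) := by
    rw [mul_assoc x, mul_assoc y, h4.inv_right.eq]; group
  have h8 := congrArg (· ^ orderOf g) h7
  have h9 : Commute (x * y * x⁻¹ * y⁻¹) (y * g) :=
    Commute.mul_right (h.cen hy _ (h.comm y hy x hx)) (hg _ (h.comm y hy x hx))
  simp only [conj_pow, h9.mul_pow] at h8
  rw [setLike_mul_comm (h2 x hx hgx) h6, mul_inv_cancel_right, right_eq_mul] at h8
  exact (mul_inv_eq_iff_eq_mul.1 (mul_inv_eq_one.1 (h1 _ (h.comm y hy x hx) h8))).symm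

theorem ppd_dvd {l k : ℕ} (hl : Ppd (Nat.card K) (finrank K V) l) (ha : ¬ l ∣ finrank F K)
    (hk : l ^ k ∣ Nat.card G) : l ^ k ∣ finrank K V ^ 2 - 1 := by
  have := Fact.mk hl.1
  have := h.nA
  have := h.nN
  obtain ⟨P, hP⟩ := Sylow.exists_subgroup_card_pow_prime l hk
  have h1 : P ≤ centralizer (A : Set G) := by
    rw [← relIndex_eq_one]
    exact Nat.eq_one_of_dvd_coprimes ((hl.1.coprime_iff_not_dvd.2 ha).pow_left k)
      (hP ▸ relIndex_dvd_card _ _)
      ((relIndex_dvd_index_of_normal _ _).trans (h.sc.index_centralizer_dvd h.inj))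
  have h2 : ¬ l ∣ Nat.card A := fun e => hl.2.2 1 one_pos h.one_lt_finrank (by
    rw [pow_one]; exact e.trans (h.sc.card_dvd h.inj))
  have h3 : Disjoint P A := disjoint_iff.2 (inf_eq_bot_of_coprime
    (hP ▸ (hl.1.coprime_iff_not_dvd.2 h2).pow_left k))
  have := (inferInstance : N.Normal).map _ (QuotientGroup.mk'_surjective A)
  have h4 := H17.card_dvd_sub_one_of_fpf (A := P.map (QuotientGroup.mk' A))
    (N := N.map (QuotientGroup.mk' A)) le_normalizer_of_normal (by
      rintro _ ⟨g, hg, rfl⟩ hg1 _ ⟨x, hx, rfl⟩ e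
      obtain ⟨m, -, hm⟩ := (Nat.dvd_prime_pow hl.1).1 (hP ▸ P.orderOf_dvd_natCard hg)
      rcases m with _ | m
      · exact (hg1 (by rw [orderOf_eq_one_iff.1 hm, map_one])).elim
      refine (QuotientGroup.eq_one_iff x).2 (h.fpf (g := g ^ l ^ m) (pow_mem (h1 hg) _) ?_ hx ?_)
      · rwa [orderOf_pow' _ (pow_ne_zero _ hl.1.ne_zero), hm, Nat.gcd_eq_right (pow_dvd_pow _ m.le_succ),
          pow_succ', Nat.mul_div_cancel _ (pow_pos hl.1.pos _)]
      · rw [← QuotientGroup.eq_one_iff]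
        change QuotientGroup.mk' A _ = 1
        rw [map_mul, map_mul, map_mul, map_inv, map_inv, map_pow,
          ← (Commute.pow_right e _).eq]
        group)
  rwa [← relIndex_ker, ← relIndex_ker, QuotientGroup.ker_mk', ← h.finrank_sq, ← inf_relIndex_right,
    disjoint_iff.1 h3.symm, relIndex_bot_left, hP] at h4

theorem index_le (h4 : A.relIndex N = 4) (hr : r = 2) (hC : centralizer (A : Set G) = ⊤) :
    A.index ≤ 24 := by
  subst hr
  have := h.nA
  have := h.nN
  have := (inferInstance : N.Normal).map _ (QuotientGroup.mk'_surjective A)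
  let φ := (MulAut.conjNormal (H := N.map (QuotientGroup.mk' A))).comp (QuotientGroup.mk' A)
  have h1 : φ.ker.index ∣ 6 := by
    rw [index_ker]
    refine (card_subgroup_dvd_card _).trans (H1.card_mulAut_elab_dvd (p := 2) (r := 2) ⟨⟨?_⟩⟩ ?_
      (by rw [← relIndex_ker, QuotientGroup.ker_mk', h4]; rfl))
    · rintro ⟨_, x, hx, rfl⟩ ⟨_, y, hy, rfl⟩
      exact Subtype.ext (mul_inv_eq_iff_eq_mul.1 (mul_inv_eq_one.1
        ((QuotientGroup.eq_one_iff _).2 (h.comm y hy x hx))))
    · rintro ⟨_, x, hx, rfl⟩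
      exact Subtype.ext ((QuotientGroup.eq_one_iff _).2 (h.pow x hx))
  have h2 : ∀ g ∈ φ.ker, ∀ y : N, g * y * g⁻¹ * (y : G)⁻¹ ∈ A := fun g hg y =>
    (QuotientGroup.eq_one_iff _).1 (by
      rw [QuotientGroup.mk_mul, QuotientGroup.mk_inv, mul_inv_eq_one]
      exact congrArg Subtype.val (DFunLike.congr_fun hg ⟨_, y, y.2, rfl⟩))
  have h3 : ∀ a ∈ A, ∀ g, a * g = g * a := fun a ha g => hC.ge (mem_top g) a ha
  obtain ⟨κ, hκ, -⟩ := h.sc.exists_units h.inj
  let c : φ.ker → N →* A := fun g => MonoidHom.mk' (fun y => ⟨_, h2 g g.2 y⟩) fun y z =>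
    Subtype.ext (by
      change (g : G) * (y * z) * _ * ((y : G) * z)⁻¹ = _ * _
      rw [mul_assoc _ _ (_ * _), ← h3 _ (h2 g g.2 z)]; group)
  let χ : φ.ker → N ⧸ A.subgroupOf N →* K := fun g => QuotientGroup.lift _
    ((Units.coeHom K).comp (κ.comp (c g))) fun y hy => by
      rw [MonoidHom.mem_ker, MonoidHom.comp_apply, MonoidHom.comp_apply,
        show c g y = 1 from Subtype.ext (by
          change _ * _ = 1
          rw [← h3 y hy]; group), map_one, map_one]
  have h5 : Function.Injective fun i : φ.ker ⧸ A.subgroupOf φ.ker => χ i.out := fun i j e => by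
    rw [← i.out_eq, ← j.out_eq, QuotientGroup.eq]
    refine h.cN fun y hy => ?_
    have := mul_right_cancel (congrArg Subtype.val
      (hκ (Units.ext (DFunLike.congr_fun e (QuotientGroup.mk ⟨y, hy⟩)))))
    change y * ((i.out : G)⁻¹ * j.out) = (i.out : G)⁻¹ * j.out * y
    calc _ = (i.out : G)⁻¹ * (i.out * y * (i.out : G)⁻¹) * j.out := by group
      _ = _ := by rw [this]; group
  have := Fintype.ofFinite (N ⧸ A.subgroupOf N)
  have := Fintype.ofFinite (φ.ker ⧸ A.subgroupOf φ.ker)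
  have h6 := ((linearIndependent_monoidHom _ K).comp _ h5).fintype_card_le_finrank
  rw [finrank_pi, ← Nat.card_eq_fintype_card, ← Nat.card_eq_fintype_card] at h6
  have h7 : A ≤ φ.ker := fun a ha => by
    rw [MonoidHom.mem_ker, MonoidHom.comp_apply, QuotientGroup.mk'_apply,
      (QuotientGroup.eq_one_iff a).2 ha, map_one]
  rw [← relIndex_mul_index h7]
  exact Nat.mul_le_mul (h6.trans h4.le) (Nat.le_of_dvd (by norm_num) h1)

end Hup

theorem Ppd.pow {p a d l : ℕ} (ha : 0 < a) (h : Ppd p (a * d) l) : Ppd (p ^ a) d l :=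
  ⟨h.1, pow_mul p a d ▸ h.2.1, fun k h0 hk =>
    pow_mul p a k ▸ h.2.2 _ (Nat.mul_pos ha h0) ((Nat.mul_lt_mul_left ha).2 hk)⟩

theorem hup_arith {p a d r j : ℕ} (hp : p.Prime) (ha : 0 < a) (hd : 1 < d) (hr : r.Prime)
    (hj : d ^ 2 = r ^ j) (hrq : r ∣ p ^ a - 1)
    (h : ∀ l k, Ppd (p ^ a) d l → ¬ l ∣ a → l ^ k ∣ p ^ (a * d) - 1 → l ^ k ∣ d ^ 2 - 1) :
    a = 1 ∧ r = 2 ∧ (d = 2 ∨ (d = 4 ∧ p = 3)) := by
  obtain ⟨i, -, hi⟩ := (Nat.dvd_prime_pow hr).1 (hj ▸ dvd_pow_self d two_ne_zero : d ∣ r ^ j)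
  have hrd : r ∣ d := hi ▸ dvd_pow_self r (by rintro rfl; simp at hi; omega)
  have h1 : ∀ s, s.Prime → s ∣ d → s = r := fun s hs e =>
    (Nat.prime_dvd_prime_iff_eq hs hr).1 (hs.dvd_of_dvd_pow (hi ▸ e))
  have h6 : d ≠ 6 := by
    rintro rfl
    have := (h1 2 Nat.prime_two (by norm_num)).trans (h1 3 Nat.prime_three (by norm_num)).symm
    omega
  have hda : d ≤ a * d := Nat.le_mul_of_pos_left d ha
  have key : ∀ l, Ppd p (a * d) l → a = 1 ∧ l = d + 1 ∧ ¬ l ^ 2 ∣ p ^ (a * d) - 1 := fun l hl => by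
    have h2 := hl.lt hp.pos (by omega)
    have h3 : ¬ l ∣ a := fun e => by
      have := Nat.le_of_dvd ha e; have := Nat.le_mul_of_pos_right a (by omega : 0 < d); omega
    have h4 := h l 1 (hl.pow ha) h3 (by rw [pow_one]; exact hl.2.1)
    rw [pow_one, ← one_pow 2, Nat.sq_sub_sq] at h4
    have h5 : l ≤ d + 1 := ((Nat.Prime.dvd_mul hl.1).1 h4).elim (Nat.le_of_dvd (by omega))
      fun e => (Nat.le_of_dvd (by omega) e).trans (by omega)
    refine ⟨by nlinarith, by omega, fun e => ?_⟩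
    have := Nat.le_of_dvd (Nat.sub_pos_of_lt (by nlinarith)) (h l 2 (hl.pow ha) h3 e)
    have h7 : d < l := by omega
    have := Nat.pow_lt_pow_left h7 two_ne_zero
    omega
  by_cases h2 : a * d = 2
  · have : d = 2 := by omega
    subst this
    exact ⟨by omega, (h1 2 Nat.prime_two dvd_rfl).symm, Or.inl rfl⟩
  by_cases h3 : p = 2 ∧ a * d = 6
  · obtain ⟨rfl, h3⟩ := h3
    have : d ≤ 6 := by omega
    interval_cases d
    · obtain rfl : a = 3 := by omega
      rw [← h1 2 Nat.prime_two dvd_rfl] at hrq; omega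
    · obtain rfl : a = 2 := by omega
      exact absurd (h 7 1 ⟨by norm_num, by norm_num, fun k h0 hk => by
        interval_cases k <;> norm_num⟩ (by norm_num) (by norm_num)) (by norm_num)
    all_goals omega
  obtain ⟨l, hl⟩ := zsigmondy hp.two_le (by omega) h3 fun e => h2 e.1
  obtain ⟨rfl, -⟩ := key l hl
  rw [one_mul] at *
  have h4 : p ≠ 2 := by rintro rfl; exact hr.one_lt.ne' (by simpa using hrq)
  by_cases h5 : p = 3 ∧ d = 4
  · exact ⟨rfl, (h1 2 Nat.prime_two (by omega)).symm, Or.inr h5.symm⟩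
  obtain ⟨l, hl, h7⟩ := exists_large_ppd (q := p) (n := d) hp.two_le (by omega) (by omega)
    (by omega) (by omega)
  obtain ⟨-, h8, h9⟩ := key l hl
  exact (h7.elim (by omega) h9).elim

theorem Hup.card_cases {p : ℕ} [hp : Fact p.Prime] [Module (ZMod p) V] [Algebra (ZMod p) K]
    [IsScalarTower (ZMod p) K V] {σ : G →* End (ZMod p) V} [Finite G] {r : ℕ} (h : Hup K σ A N r)
    (ht : LTrans σ) : r = 2 ∧ centralizer (A : Set G) = ⊤ ∧ Nat.card A ∣ p - 1 ∧
      ((A.relIndex N = 16 ∧ Nat.card V = 81) ∨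
      (A.relIndex N = 4 ∧ Nat.card V = p ^ 2 ∧ p ∈ ({3, 5, 7, 11, 23} : Set ℕ))) := by
  have : Finite K := finite_scalars K V
  have : Module.Finite (ZMod p) K := Module.Finite.of_finite
  have h1 : Nat.card K = p ^ finrank (ZMod p) K := by
    rw [natCard_eq_pow_finrank (K := ZMod p), Nat.card_zmod]
  have h2 : Nat.card V = p ^ (finrank (ZMod p) K * finrank K V) := by
    rw [natCard_eq_pow_finrank (K := K), h1, pow_mul]
  have h3 := h.sc.card_dvd h.inj
  have h4 := ht.card_dvd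
  have h5 := fun {l k} => h.ppd_dvd (l := l) (k := k)
  have h6 := h.finrank_sq
  have h7 := h.nA
  have h8 := h.sc.index_centralizer_dvd h.inj
  have h9 := h.dvd_card.trans h3
  obtain ⟨j, -, hj⟩ := h.exists_relIndex
  rw [h1] at h3 h5 h9
  rw [h2] at h4
  obtain ⟨e1, e2, e3⟩ := hup_arith hp.out finrank_pos h.one_lt_finrank h.prime (h6.trans hj) h9
    fun l k hl ha e => h5 hl ha (e.trans h4)
  rw [e1, one_mul] at h2 h4
  rw [e1, pow_one] at h3 h5 h9
  rw [e1, Nat.dvd_one, index_eq_one] at h8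
  refine ⟨e2, h8, h3, ?_⟩
  rcases e3 with e3 | ⟨e3, rfl⟩
  · rw [e3] at h2 h4 h5 h6
    refine Or.inr ⟨h6.symm, h2, ?_⟩
    have h10 := h.index_le h6.symm e2 h8
    have h11 : p + 1 ∣ A.index := by
      refine Nat.dvd_of_mul_dvd_mul_left (Nat.sub_pos_of_lt hp.out.one_lt) ?_
      rw [mul_comm, ← Nat.sq_sub_sq, one_pow]
      exact h4.trans (A.card_mul_index ▸ Nat.mul_dvd_mul_right h3 _)
    have h12 := (Nat.le_of_dvd (Nat.pos_of_ne_zero index_ne_zero_of_finite) h11).trans h10
    have h13 : ∀ l k, l.Prime → l ≠ 2 → l ^ (k + 1) ∣ p + 1 → l ^ (k + 1) ∣ 3 := fun l k hl h2 e =>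
      h5 (exists_ppd_two hp.out.two_le hl h2 ((dvd_pow_self l k.succ_ne_zero).trans e))
        hl.not_dvd_one (e.trans (h11.trans A.index_dvd_card))
    have h14 := h13 5 0 (by norm_num) (by norm_num)
    have h15 := h13 7 0 (by norm_num) (by norm_num)
    have h16 := h13 3 1 (by norm_num) (by norm_num)
    have := hp.out
    rw [e2] at h9
    have : p ≤ 23 := by omega
    interval_cases p <;> simp_all (decide := true)
  · rw [e3] at h2 h6
    exact Or.inl ⟨h6.symm, h2⟩

omit [Finite V] [Nontrivial V] in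
theorem exists_max_abelian_normal [Finite G] : ∃ A : Subgroup G, A.Normal ∧ IsMulCommutative A ∧
    ∀ B : Subgroup G, B.Normal → IsMulCommutative B → A ≤ B → B = A := by
  obtain ⟨A, ⟨h1, h2⟩, h3⟩ := wellFounded_gt.has_min
    {A : Subgroup G | A.Normal ∧ IsMulCommutative A} ⟨⊥, inferInstance, inferInstance⟩
  exact ⟨A, h1, h2, fun B h4 h5 h6 => (h6.eq_or_lt.resolve_right (h3 B ⟨h4, h5⟩)).symm⟩

/-- Huppert's theorem. -/
theorem huppert {p : ℕ} [Fact p.Prime] [Module (ZMod p) V] {σ : G →* End (ZMod p) V} [Finite G]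
    [Group.IsSolvable G] (hσ : Function.Injective σ) (ht : LTrans σ) :
    (∃ n, n ≠ 0 ∧ Nat.card V = p ^ n ∧ ∃ e : V ≃+ GaloisField p n,
      ∀ g, ∃ (a : GaloisField p n) (τ : GaloisField p n ≃+* GaloisField p n),
        ∀ v, e (σ g v) = a * τ (e v)) ∨
    ∃ (K : Type u) (_ : Field K) (_ : Algebra (ZMod p) K) (_ : Module K V)
      (_ : IsScalarTower (ZMod p) K V) (A N : Subgroup G) (r : ℕ), Hup K σ A N r ∧
      ∀ B : Subgroup G, B.Normal → IsMulCommutative B → A ≤ B → B = A := by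
  obtain ⟨A, h1, h2, h3⟩ := exists_max_abelian_normal (G := G)
  obtain ⟨K, _, _, _, _, hK⟩ := exists_scalar_field _ (ht.inj_of_comm h2)
  by_cases hI : Irr σ A
  · exact Or.inl (ScalF.semilinear hK hI)
  · obtain ⟨N, r, h⟩ := exists_hup hσ ht h2 hK hI h3
    exact Or.inr ⟨K, _, _, _, inferInstance, A, N, r, h, h3⟩

end H25
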