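import Cfsg.Agent.H25.Prim
import Cfsg.Agent.H25.Basic
import Cfsg.Agent.H25.Stab

/-! Jordan sets. -/

set_option autoImplicit false

namespace H25

open MulAction SubMulAction
open scoped Pointwise

variable {G α : Type*} [Group G] [MulAction G α]

/-- `Γ` is a Jordan set: the pointwise stabiliser of the complement is transitive on `Γ`. -/
def JSet (G : Type*) {α : Type*} [Group G] [MulAction G α] (Γ : Set α) : Prop :=
  ∀ x ∈ Γ, ∀ y ∈ Γ, ∃ g : G, (∀ z ∉ Γ, g • z = z) ∧ g • x = y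

theorem jSet_iff {Γ : Set α} :
    JSet G Γ ↔ IsPretransitive (fixingSubgroup G Γᶜ) (ofFixingSubgroup G Γᶜ) := by
  rw [fixing_trans_iff]
  exact ⟨fun h a b ha hb => h a (not_not.1 ha) b (not_not.1 hb),
    fun h a ha b hb => h a b (not_not.2 ha) (not_not.2 hb)⟩

theorem JSet.smul {Γ : Set α} (h : JSet G Γ) (k : G) : JSet G (k • Γ) := by
  rintro _ ⟨x, hx, rfl⟩ _ ⟨y, hy, rfl⟩
  obtain ⟨g, hg, rfl⟩ := h x hx y hy
  refine ⟨k * g * k⁻¹, fun z hz => ?_, by simp [mul_smul]⟩
  rw [mul_smul, mul_smul, hg _ (by rwa [← Set.mem_smul_set_iff_inv_smul_mem]), smul_inv_smul]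

theorem JSet.preimage {Γ : Set α} (h : JSet G Γ) (k : G) : JSet G {x | k • x ∈ Γ} := by
  have : {x | k • x ∈ Γ} = k⁻¹ • Γ := by
    ext x; rw [Set.mem_inv_smul_set_iff]; rfl
  rw [this]; exact h.smul _

theorem JSet.union {Γ Γ' : Set α} (h : JSet G Γ) (h' : JSet G Γ') {c : α} (hc : c ∈ Γ)
    (hc' : c ∈ Γ') : JSet G (Γ ∪ Γ') := by
  have key : ∀ x ∈ Γ ∪ Γ', ∃ g : G, (∀ z ∉ Γ ∪ Γ', g • z = z) ∧ g • x = c := by
    rintro x (hx | hx)
    · obtain ⟨g, hg, hg'⟩ := h x hx c hc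
      exact ⟨g, fun z hz => hg z fun h => hz (Or.inl h), hg'⟩
    · obtain ⟨g, hg, hg'⟩ := h' x hx c hc'
      exact ⟨g, fun z hz => hg z fun h => hz (Or.inr h), hg'⟩
  intro x hx y hy
  obtain ⟨g, hg, hg'⟩ := key x hx
  obtain ⟨k, hk, hk'⟩ := key y hy
  refine ⟨k⁻¹ * g, fun z hz => ?_, by rw [mul_smul, hg', ← hk', inv_smul_smul]⟩
  rw [mul_smul, hg z hz, inv_smul_eq_iff, hk z hz]

/-- Jordan: a primitive group with a proper Jordan set is doubly transitive. -/
theorem JSet.two_trans [Finite α] {Γ : Set α} (h : JSet G Γ) (hG : IsPreprimitive G α)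
    (h1 : 1 < Γ.ncard) (h2 : Γ.ncard < Nat.card α) : IsMultiplyPretransitive G α 2 := by
  have e := Set.ncard_add_ncard_compl Γ
  exact hG.is_two_pretransitive (s := Γᶜ) (n := Γᶜ.ncard - 1) (by omega) (by omega) (jSet_iff.1 h)

/-- Counting elements of a doubly transitive group by the image of a pair. -/
theorem ncard_pair_mem [Finite G] (h2 : IsMultiplyPretransitive G α 2) {x y : α} (hxy : x ≠ y)
    (S : Set (α × α)) (hS : ∀ p ∈ S, p.1 ≠ p.2) :
    {g : G | (g • x, g • y) ∈ S}.ncard = S.ncard * Nat.card (stabilizer G (x, y)) := by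
  have hch : ∀ p : S, ∃ g : G, g • (x, y) = p := fun p => by
    obtain ⟨g, hg1, hg2⟩ := is_two_pretransitive_iff.1 h2 hxy (hS p p.2)
    exact ⟨g, Prod.ext hg1 hg2⟩
  choose c hc using hch
  rw [← Nat.card_coe_set_eq, ← Nat.card_coe_set_eq, ← Nat.card_prod]
  symm
  refine Nat.card_congr (Equiv.ofBijective (fun q => ⟨c q.1 * q.2, ?_⟩) ⟨?_, ?_⟩)
  · change (c q.1 * q.2) • (x, y) ∈ S
    rw [mul_smul, q.2.2, hc]; exact q.1.2
  · rintro ⟨p, s⟩ ⟨q, t⟩ h
    have h' : c p * s = c q * t := congrArg Subtype.val h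
    have : p = q := by
      apply Subtype.ext
      rw [← hc p, ← hc q, ← s.2, ← mul_smul, h', mul_smul, t.2, s.2]
    subst this
    rw [Subtype.ext (mul_left_cancel h')]
  · rintro ⟨g, hg⟩
    refine ⟨(⟨g • (x, y), hg⟩, ⟨(c ⟨g • (x, y), hg⟩)⁻¹ * g, ?_⟩), by simp⟩
    rw [mem_stabilizer_iff, mul_smul, inv_smul_eq_iff, hc]

theorem card_stabilizer_pair_eq [Finite G] (h2 : IsMultiplyPretransitive G α 2) {x y u v : α}
    (hxy : x ≠ y) (huv : u ≠ v) :
    Nat.card (stabilizer G (x, y)) = Nat.card (stabilizer G (u, v)) := by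
  obtain ⟨g, hg1, hg2⟩ := is_two_pretransitive_iff.1 h2 hxy huv
  have : (u, v) = g • (x, y) := Prod.ext hg1.symm hg2.symm
  exact Nat.card_congr (stabilizerEquivStabilizer this).toEquiv

theorem ncard_offDiag [Finite α] (Γ : Set α) : Γ.offDiag.ncard = Γ.ncard * (Γ.ncard - 1) := by
  classical
  obtain ⟨s, rfl⟩ := (Set.toFinite Γ).exists_finset_coe
  rw [← Finset.coe_offDiag, Set.ncard_coe_finset, Set.ncard_coe_finset, Finset.offDiag_card,
    Nat.mul_sub_one]

/-- Marggraff: with a Jordan set of at most half the degree the point stabiliser is primitive. -/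
theorem JSet.stab_prim [Finite G] [Finite α] {Γ : Set α} (h : JSet G Γ)
    (h2 : IsMultiplyPretransitive G α 2) (h1 : 1 < Γ.ncard) (hn : 2 * Γ.ncard ≤ Nat.card α)
    (a : α) : IsPreprimitive (stabilizer G a) (ofStabilizer G a) := by
  have hnt : Nontrivial α := Finite.one_lt_card_iff_nontrivial.1 (by omega)
  have htr1 : IsPretransitive G α := by
    rw [← is_one_pretransitive_iff]
    exact isMultiplyPretransitive_of_le one_le_two (by omega)
  have htr : IsPretransitive (stabilizer G a) (ofStabilizer G a) := ⟨fun x y => by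
    obtain ⟨g, hg1, hg2⟩ := is_two_pretransitive_iff.1 h2 (Ne.symm x.2) (Ne.symm y.2)
    exact ⟨⟨g, hg1⟩, Subtype.ext hg2⟩⟩
  refine ⟨fun {B} hB => ?_⟩
  by_contra hnt
  rw [IsTrivialBlock, not_or, Set.not_subsingleton_iff] at hnt
  have hcard := nat_card_ofStabilizer_add_one_eq G a
  have hk : B.ncard * 2 ≤ Nat.card (ofStabilizer G a) := by
    by_contra hlt
    exact hnt.2 (hB.eq_univ_of_card_lt (not_le.1 hlt))
  obtain ⟨x, hx, y, hy, hxy⟩ := hnt.1
  set B' : Set α := Subtype.val '' B with hB'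
  have hB'c : B'.ncard = B.ncard := Set.ncard_image_of_injective _ Subtype.val_injective
  -- dichotomy for conjugates avoiding `a`
  have dich : ∀ g : G, g • a ∉ Γ → ∀ u ∈ B, g • (u : α) ∈ Γ →
      (∀ z, g • z ∈ Γ → z ∈ B') ∨ (∀ z ∈ B, g • (z : α) ∈ Γ) := by
    intro g hga u hu hgu
    rw [or_iff_not_imp_right]
    intro hno z hz
    push Not at hno
    obtain ⟨v, hv, hgv⟩ := hno
    obtain ⟨f, hf, hf'⟩ := h.preimage g u hgu z hz
    let f' : stabilizer G a := ⟨f, hf a hga⟩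
    have e : f' • v = v := Subtype.ext (hf v hgv)
    exact ⟨f' • u, IsBlock.maps hB f' hv (e.symm ▸ hv) hu, hf'⟩
  set s := Nat.card (stabilizer G ((x : α), a)) with hs
  have hs0 : 0 < s := Nat.card_pos
  have count1 : ∀ u v : α, u ≠ v →
      {g : G | (g • u, g • v) ∈ Γ.offDiag}.ncard = Γ.ncard * (Γ.ncard - 1) * s := by
    intro u v huv
    rw [ncard_pair_mem h2 huv _ (fun p hp => hp.2.2), ncard_offDiag,
      card_stabilizer_pair_eq h2 huv x.2]
  by_cases hm : B.ncard < Γ.ncard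
  · have hsub : {g : G | (g • (x : α), g • a) ∈ Γ ×ˢ Γᶜ} ⊆
        {g : G | (g • (x : α), g • (y : α)) ∈ Γ.offDiag} := by
      rintro g ⟨hg1, hg2⟩
      refine ⟨hg1, ?_, fun h => hxy (Subtype.ext (smul_left_cancel g h))⟩
      rcases dich g hg2 x hx hg1 with h3 | h3
      · exfalso
        have : g⁻¹ • Γ ⊆ B' := fun z hz => h3 z (Set.mem_inv_smul_set_iff.1 hz)
        have := Set.ncard_le_ncard this
        rw [Set.ncard_smul_set] at this
        omega
      · exact h3 y hy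
    have h3 := Set.ncard_le_ncard hsub
    rw [count1 _ _ (fun h => hxy (Subtype.ext h)), ncard_pair_mem h2 x.2 _
      (fun p hp h => hp.2 (h ▸ hp.1)), Set.ncard_prod] at h3
    have h4 := Nat.le_of_mul_le_mul_left (Nat.le_of_mul_le_mul_right h3 hs0) (by omega)
    have e := Set.ncard_add_ncard_compl Γ
    omega
  · have key : ∀ z : α, z ∉ B' → z ≠ a → {g : G | (g • (x : α), g • z) ∈ Γ.offDiag} =
        {g : G | (g • (x : α), g • a) ∈ Γ.offDiag} := by
      intro z hz hza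
      have hxz : (x : α) ≠ z := fun h => hz (h ▸ ⟨x, hx, rfl⟩)
      apply Set.eq_of_subset_of_ncard_le _ (by rw [count1 _ _ hxz, count1 _ _ x.2])
      rintro g ⟨hg1, hg2, -⟩
      refine ⟨hg1, ?_, fun h => x.2 (smul_left_cancel g h)⟩
      by_contra hga
      rcases dich g hga x hx hg1 with h3 | h3
      · exact hz (h3 z hg2)
      · have h4 : B' ⊆ g⁻¹ • Γ := by
          rintro _ ⟨w, hw, rfl⟩
          exact Set.mem_inv_smul_set_iff.2 (h3 w hw)
        have h5 := Set.eq_of_subset_of_ncard_le h4 (by rw [Set.ncard_smul_set]; omega)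
        exact hz (h5 ▸ Set.mem_inv_smul_set_iff.2 hg2)
    obtain ⟨g, hg1, hg2, -⟩ : {g : G | (g • (x : α), g • a) ∈ Γ.offDiag}.Nonempty := by
      rw [← Set.ncard_pos, count1 _ _ x.2]
      exact Nat.mul_pos (Nat.mul_pos (by omega) (by omega)) hs0
    have h4 : insert (x : α) B'ᶜ ⊆ g⁻¹ • Γ := by
      rintro z (rfl | hz)
      · exact Set.mem_inv_smul_set_iff.2 hg1
      · rw [Set.mem_inv_smul_set_iff]
        by_cases hza : z = a
        · exact hza ▸ hg2
        · have : g ∈ {g : G | (g • (x : α), g • z) ∈ Γ.offDiag} := by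
            rw [key z hz hza]
            exact ⟨hg1, hg2, fun h => x.2 (smul_left_cancel g h)⟩
          exact this.2.1
    have h5 := Set.ncard_le_ncard h4
    rw [Set.ncard_smul_set, Set.ncard_insert_of_notMem (not_not.2 ⟨x, hx, rfl⟩)] at h5
    have e := Set.ncard_add_ncard_compl B'
    omega

/-- A Jordan set avoiding `a` is a Jordan set for the stabiliser of `a`. -/
theorem JSet.ofStab {Γ : Set α} (h : JSet G Γ) {a : α} (ha : a ∉ Γ) :
    JSet (stabilizer G a) {x : ofStabilizer G a | (x : α) ∈ Γ} := by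
  intro x hx y hy
  obtain ⟨g, hg, hg'⟩ := h x hx y hy
  exact ⟨⟨g, hg a ha⟩, fun z hz => Subtype.ext (hg z hz), Subtype.ext hg'⟩

theorem ncard_ofStab {Γ : Set α} {a : α} (ha : a ∉ Γ) :
    {x : ofStabilizer G a | (x : α) ∈ Γ}.ncard = Γ.ncard := by
  rw [← Set.ncard_image_of_injective _ Subtype.val_injective]
  congr 1
  ext z
  exact ⟨by rintro ⟨w, hw, rfl⟩; exact hw, fun hz => ⟨⟨z, fun h => ha (h ▸ hz)⟩, hz, rfl⟩⟩

/-- Marggraff: a primitive group with a Jordan set of at most half the degree is triply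
transitive. -/
theorem JSet.three_trans [Finite G] [Finite α] {Γ : Set α} (h : JSet G Γ)
    (hG : IsPreprimitive G α) (h1 : 1 < Γ.ncard) (hn : 2 * Γ.ncard ≤ Nat.card α) :
    IsMultiplyPretransitive G α 3 := by
  have h2 := h.two_trans hG h1 (by omega)
  obtain ⟨a, ha⟩ : ∃ a, a ∉ Γ := by
    by_contra hc
    push Not at hc
    rw [Set.eq_univ_of_forall hc, Set.ncard_univ] at h1 hn
    omega
  have hcard := nat_card_ofStabilizer_add_one_eq G a
  rw [ofStabilizer.isMultiplyPretransitive (a := a)]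
  exact (h.ofStab ha).two_trans (h.stab_prim h2 h1 hn a) (by rwa [ncard_ofStab ha])
    (by rw [ncard_ofStab ha]; omega)

end H25
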