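import Cfsg.Agent.H25.NC1
import Cfsg.Agent.H25.MinNormal
import Cfsg.Agent.H4.GamL2
import Cfsg.Agent.H18.Small
import Cfsg.Agent.H26.SzInst

/-! Groups in which all nontrivial subgroups of a cyclic group of even order have one normalizer. -/

set_option autoImplicit false
set_option linter.unusedSectionVars false

namespace H25.NZ
open Subgroup Cfsg H25.NC H4 Matrix
open H6 (ord2_of ord2_mul_self ord2_ne_one mem_zpowers_ord2)
open scoped MatrixGroups

universe u
variable {G : Type u} [Group G] [Finite G]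

/-- the hypothesis, elementwise -/
def HH (G : Type*) [Group G] : Prop := ∀ x y g : G, Even (orderOf x) → y ∈ zpowers x → y ≠ 1 →
  g * y * g⁻¹ ∈ zpowers y → g * x * g⁻¹ ∈ zpowers x

omit [Finite G] in
theorem HH.inj (h : HH G) {K : Type*} [Group K] (φ : K →* G) (hφ : Function.Injective φ) : HH K :=
  fun x y g h1 h2 h3 h4 => by
  have key : ∀ a b : K, φ a ∈ zpowers (φ b) ↔ a ∈ zpowers b := fun a b => by
    rw [← MonoidHom.map_zpowers, mem_map_iff_mem hφ]
  rw [← key, map_mul, map_mul, map_inv] at h4 ⊢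
  exact h _ _ _ (by rwa [orderOf_injective φ hφ]) ((key _ _).2 h2) (by rwa [Ne, map_eq_one_iff φ hφ]) h4

omit [Finite G] in
theorem zp_conj {x g : G} (h : g * x * g⁻¹ ∈ zpowers x) (n : ℕ) :
    g * x ^ n * g⁻¹ ∈ zpowers (x ^ n) := by
  obtain ⟨k, hk⟩ := mem_zpowers_iff.1 h
  exact mem_zpowers_iff.2 ⟨k, by rw [← conj_pow, ← hk, ← zpow_natCast, ← zpow_natCast, ← _root_.zpow_mul,
    ← _root_.zpow_mul, mul_comm]⟩

theorem prod_pow {t y : G} (ht : orderOf t = 2) (ho : Odd (orderOf y)) (hc : Commute t y) :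
    Even (orderOf (t * y)) ∧ (t * y) ^ orderOf y = t ∧ (t * y) ^ (orderOf y + 1) = y := by
  have e : (t * y) ^ orderOf y = t := by
    obtain ⟨k, hk⟩ := ho
    rw [hc.mul_pow, pow_orderOf_eq_one, mul_one, hk, pow_succ, pow_mul, sq, ord2_mul_self ht, one_pow,
      one_mul]
  refine ⟨even_iff_two_dvd.2 ?_, e, by rw [pow_succ, e, ← mul_assoc, ord2_mul_self ht, one_mul]⟩
  have := orderOf_pow_dvd (x := t * y) (orderOf y)
  rwa [e, ht] at this

theorem HH.cent (h : HH G) {t y g : G} (ht : orderOf t = 2) (ho : Odd (orderOf y)) (hc : Commute t y)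
    (y1 : y ≠ 1) (hg : g * y * g⁻¹ ∈ zpowers y) : g * t = t * g := by
  obtain ⟨h1, h2, h3⟩ := prod_pow ht ho hc
  have := zp_conj (h (t * y) y g h1 (by have := npow_mem_zpowers (t * y) (orderOf y + 1); rwa [h3] at this) y1 hg) (orderOf y)
  rw [h2, mem_zpowers_ord2 (ord2_mul_self ht)] at this
  exact mul_inv_eq_iff_eq_mul.1 (this.resolve_left (ord2_ne_one (H6.ord2_conj ht g)))

theorem HH.norm (h : HH G) {t y g : G} (ht : orderOf t = 2) (ho : Odd (orderOf y)) (hc : Commute t y)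
    (hg : g * t = t * g) : g * y * g⁻¹ ∈ zpowers y := by
  obtain ⟨h1, h2, h3⟩ := prod_pow ht ho hc
  have := zp_conj (h (t * y) t g h1 (by have := npow_mem_zpowers (t * y) (orderOf y); rwa [h2] at this) (ord2_ne_one ht)
    (by rw [hg, mul_inv_cancel_right]; exact mem_zpowers t)) (orderOf y + 1)
  rwa [h3] at this

theorem HH.four (h : HH G) {x g : G} (h1 : x * x ≠ 1) (h2 : x * x * (x * x) = 1)
    (hg : g * (x * x) = x * x * g) : g * x * g⁻¹ * x⁻¹ = 1 ∨ g * x * g⁻¹ * x⁻¹ = x * x := by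
  have o : orderOf x = 2 ^ 2 := orderOf_eq_prime_pow (by rwa [pow_one, sq]) (by rw [← h2]; simp [pow_succ, mul_assoc])
  have := h x (x * x) g (by rw [o]; decide) (mul_mem (mem_zpowers x) (mem_zpowers x)) h1
    (by rw [hg, mul_inv_cancel_right]; exact mem_zpowers _)
  have e : g * x * g⁻¹ * (g * x * g⁻¹) = x * x := by
    rw [← mul_inv_eq_iff_eq_mul] at hg
    rw [← hg]; group
  classical
  rw [mem_zpowers_iff_mem_range_orderOf, o, Finset.mem_image] at this
  obtain ⟨k, hk, e2⟩ := this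
  rw [Finset.mem_range] at hk
  rw [← e2] at e ⊢
  interval_cases k
  · exact absurd (by simpa using e.symm) h1
  · exact .inl (by group)
  · exact absurd (by rw [← e, ← h2, sq]) h1
  · exact .inr (by simp [pow_succ])

theorem HH.n2 (h : HH G) : N2 G := fun t ht => H3.hasNormalPComplement_iff_mul.2 fun x y hx hy => by
  have ox : Odd (orderOf (x : G)) := by rw [orderOf_coe]; exact Nat.coprime_two_right.1 hx
  haveI : (zpowers x).Normal := ⟨fun n hn g => by
    obtain ⟨k, rfl⟩ := mem_zpowers_iff.1 hn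
    rw [← conj_zpow]
    refine zpow_mem ?_ k
    obtain ⟨j, hj⟩ := mem_zpowers_iff.1 (h.norm ht ox (mem_centralizer_singleton_iff.1 x.2).symm
      (mem_centralizer_singleton_iff.1 g.2))
    exact mem_zpowers_iff.2 ⟨j, Subtype.ext hj⟩⟩
  have e : (x * y) ^ orderOf y ∈ zpowers x := by
    rw [← QuotientGroup.eq_one_iff, QuotientGroup.mk_pow, QuotientGroup.mk_mul,
      (QuotientGroup.eq_one_iff x).2 (mem_zpowers x), one_mul, ← QuotientGroup.mk_pow,
      pow_orderOf_eq_one, QuotientGroup.mk_one]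
  refine Nat.Coprime.coprime_dvd_left (orderOf_dvd_of_pow_eq_one ?_) (Nat.Coprime.mul_left hy hx)
  rw [pow_mul, ← orderOf_dvd_iff_pow_eq_one]
  exact orderOf_dvd_of_mem_zpowers e

theorem HH.not_sz (h : HH G) : ¬ Lie.IsoSuzuki G := by
  rintro ⟨F, _, _, m, hm, hF, ⟨e⟩⟩
  let M := (H26.Sz.lieModel hm hF).ofEquiv e
  haveI := M.charP
  have h2 : (2 : F) = 0 := CharTwo.two_eq_zero
  obtain ⟨c, c0, c1⟩ := M.exists_ne
  have e1 : M.u 1 0 * M.u 1 0 = M.u 0 1 := by rw [M.u_sq, map_one, one_mul]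
  have := h.four (x := M.u 1 0) (g := M.u c 0) (by rw [e1, Ne, M.u_eq_one_iff]; simp)
    (by rw [e1, M.u_zero_sq]) (by rw [e1, M.u_zero_comm])
  rw [e1, M.u_inv, M.u_inv, M.u_mul, M.u_mul, M.u_mul, M.u_eq_one_iff] at this
  have k := M.hσ c
  have e2 : M.σ c = c ∨ M.σ c = c + 1 := by
    rcases this with ⟨-, k⟩ | k
    · simp only [map_add, map_one] at k
      exact .inl (by linear_combination k - (M.σ c * c + M.σ c + c + 1) * h2)
    · have k := (M.u_inj k).2
      simp only [map_add, map_one] at k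
      exact .inr (by linear_combination k - (M.σ c * c + M.σ c + c + 1) * h2)
  have e3 : c * (c - 1) = 0 := by
    rcases e2 with e2 | e2
    · rw [e2, e2] at k; linear_combination -k
    · rw [e2, map_add, e2, map_one] at k; linear_combination h2 - k
  rcases mul_eq_zero.1 e3 with k | k
  exacts [c0 k, c1 (sub_eq_zero.1 k)]

theorem HH.not_a7 (h : HH G) : ¬ Nonempty (G ≃* alternatingGroup (Fin 7)) := by
  rintro ⟨e⟩
  have h' := h.inj e.symm.toMonoidHom e.symm.injective
  let t : alternatingGroup (Fin 7) := ⟨Equiv.swap 0 1 * Equiv.swap 2 3, Equiv.Perm.mem_alternatingGroup.2 (by decide)⟩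
  let y : alternatingGroup (Fin 7) := ⟨Equiv.swap 4 5 * Equiv.swap 5 6, Equiv.Perm.mem_alternatingGroup.2 (by decide)⟩
  let g : alternatingGroup (Fin 7) := ⟨Equiv.swap 0 1 * Equiv.swap 1 2, Equiv.Perm.mem_alternatingGroup.2 (by decide)⟩
  have oy : orderOf y = 3 := orderOf_eq_prime (Subtype.ext (by decide)) fun k =>
    absurd (congrArg Subtype.val k) (by decide)
  have := h'.cent (t := t) (y := y) (g := g) (ord2_of (Subtype.ext (by decide)) fun k =>
    absurd (congrArg Subtype.val k) (by decide)) (by rw [oy]; decide) (Subtype.ext (by decide))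
    (fun k => absurd (congrArg Subtype.val k) (by decide))
    (by rw [show g * y * g⁻¹ = y from Subtype.ext (by decide)]; exact mem_zpowers y)
  exact absurd (congrArg Subtype.val this) (by decide)

/-- unitriangular matrices -/
def S3 {F : Type*} [Field F] (a b c : F) : SL(3, F) :=
  ⟨!![1, a, c; 0, 1, b; 0, 0, 1], by simp [det_fin_three]⟩

/-- their images -/
def U3 {F : Type*} [Field F] (a b c : F) : PSL(3, F) := QuotientGroup.mk' (center _) (S3 a b c)

theorem U3_mul {F : Type*} [Field F] (a b c d e f : F) :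
    U3 a b c * U3 d e f = U3 (a + d) (b + e) (c + f + a * e) := by
  unfold U3
  rw [← map_mul]
  refine congrArg _ (Subtype.ext ?_)
  change !![1, a, c; 0, 1, b; 0, 0, 1] * !![1, d, f; 0, 1, e; 0, 0, 1] = !![1, _, _; 0, 1, _; 0, 0, 1]
  ext i j
  fin_cases i <;> fin_cases j <;> simp [Matrix.mul_apply, Fin.sum_univ_three] <;> ring

theorem U3_zero {F : Type*} [Field F] : U3 (0 : F) 0 0 = 1 := by
  unfold U3
  rw [← map_one (QuotientGroup.mk' (center SL(3, F)))]
  congr 1
  ext i j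
  fin_cases i <;> fin_cases j <;> simp [S3]

theorem U3_eq_one {F : Type*} [Field F] {a b c : F} (h : U3 a b c = 1) : c = 0 := by
  obtain ⟨r, -, hr⟩ := Matrix.SpecialLinearGroup.mem_center_iff.1 ((QuotientGroup.eq_one_iff (S3 a b c)).1 h)
  simpa [S3] using (congrFun (congrFun hr 0) 2).symm

theorem U3_inv {F : Type*} [Field F] (a b c : F) : (U3 a b c)⁻¹ = U3 (-a) (-b) (a * b - c) := by
  rw [inv_eq_iff_mul_eq_one, U3_mul, ← U3_zero]
  congr 1 <;> ring

theorem HH.not_l34 (h : HH G) {F : Type} [Field F] [Fintype F] (hF : Fintype.card F = 4) :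
    ¬ Nonempty (G ≃* PSL(3, F)) := by
  rintro ⟨e⟩
  have h' := h.inj e.symm.toMonoidHom e.symm.injective
  haveI : Finite PSL(3, F) := Finite.of_equiv _ e.toEquiv
  haveI := H26.charTwo_of_card (F := F) (n := 2) hF
  have h2 : (2 : F) = 0 := CharTwo.two_eq_zero
  obtain ⟨c, c0, c1⟩ := H26.exists_ne_zero_one (F := F) (by omega)
  have e1 : U3 (1 : F) 1 0 * U3 1 1 0 = U3 0 0 1 := by
    rw [U3_mul]; congr 1 <;> first | linear_combination h2 | ring
  have := h'.four (x := U3 1 1 0) (g := U3 c 0 0) (by rw [e1]; exact fun k => one_ne_zero (U3_eq_one k))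
    (by rw [e1, U3_mul, ← U3_zero]; congr 1 <;> first | linear_combination h2 | ring)
    (by rw [e1, U3_mul, U3_mul]; congr 1 <;> ring)
  rw [e1, ← mul_inv_eq_one (b := U3 0 0 1), U3_inv, U3_inv, U3_inv, U3_mul, U3_mul, U3_mul, U3_mul] at this
  rcases this with k | k
  · exact c0 (by linear_combination U3_eq_one k)
  · exact c1 (by linear_combination U3_eq_one k)

section emb
variable {F : Type*} [Field F]

theorem semi_unique' {a b : PGL(2, F)} {σ τ : F ≃+* F}
    (h : ∀ y ∈ pL F, a * fld σ y * a⁻¹ = b * fld τ y * b⁻¹) : a = b ∧ σ = τ := by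
  by_cases h2 : (2 : F) = 0
  swap
  · exact semi_unique h2 h
  have h3 : σ = τ := RingEquiv.ext fun z => by
    have := congrArg tau (h _ (smk_mem_pL (slComp z)))
    rw [tau_conj, tau_conj, tau_fld, tau_fld, tau_smk, trace_slComp, map_pow, map_pow] at this
    exact sub_eq_zero.1 (pow_eq_zero_iff two_ne_zero |>.1
      (by linear_combination this + (τ z ^ 2 - σ z * τ z) * h2))
  subst h3
  refine ⟨?_, rfl⟩
  have h4 : ∀ y ∈ pL F, fld σ y = y → Commute (b⁻¹ * a) y := fun y hy h5 => by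
    have := h y hy
    rw [h5] at this
    calc b⁻¹ * a * y = b⁻¹ * (a * y * a⁻¹) * a := by group
      _ = y * (b⁻¹ * a) := by rw [this]; group
  rw [eq_comm, ← inv_mul_eq_one]
  have h1 := h4 _ (smk_mem_pL (upT 1)) (by rw [fld_smk, map_upT, map_one])
  have h3 := h4 _ (smk_mem_pL (loT 1)) (by rw [fld_smk, map_loT, map_one])
  generalize b⁻¹ * a = c at h1 h3
  obtain ⟨g, rfl⟩ := ProjGenLinGroup.mk_surjective c
  have n : ∀ A : Matrix (Fin 2) (Fin 2) F, -A = A := fun A => by
    ext i j; rw [neg_apply]; linear_combination -(A i j) * h2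
  have h5 := (comm_cases (h := SpecialLinearGroup.toGL (upT 1)) h1).elim id fun h => h.2.trans (n _)
  have h6 := (comm_cases (h := SpecialLinearGroup.toGL (loT 1)) h3).elim id fun h => h.2.trans (n _)
  refine pmk_eq_one_iff.2 (sc_of_comm_pair ?_ h5 h6)
  change ((upT (1 : F)).1 * (loT 1).1 - (loT 1).1 * (upT 1).1).det ≠ 0
  simp [coe_upT, coe_loT, det_fin_two]

variable {E : Subgroup G}

theorem exists_emb' [Finite F] [hE : E.Normal] (hC : Subgroup.centralizer (E : Set G) = ⊥)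
    (e : E ≃* PSL(2, F)) : Nonempty (Emb E F) := by
  choose f θ h using fun g : G => exists_semi_psl (F := F)
    (e.symm.trans ((MulAut.conjNormal g).trans e))
  replace h : ∀ g (x : E), psl2pgl (e (MulAut.conjNormal g x)) =
      f g * fld (θ g) (psl2pgl (e x)) * (f g)⁻¹ := fun g x => by simpa using h g (e x)
  have k : ∀ g a σ, (∀ x : E, psl2pgl (e (MulAut.conjNormal g x)) =
      a * fld σ (psl2pgl (e x)) * a⁻¹) → f g = a ∧ θ g = σ := fun g a σ h1 =>
    semi_unique' (by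
      rintro _ ⟨y, rfl⟩
      obtain ⟨x, rfl⟩ := e.surjective y
      rw [← h, h1])
  have k1 : ∀ x y, f (x * y) = f x * fld (θ x) (f y) ∧ θ (x * y) = θ x * θ y := fun x y =>
    k _ _ _ fun z => by
      rw [map_mul, MulAut.mul_apply, h, h, fld_mul, map_mul, map_mul, map_inv]; group
  have k2 : ∀ x : E, f x = psl2pgl (e x) ∧ θ x = 1 := fun x => k _ _ _ fun z => by
    rw [fld_one, ← map_inv, ← map_inv, ← map_mul, ← map_mul, ← map_mul, ← map_mul]; rfl
  have k3 : ∀ x, θ x = 1 → f x = 1 → x = 1 := fun x h1 h3 => by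
    rw [← Subgroup.mem_bot, ← hC, Subgroup.mem_centralizer_iff]
    intro z hz
    have h4 := h x ⟨z, hz⟩
    rw [h1, h3, fld_one, one_mul, inv_one, mul_one] at h4
    have h5 : x * z * x⁻¹ = z := congrArg Subtype.val (e.injective (psl2pgl_injective h4))
    rw [← h5, inv_mul_cancel_right, h5]
  refine ⟨⟨f, MonoidHom.mk' θ fun x y => (k1 x y).2, fun x y => (k1 x y).1, k3, fun x =>
    ⟨fun hx => ⟨(k2 ⟨x, hx⟩).2, (k2 ⟨x, hx⟩).1 ▸ ⟨_, rfl⟩⟩, fun ⟨h1, y, hy⟩ => ?_⟩, ?_⟩⟩
  · obtain ⟨z, rfl⟩ := e.surjective y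
    have h3 := k1 (z⁻¹ : E) x
    rw [(k2 _).1, (k2 _).2, fld_one, ← hy, ← map_mul, ← map_mul, inv_mul_cancel, map_one, map_one,
      one_mul] at h3
    have h4 := k3 _ (h3.2.trans h1) h3.1
    rw [Subgroup.coe_inv, inv_mul_eq_one] at h4
    exact h4 ▸ z.2
  · rintro _ ⟨y, rfl⟩
    obtain ⟨z, rfl⟩ := e.surjective y
    exact ⟨z, z.2, (k2 z).1⟩

theorem exists_psi (M : Emb E F) : ∃ ψ : SL(2, F) →* G, (∀ a, M.θ (ψ a) = 1 ∧ M.f (ψ a) = smk a) ∧
    (∀ a b, ψ a = ψ b ↔ b.1 = a.1 ∨ b.1 = -a.1) ∧ ∀ g d a b, M.f g = pmk d →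
      d.1 * a.1.map (M.θ g) = b.1 * d.1 → g * ψ a * g⁻¹ = ψ b := by
  choose ψ h1 h2 using fun a => M.surj _ (smk_mem_pL a)
  have h3 := fun a => M.θ_of_mem (h1 a)
  refine ⟨MonoidHom.mk' ψ fun a b => M.eq_of (h3 _) (M.θ_mul (h3 _) (h3 _))
    (by rw [M.mul' (h3 _), h2, h2, h2, map_mul]), fun a => ⟨h3 a, h2 a⟩, fun a b => ⟨fun e => ?_,
    fun e => M.eq_of (h3 _) (h3 _) (by
      simp only [MonoidHom.mk'_apply, h2]
      exact smk_eq_iff.2 (e.imp Subtype.ext Subtype.ext))⟩, fun g d a b e1 e2 => M.eq_of (M.θ_conj g (h3 _)) (h3 _) ?_⟩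
  · have := congrArg M.f e
    simp only [MonoidHom.mk'_apply, h2] at this
    rcases smk_eq_iff.1 this with rfl | rfl
    exacts [.inl rfl, .inr rfl]
  · simp only [MonoidHom.mk'_apply]
    rw [M.conj g (h3 _), h2, h2, e1, fld_smk, mul_inv_eq_iff_eq_mul]
    exact congrArg pmk (Units.ext e2)

/-- the Weyl element -/
def w : SL(2, F) := ⟨!![0, 1; -1, 0], by simp [det_fin_two]⟩

/-- an element of order three -/
def c3 : SL(2, F) := ⟨!![0, 1; -1, -1], by simp [det_fin_two]⟩

/-- diagonal elements -/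
def dg (x : Fˣ) : SL(2, F) := ⟨!![x, 0; 0, (x : F)⁻¹], by simp [det_fin_two]⟩

theorem coe_w : (w : SL(2, F)).1 = !![0, 1; -1, 0] := rfl
theorem coe_c3 : (c3 : SL(2, F)).1 = !![0, 1; -1, -1] := rfl
theorem coe_dg (x : Fˣ) : (dg x).1 = !![(x : F), 0; 0, (x : F)⁻¹] := rfl

theorem f_pow_one (M : Emb E F) {g : G} (hg : M.f g = 1) (n : ℕ) : M.f (g ^ n) = 1 := by
  induction n with
  | zero => rw [pow_zero, M.f_one]
  | succ n ih => rw [pow_succ, M.mul, ih, hg, map_one, one_mul]

theorem HH.pure [Fintype F] (h : HH G) (M : Emb E F) (h4 : 4 < Fintype.card F) {g : G}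
    (hg : M.f g ∈ pL F) {r : ℕ} (hr : r.Prime) (h1 : M.θ g ≠ 1) (h2 : M.θ g ^ r = 1) : False := by
  obtain ⟨e, he, ef⟩ := M.surj _ ((pL F).inv_mem hg)
  have e1 := M.θ_of_mem he
  have e2 : M.θ (e * g) = M.θ g := by rw [map_mul, e1, one_mul]
  have e3 : M.f (e * g) = 1 := by rw [M.mul' e1, ef, inv_mul_cancel]
  rw [← e2] at h1 h2
  generalize e * g = g at h1 h2 e3
  haveI := Fact.mk hr
  have g1 : g ≠ 1 := fun k => h1 (by rw [k, map_one])
  have o : orderOf g = r := orderOf_eq_prime (M.inj _ (by rw [map_pow, h2]) (f_pow_one M e3 r)) g1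
  obtain ⟨ψ, -, k2, k3⟩ := exists_psi M
  have fix : ∀ a : SL(2, F), a.1.map (M.θ g) = a.1 → Commute g (ψ a) := fun a ha =>
    mul_inv_eq_iff_eq_mul.1 (k3 g 1 a a (by rw [e3, map_one]) (by simp [ha]))
  have fu : ∀ a, M.θ g a = a → Commute g (ψ (upT a)) := fun a ha => fix _ (by
    ext i j; fin_cases i <;> fin_cases j <;> simp [coe_upT, ha])
  rcases hr.eq_two_or_odd' with rfl | ho
  · have oc : orderOf (ψ c3) = 3 := orderOf_eq_prime (by
      rw [← map_pow, show (c3 : SL(2, F)) ^ 3 = 1 from Subtype.ext (by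
        change !![0, 1; -1, -1] ^ 3 = (1 : Matrix _ _ F)
        ext i j; fin_cases i <;> fin_cases j <;> simp [pow_succ]), map_one]) fun k => by
      rcases (k2 _ _).1 (k.trans (map_one ψ).symm) with k | k <;>
        simpa [coe_c3] using congrFun (congrFun k 0) 0
    obtain ⟨K, hK, hc⟩ := exists_fixed (M.θ g)
    have : ∀ a ∈ K, a = 0 ∨ a = 1 := fun a ha => by
      have := h.norm o (by rw [oc]; decide) (fix c3 (by
        ext i j; fin_cases i <;> fin_cases j <;> simp [coe_c3])) (fu a ((hK a).1 ha)).symm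
      obtain ⟨k, hk⟩ := mem_zpowers_iff.1 this
      have e : ψ (upT a * c3 * upT (-a) * c3) = ψ (c3 * (upT a * c3 * upT (-a))) := by
        rw [← upT_inv]
        simp only [map_mul, map_inv]
        rw [← hk]; group
      have e2 : a * (a - 1) = 0 := by
        rcases (k2 _ _).1 e with k | k
        · have := congrFun (congrFun k 0) 0
          simp [coe_c3, coe_upT, Matrix.mul_apply, Fin.sum_univ_two] at this
          linear_combination this
        · have h1 := congrFun (congrFun k 0) 0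
          have h2 := congrFun (congrFun k 1) 0
          simp [coe_c3, coe_upT, Matrix.mul_apply, Fin.sum_univ_two] at h1 h2
          linear_combination -h1 - h2
      exact (mul_eq_zero.1 e2).imp_right sub_eq_zero.1
    have h5 : Nat.card K ≤ 2 := by
      rw [← SetLike.coe_sort_coe, Nat.card_coe_set_eq]
      exact (Set.ncard_le_ncard (t := {0, 1}) this).trans ((Set.ncard_insert_le _ _).trans (by simp))
    rw [orderOf_eq_prime h2 h1, Nat.card_eq_fintype_card] at hc
    have := Nat.pow_le_pow_left h5 2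
    omega
  · have ow : orderOf (ψ w) = 2 := ord2_of (by
      rw [← map_mul, ← map_one ψ, k2]
      refine .inr ?_
      ext i j; fin_cases i <;> fin_cases j <;> simp [coe_w]) fun k => by
      rcases (k2 _ _).1 (k.trans (map_one ψ).symm) with k | k <;>
        simpa [coe_w] using congrFun (congrFun k 0) 0
    have := h.cent (g := ψ (upT 1)) ow (o ▸ ho) (fix w (by
      ext i j; fin_cases i <;> fin_cases j <;> simp [coe_w])).symm g1
      (by rw [← (fu 1 (map_one _)).eq, mul_inv_cancel_right]; exact mem_zpowers g)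
    rw [← map_mul, ← map_mul] at this
    rcases (k2 _ _).1 this with k | k <;>
      simpa [coe_w, coe_upT, Matrix.mul_apply, Fin.sum_univ_two] using congrFun (congrFun k 0) 0

theorem HH.outer [Fintype F] (h : HH G) (M : Emb E F) (h4 : 4 < Fintype.card F) {g : G}
    (hg : M.f g ∉ pL F) (h1 : M.θ g ≠ 1) (h2 : M.θ g ^ 2 = 1) : False := by
  classical
  have t0 : (2 : F) ≠ 0 := fun k => hg (pL_eq_top k ▸ mem_top _)
  have hq : Fintype.card F % 2 = 1 := FiniteField.odd_card_of_char_ne_two fun k =>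
    t0 (by exact_mod_cast (ringChar.spec F 2).2 (k ▸ dvd_rfl))
  obtain ⟨ζ, hζ⟩ := IsCyclic.exists_generator (α := Fˣ)
  have z0 : (ζ : F) ≠ 0 := ζ.ne_zero
  let D : Fˣ → GL (Fin 2) F := fun x => GeneralLinearGroup.mkOfDetNeZero !![x, 0; 0, 1] (by simp [det_fin_two])
  have cD : ∀ x, (D x).1 = !![(x : F), 0; 0, 1] := fun _ => rfl
  have hD : pmk (D ζ) ∉ pL F := fun k => pL_ne_top hq (eq_top_iff.2 fun a _ => by
    obtain ⟨a, rfl⟩ := ProjGenLinGroup.mk_surjective a
    obtain ⟨s, hs⟩ := pmk_mem_pL.1 k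
    obtain ⟨j, hj⟩ := mem_zpowers_iff.1 (hζ (GeneralLinearGroup.det a))
    refine pmk_mem_pL.2 ⟨s ^ j, ?_⟩
    rw [cD, det_fin_two_of, mul_one, zero_mul, sub_zero] at hs
    rw [← mul_zpow, ← hs, ← Units.val_zpow_eq_zpow_val, hj, GeneralLinearGroup.val_det_apply])
  obtain ⟨e, he, ef⟩ := M.surj (pmk (D ζ) * (M.f g)⁻¹) ((mul_mem_iff_of_index_two (index_pL hq)).2
    (iff_of_false hD (by rwa [inv_mem_iff])))
  have e1 := M.θ_of_mem he
  have e2 : M.θ (e * g) = M.θ g := by rw [map_mul, e1, one_mul]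
  have e3 : M.f (e * g) = pmk (D ζ) := by rw [M.mul' e1, ef, inv_mul_cancel_right]
  rw [← e2] at h1 h2
  generalize e * g = g at h1 h2 e3
  set σ := M.θ g
  have all : ∀ P : Subgroup Fˣ, ζ ∈ P → ∀ x, x ∈ P := fun P hP x => zpowers_le.2 hP (hζ x)
  let σ' : Fˣ →* Fˣ := Units.map (σ : F →* F)
  have s' : ∀ x, (σ' x : F) = σ x := fun _ => rfl
  have s0 : σ ζ ≠ 0 := (σ' ζ).ne_zero
  obtain ⟨ψ, k1, k2, k3⟩ := exists_psi M
  have t2 : M.θ (g * g) = 1 := by rw [map_mul, ← sq, h2]
  have f2 : M.f (g * g) = pmk (D (ζ * σ' ζ)) := by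
    rw [M.mul, e3, fld_mk, ← map_mul]
    refine congrArg pmk (Units.ext ?_)
    ext i j; fin_cases i <;> fin_cases j <;> simp [cD, s', σ, Matrix.mul_apply, Fin.sum_univ_two]
  have g2 : g * g ≠ 1 := fun k => by
    rw [k, M.f_one, eq_comm, pmk_eq_one_iff] at f2
    have := all (MonoidHom.eqLocus σ' invMonoidHom) (eq_inv_of_mul_eq_one_right (Units.ext f2.2.2))
    have k : ∀ x : F, x ≠ 0 → σ x * x = 1 := fun x hx => by
      have := congrArg Units.val (this (Units.mk0 x hx))
      simp only [s', Units.val_mk0, invMonoidHom_apply, Units.val_inv_eq_inv_val] at this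
      rw [this, inv_mul_cancel₀ hx]
    have k3 : (3 : F) = 0 := by
      have := k 2 t0
      rw [map_ofNat] at this
      linear_combination this
    have : (Finset.univ : Finset F) ⊆ {0, -1, 1} := fun x _ => by
      by_contra hx
      simp only [Finset.mem_insert, Finset.mem_singleton, not_or] at hx
      have a1 := k x hx.1
      have a2 := k (x + 1) fun e => hx.2.1 (eq_neg_of_add_eq_zero_left e)
      rw [map_add, map_one] at a2
      exact hx.2.2 (sub_eq_zero.1 (pow_eq_zero_iff two_ne_zero |>.1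
        (by linear_combination x * a2 - (x + 1) * a1 - x * k3)))
    have := (Finset.card_le_card this).trans Finset.card_le_three
    rw [Finset.card_univ] at this
    omega
  have ev : Even (orderOf g) := even_iff_two_dvd.2 (orderOf_eq_prime h2 h1 ▸ orderOf_map_dvd M.θ g)
  have a1 : ψ w * (g * g) * (ψ w)⁻¹ = (g * g)⁻¹ := (M.conj_eq_inv (k1 w).1 t2).1 (by
    rw [(k1 w).2, f2, mul_inv_eq_iff_eq_mul, eq_inv_mul_iff_mul_eq]
    change pmk _ * (pmk _ * pmk _) = pmk _
    rw [← map_mul, ← map_mul, eq_comm, pmk_eq_iff]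
    refine ⟨ζ * σ ζ, ?_⟩
    ext i j; fin_cases i <;> fin_cases j <;> simp [cD, s', coe_w, Matrix.mul_apply, Fin.sum_univ_two])
  have a2 := h g (g * g) (ψ w) ev (mul_mem (mem_zpowers g) (mem_zpowers g)) g2
    (a1 ▸ inv_mem (mem_zpowers _))
  have a3 : g * ψ w * g⁻¹ = ψ (dg ζ * w) := k3 g _ _ _ e3 (by
    ext i j; fin_cases i <;> fin_cases j <;> simp [cD, coe_w, coe_dg, z0, Matrix.mul_apply, Fin.sum_univ_two])
  have a4 : g * ψ (dg ζ) * g⁻¹ = ψ (dg (σ' ζ)) := k3 g _ _ _ e3 (by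
    ext i j; fin_cases i <;> fin_cases j <;> simp [cD, coe_dg, s', σ, mul_comm, Matrix.mul_apply, Fin.sum_univ_two])
  have a5 : ψ (dg ζ) = g * (ψ w * g * (ψ w)⁻¹)⁻¹ := by
    rw [map_mul, mul_inv_eq_iff_eq_mul] at a3
    rw [← mul_left_inj (ψ w * g), ← mul_assoc, ← a3]; group
  obtain ⟨k, hk⟩ := mem_zpowers_iff.1 a2
  have a6 : σ (ζ * ζ) = ζ * ζ := by
    rw [map_mul]
    rcases (k2 _ _).1 (show ψ (dg ζ) = ψ (dg (σ' ζ)) by rw [← a4, a5, ← hk]; group) with k | k
    · rw [show σ ζ = ζ by simpa [coe_dg, s'] using congrFun (congrFun k 0) 0]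
    · rw [show σ ζ = -ζ by simpa [coe_dg, s'] using congrFun (congrFun k 0) 0]; ring
  have a7 := all (MonoidHom.eqLocus (σ'.comp (powMonoidHom 2)) (powMonoidHom 2))
    (Units.ext (by simpa [s', sq] using a6))
  have a8 : ∀ x : F, σ x * σ x = x * x := fun x => by
    by_cases hx : x = 0
    · simp [hx]
    simpa [s', sq] using congrArg Units.val (a7 (Units.mk0 x hx))
  refine h1 (RingEquiv.ext fun z => mul_left_cancel₀ t0 ?_)
  have := a8 (z + 1)
  rw [map_add, map_one] at this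
  change 2 * σ z = 2 * z
  linear_combination this - a8 z

theorem HH.theta [Fintype F] (h : HH G) (M : Emb E F) (h4 : 4 < Fintype.card F) (g : G) :
    M.θ g = 1 := by
  by_contra h1
  have o0 : orderOf (M.θ g) ≠ 0 := fun k => (orderOf_pos g).ne'
    (Nat.eq_zero_of_zero_dvd (k ▸ orderOf_map_dvd M.θ g))
  obtain ⟨r, hr, k, hk⟩ := Nat.exists_prime_and_dvd (mt orderOf_eq_one_iff.1 h1)
  have o : orderOf (M.θ (g ^ k)) = r := by
    rw [map_pow, orderOf_pow' _ (by rintro rfl; exact o0 hk), hk, Nat.gcd_mul_left_left,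
      Nat.mul_div_cancel _ (Nat.pos_of_ne_zero (by rintro rfl; exact o0 hk))]
  generalize g ^ k = x at o
  have x1 : M.θ x ≠ 1 := fun e => hr.one_lt.ne' (by rw [← o, e, orderOf_one])
  have x2 : M.θ x ^ r = 1 := o ▸ pow_orderOf_eq_one _
  by_cases hx : M.f x ∈ pL F
  · exact h.pure M h4 hx hr x1 x2
  rcases hr.eq_two_or_odd' with rfl | ho
  · exact h.outer M h4 hx x1 x2
  have hq : Fintype.card F % 2 = 1 := FiniteField.odd_card_of_char_ne_two fun k =>
    hx (pL_eq_top (by exact_mod_cast (ringChar.spec F 2).2 (k ▸ dvd_rfl)) ▸ mem_top _)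
  refine h.pure M h4 (g := x * x) ?_ hr (fun e => ?_) (by rw [← sq, map_pow, ← pow_mul, mul_comm, pow_mul, x2, one_pow])
  · rw [M.mul, mul_mem_iff_of_index_two (index_pL hq), fld_mem_pL]
  · rw [← sq, map_pow, ← orderOf_dvd_iff_pow_eq_one, o] at e
    exact absurd ((Nat.prime_dvd_prime_iff_eq hr Nat.prime_two).1 e ▸ ho) (by decide)

theorem HH.psl [Fintype F] (h : HH G) [E.Normal] (hC : Subgroup.centralizer (E : Set G) = ⊥)
    (e : E ≃* PSL(2, F)) (h4 : 4 < Fintype.card F) :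
    Nonempty (G ≃* PSL(2, F)) ∨ Nonempty (G ≃* PGL(2, F)) := by
  obtain ⟨M⟩ := exists_emb' hC e
  have t := h.theta M h4
  by_cases h1 : ∀ g, M.f g ∈ pL F
  · obtain rfl : E = ⊤ := eq_top_iff.2 fun g _ => (M.mem g).2 ⟨t g, h1 g⟩
    exact .inl ⟨topEquiv.symm.trans e⟩
  push Not at h1
  obtain ⟨g, hg⟩ := h1
  have hq : Fintype.card F % 2 = 1 := FiniteField.odd_card_of_char_ne_two fun k =>
    hg (pL_eq_top (by exact_mod_cast (ringChar.spec F 2).2 (k ▸ dvd_rfl)) ▸ mem_top _)
  refine .inr ⟨MulEquiv.ofBijective (MonoidHom.mk' M.f fun x y => M.mul' (t x) y)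
    ⟨fun x y => M.eq_of (t x) (t y), fun a => ?_⟩⟩
  by_cases ha : a ∈ pL F
  · exact (M.surj a ha).imp fun _ k => k.2
  obtain ⟨x, -, hx⟩ := M.surj (a * (M.f g)⁻¹) ((mul_mem_iff_of_index_two (index_pL hq)).2
    (iff_of_false ha (by rwa [inv_mem_iff])))
  exact ⟨x * g, by rw [map_mul]; exact eq_mul_inv_iff_mul_eq.1 hx⟩

end emb

theorem N2.sub (h : N2 G) (H : Subgroup G) : N2 H := fun t ht =>
  H3.hasNormalPComplement_of_injective ((H.subtype.comp (Subgroup.subtype _)).codRestrict _ fun x =>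
    mem_centralizer_singleton_iff.2 (congrArg Subtype.val (mem_centralizer_singleton_iff.1 x.2)))
    (fun _ _ e => Subtype.ext (Subtype.ext (by simpa using e))) (h t (by rwa [orderOf_coe]))

/-- with solvable involution centralizers and no solvable normal subgroup the group is almost simple -/
theorem almost_simple [Nontrivial G] (hss : ∀ N : Subgroup G, N.Normal → Group.IsSolvable N → N = ⊥)
    (h : ∀ t : G, orderOf t = 2 → Group.IsSolvable (centralizer ({t} : Set G))) :
    ∃ E : Subgroup G, E.Normal ∧ IsSimpleGroup E ∧ ¬ IsMulCommutative E ∧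
      centralizer (E : Set G) = ⊥ := by
  obtain ⟨E, hE, h0, -, hm⟩ := H1.exists_minimal_normal_le (⊤ : Subgroup G) top_ne_bot
  have hs : ¬ Group.IsSolvable E := fun k => h0 (hss E hE k)
  obtain ⟨T, _, m, e, hT, m0, -⟩ := H25.exists_pi_simple_decomp_minimal_normal E h0 hm
  have hT' : ¬ Group.IsSolvable T := fun k => hs (Group.isSolvable_of_comm fun a b => e.injective (by
    rw [map_mul, map_mul]
    exact funext fun i => IsSimpleGroup.comm_iff_isSolvable.2 k _ _))
  refine ⟨E, hE, ?_, fun k => hs (Group.isSolvable_of_comm k.1.1), hss _ inferInstance ?_⟩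
  · by_cases h1 : m = 1
    · subst h1
      exact (e.trans (MulEquiv.funUnique (Fin 1) T)).isSimpleGroup
    let ι : Fin m → T →* G := fun i =>
      E.subtype.comp (e.symm.toMonoidHom.comp (MonoidHom.mulSingle (fun _ => T) i))
    have hι : ∀ i, Function.Injective (ι i) := fun i =>
      E.subtype_injective.comp (e.symm.injective.comp (Pi.mulSingle_injective (M := fun _ => T) i))
    haveI := Finite.of_injective _ (hι ⟨0, m0⟩)
    obtain ⟨t, ht⟩ := H1.CIT.exists_ord2 hT'
    haveI := h (ι ⟨0, m0⟩ t) (by rwa [orderOf_injective _ (hι _)])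
    refine absurd (Group.isSolvable_of_isSolvable_injective (f := (ι ⟨1, by omega⟩).codRestrict
      (centralizer {ι ⟨0, m0⟩ t}) fun x => mem_centralizer_singleton_iff.2 ?_)
      fun _ _ e => hι ⟨1, by omega⟩ (by simpa using e)) hT'
    exact ((Pi.mulSingle_commute (f := fun _ : Fin m => T) (by simp) x t).map
      (E.subtype.comp e.symm.toMonoidHom)).eq
  · by_contra k
    obtain ⟨t, ht⟩ := H1.CIT.exists_ord2 k
    exact hs (H1.isSolvable_of_le (h t (by rwa [orderOf_coe])) fun x hx =>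
      mem_centralizer_singleton_iff.2 (t.2 x hx))


theorem HH.main [Nontrivial G] (hss : ∀ N : Subgroup G, N.Normal → Group.IsSolvable N → N = ⊥)
    (h : HH G) : ∃ (F : Type) (_ : Field F) (_ : Fintype F), 3 < Fintype.card F ∧
      (Nonempty (G ≃* PSL(2, F)) ∨ Nonempty (G ≃* PGL(2, F))) := by
  obtain ⟨E, hE, hs, hn, hC⟩ := almost_simple hss fun t ht => h.n2.solv ht
  have h' := h.inj E.subtype E.subtype_injective
  rcases h'.n2.main hn with ⟨F, i, j, h1, ⟨e⟩⟩ | k | k | ⟨F, i, j, h1, k⟩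
  · by_cases h4 : Fintype.card F = 4
    · haveI := Fact.mk Nat.prime_five
      obtain ⟨a⟩ := H18.psl_a5 (.inl h4)
      obtain ⟨b⟩ := H18.psl_a5 (F := ZMod 5) (.inr (ZMod.card 5))
      exact ⟨ZMod 5, inferInstance, inferInstance, by simp, h.psl hC ((e.trans a).trans b.symm) (by simp)⟩
    · exact ⟨F, i, j, h1, h.psl hC e (by omega)⟩
  · exact absurd k h'.not_sz
  · exact absurd k h'.not_a7
  · exact absurd k (h'.not_l34 h1)

end H25.NZ
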