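import Mathlib
import Cfsg.Agent.H25.ONS
import Cfsg.Agent.H17.Central

set_option autoImplicit false

namespace H25

open MulAction Subgroup

theorem exists_three_orders {G : Type*} [Group G] [Finite G] {T : Subgroup G} [IsSimpleGroup T]
    (h : ¬ IsMulCommutative T) : ∃ x ∈ T, ∃ y ∈ T, ∃ z ∈ T, (orderOf x).Prime ∧ (orderOf y).Prime ∧
      (orderOf z).Prime ∧ orderOf x ≠ orderOf y ∧ orderOf x ≠ orderOf z ∧
      orderOf y ≠ orderOf z := by
  have key : ∀ p q : ℕ, p.Prime → q.Prime → ∃ x ∈ T, (orderOf x).Prime ∧ orderOf x ≠ p ∧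
      orderOf x ≠ q := by
    intro p q hp hq
    by_contra hn
    push Not at hn
    have : Group.IsSolvable T := H17.isSolvable_of_two_primes hp hq fun r hr hd => by
      have := Fact.mk hr
      obtain ⟨x, hx⟩ := exists_prime_orderOf_dvd_card' r hd
      rw [← Subgroup.orderOf_coe] at hx
      by_cases h1 : r = p
      · exact Or.inl h1
      · exact Or.inr (hx ▸ hn x x.2 (hx ▸ hr) (hx ▸ h1))
    exact h ⟨⟨IsSimpleGroup.comm_iff_isSolvable.2 this⟩⟩
  obtain ⟨x, hx, px, -⟩ := key 2 2 Nat.prime_two Nat.prime_two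
  obtain ⟨y, hy, py, h1, -⟩ := key _ _ px px
  obtain ⟨z, hz, pz, h2, h3⟩ := key _ _ px py
  exact ⟨x, hx, y, hy, z, hz, px, py, pz, h1.symm, h2.symm, h3.symm⟩

theorem Fac.orderOf_eq {G : Type*} [Group G] {N : Subgroup G} {m : ℕ} {T : Fin m → Subgroup G}
    (h : Fac N T) {i j : Fin m} (hij : i ≠ j) {x y y' : G} (hx : x ∈ T i) (hx1 : x ≠ 1)
    (hy : y ∈ T j) (hy' : y' ∈ T j) (hc : IsConj (x * y) (x * y')) : orderOf y = orderOf y' := by
  obtain ⟨g, hg⟩ := isConj_iff.1 hc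
  obtain ⟨k, hk⟩ := h.perm g i
  obtain ⟨l, hl⟩ := h.perm g j
  have hkl : k ≠ l := by
    rintro rfl
    exact hx1 (h.eq_one hij hx ((hl x).2 ((hk x).1 hx)))
  have e : (g * x * g⁻¹) * (g * y * g⁻¹) = x * y' := by rw [← hg]; group
  have a1 := (hk x).1 hx
  have a2 := (hl y).1 hy
  have o1 : orderOf (g * x * g⁻¹) = orderOf x := (MulAut.conj g).orderOf_eq x
  have o2 : orderOf (g * y * g⁻¹) = orderOf y := (MulAut.conj g).orderOf_eq y
  generalize g * x * g⁻¹ = u at *
  generalize g * y * g⁻¹ = v at *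
  have := h.simple k
  by_cases c1 : k = i
  · subst c1
    have : x⁻¹ * u = 1 := inf_centralizer_eq_bot (h.nonab k) (mul_mem (inv_mem hx) a1) (by
      rw [show x⁻¹ * u = y' * v⁻¹ by rw [inv_mul_eq_iff_eq_mul, ← mul_assoc, ← e]; group]
      exact mul_mem (h.comm k j hij hy') (inv_mem (h.comm k l hkl a2)))
    rw [inv_mul_eq_one] at this
    rw [← this, mul_right_inj] at e
    rw [← o2, e]
  by_cases c2 : k = j
  · subst c2
    have hxy : x * y' = y' * x := h.comm i k hij hy' x hx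
    have : y'⁻¹ * u = 1 := inf_centralizer_eq_bot (h.nonab k) (mul_mem (inv_mem hy') a1) (by
      rw [show y'⁻¹ * u = x * v⁻¹ by rw [inv_mul_eq_iff_eq_mul, ← mul_assoc, ← hxy, ← e]; group]
      exact mul_mem (h.comm k i hij.symm hx) (inv_mem (h.comm k l hkl a2)))
    rw [inv_mul_eq_one] at this
    rw [← this, hxy, mul_right_inj] at e
    rw [← o2, e, ← o1, this]
  · exfalso
    have : u = 1 := inf_centralizer_eq_bot (h.nonab k) a1 (by
      rw [show u = x * y' * v⁻¹ by rw [← e]; group]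
      exact mul_mem (mul_mem (h.comm k i c1 hx) (h.comm k j c2 hy')) (inv_mem (h.comm k l hkl a2)))
    rw [this, orderOf_one, eq_comm, orderOf_eq_one_iff] at o1
    exact hx1 o1

/-- A primitive group which is neither affine nor almost simple has three pairwise non-conjugate
derangements. -/
theorem Fac.three_derang {G Ω : Type*} [Group G] [Finite G] [MulAction G Ω] [FaithfulSMul G Ω]
    [Finite Ω] [Nonempty Ω] (hG : IsPreprimitive G Ω) {N : Subgroup G} {m : ℕ}
    {T : Fin m → Subgroup G} [hN : N.Normal] [IsPretransitive N Ω] (h : Fac N T)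
    (hm : 2 ≤ m ∨ (centralizer (N : Set G) ≠ ⊥ ∧ ∀ i, T i = N)) :
    ∃ x y z : G, (∀ ω : Ω, x • ω ≠ ω) ∧ (∀ ω : Ω, y • ω ≠ ω) ∧ (∀ ω : Ω, z • ω ≠ ω) ∧
      ¬ IsConj x y ∧ ¬ IsConj x z ∧ ¬ IsConj y z := by
  rcases h.derang hG hm with ⟨i, hi⟩ | ⟨i, j, hij, u, hu, hi⟩
  · have := h.simple i
    obtain ⟨x, hx, y, hy, z, hz, px, py, pz, h1, h2, h3⟩ := exists_three_orders (h.nonab i)
    have key : ∀ {a b : G}, IsConj a b → orderOf a = orderOf b := fun hc => by
      obtain ⟨g, rfl⟩ := isConj_iff.1 hc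
      exact ((MulAut.conj g).orderOf_eq _).symm
    have ne : ∀ {a : G}, (orderOf a).Prime → a ≠ 1 := by
      rintro _ ha rfl
      simp [Nat.not_prime_one] at ha
    exact ⟨x, y, z, hi x hx (ne px), hi y hy (ne py), hi z hz (ne pz), fun c => h1 (key c),
      fun c => h2 (key c), fun c => h3 (key c)⟩
  · have := h.simple j
    obtain ⟨x, hx, y, hy, z, hz, -, -, -, h1, h2, h3⟩ := exists_three_orders (h.nonab j)
    have hu1 : u ≠ 1 := by
      rintro rfl
      exact hi 1 (one_mem _) (Classical.arbitrary Ω) (by simp)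
    exact ⟨_, _, _, hi x hx, hi y hy, hi z hz, fun c => h1 (h.orderOf_eq hij hu hu1 hx hy c),
      fun c => h2 (h.orderOf_eq hij hu hu1 hx hz c), fun c => h3 (h.orderOf_eq hij hu hu1 hy hz c)⟩

end H25
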