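import Mathlib
import Cfsg.Agent.H25.Prim

/-! Stabilisers of partitions in symmetric groups. -/

set_option autoImplicit false

namespace H25

open Equiv Equiv.Perm MulAction

variable {Ω ι : Type*}

/-- The stabiliser of the partition into fibres of `f`. -/
def partStab (f : Ω → ι) : Subgroup (Perm Ω) where
  carrier := {g | ∀ x y : Ω, f x = f y ↔ f (g x) = f (g y)}
  one_mem' := fun _ _ => Iff.rfl
  mul_mem' := fun {g h} hg hh x y => (hh x y).trans (hg _ _)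
  inv_mem' := fun {g} hg x y => by simpa using (hg (g⁻¹ x) (g⁻¹ y)).symm

theorem mem_partStab {f : Ω → ι} {g : Perm Ω} :
    g ∈ partStab f ↔ ∀ x y : Ω, f x = f y ↔ f (g x) = f (g y) := Iff.rfl

theorem closure_partStab (f : Ω → ι) :
    Subgroup.closure {g : Perm Ω | ∀ x y : Ω, f x = f y ↔ f (g x) = f (g y)} = partStab f :=
  (partStab f).closure_eq

theorem mem_partStab_of {f : Ω → ι} {g : Perm Ω} (π : ι → ι) (hπ : Function.Injective π)
    (h : ∀ x, f (g x) = π (f x)) : g ∈ partStab f := fun x y => by rw [h, h, hπ.eq_iff]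

theorem apply_swap_of_eq [DecidableEq Ω] {f : Ω → ι} {x y : Ω} (h : f x = f y) (z : Ω) :
    f (swap x y z) = f z := by
  rw [swap_apply_def]; split_ifs <;> simp_all

theorem swap_mem_partStab [DecidableEq Ω] {f : Ω → ι} {x y : Ω} (h : f x = f y) :
    swap x y ∈ partStab f := mem_partStab_of id Function.injective_id (apply_swap_of_eq h)

theorem le_partStab_of {f : Ω → ι} {L : Subgroup (Perm Ω)}
    (h : ∀ g ∈ L, ∀ x y, f x = f y → f (g x) = f (g y)) : L ≤ partStab f := fun g hg x y =>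
  ⟨h g hg x y, fun h' => by simpa using h g⁻¹ (L.inv_mem hg) _ _ h'⟩

theorem exists_equiv_prod [Finite Ω] {a : ℕ} (f : Ω → ι)
    (hf : ∀ i, Nat.card {x : Ω // f x = i} = a) :
    ∃ e : Ω ≃ ι × Fin a, ∀ x, (e x).1 = f x := by
  have h : ∀ i, Nonempty ({x : Ω // f x = i} ≃ Fin a) := fun i =>
    ⟨Finite.equivFinOfCardEq (hf i)⟩
  refine ⟨(sigmaFiberEquiv f).symm.trans ((sigmaCongrRight fun i => (h i).some).trans
    (sigmaEquivProd ι (Fin a))), fun x => rfl⟩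

section uniform
variable {a : ℕ} {f : Ω → ι} (e : Ω ≃ ι × Fin a) (he : ∀ x, (e x).1 = f x)
include he

theorem apply_symm_of_equiv (i : ι) (j : Fin a) : f (e.symm (i, j)) = i := by
  rw [← he]; simp

theorem exists_partStab_lift (π : Perm ι) : ∃ w ∈ partStab f, ∀ x, f (w x) = π (f x) := by
  have : ∀ x, f ((e.trans ((π.prodCongr (Equiv.refl _)).trans e.symm)) x) = π (f x) := by
    intro x; rw [← he, ← he]; simp
  exact ⟨_, mem_partStab_of π π.injective this, this⟩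

theorem exists_partStab_pair [DecidableEq Ω] {x y x' y' : Ω} (h : f x ≠ f y) (h' : f x' ≠ f y') :
    ∃ w ∈ partStab f, w x = x' ∧ w y = y' := by
  classical
  obtain ⟨π, h1, h2⟩ : ∃ π : Perm ι, π (f x) = f x' ∧ π (f y) = f y' := by
    refine ⟨swap (swap (f x) (f x') (f y)) (f y') * swap (f x) (f x'), ?_, by simp⟩
    rw [Perm.mul_apply, swap_apply_left, swap_apply_of_ne_of_ne _ h']
    rw [Ne, ← swap_apply_eq_iff, swap_apply_right]; exact h
  obtain ⟨w, hw, hw'⟩ := exists_partStab_lift e he π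
  have h3 : f (w x) = f x' := by rw [hw', h1]
  have h4 : f (w y) = f y' := by rw [hw', h2]
  refine ⟨swap (w y) y' * swap (w x) x' * w, mul_mem (mul_mem (swap_mem_partStab h4)
    (swap_mem_partStab h3)) hw, ?_, ?_⟩
  · simp only [Perm.mul_apply, swap_apply_left]
    exact swap_apply_of_ne_of_ne (fun h => h' (by rw [h, h4])) fun h => h' (by rw [h])
  · simp only [Perm.mul_apply]
    rw [swap_apply_of_ne_of_ne (x := w y) (fun h => h' (by rw [← h3, ← h, h4]))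
      (fun h => h' (by rw [← h, h4])), swap_apply_left]

theorem exists_two_in_fibre (ha : 2 ≤ a) (i : ι) : ∃ u v, u ≠ v ∧ f u = i ∧ f v = i :=
  ⟨e.symm (i, ⟨0, by omega⟩), e.symm (i, ⟨1, by omega⟩), by simp, apply_symm_of_equiv e he _ _,
    apply_symm_of_equiv e he _ _⟩

theorem exists_two_in_fibre' (ha : 3 ≤ a) (x : Ω) :
    ∃ u v, u ≠ v ∧ f u = f x ∧ f v = f x ∧ u ≠ x ∧ v ≠ x := by
  obtain ⟨j, k, h1, h2, h3⟩ : ∃ j k : Fin a, j ≠ k ∧ j ≠ (e x).2 ∧ k ≠ (e x).2 := by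
    generalize (e x).2 = l
    by_cases h0 : l.1 = 0
    · exact ⟨⟨1, by omega⟩, ⟨2, by omega⟩, by simp, by simp [Fin.ext_iff, h0],
        by simp [Fin.ext_iff, h0]⟩
    by_cases h1 : l.1 = 1
    · exact ⟨⟨0, by omega⟩, ⟨2, by omega⟩, by simp, by simp [Fin.ext_iff, h1],
        by simp [Fin.ext_iff, h1]⟩
    · exact ⟨⟨0, by omega⟩, ⟨1, by omega⟩, by simp, by simp [Fin.ext_iff]; omega,
        by simp [Fin.ext_iff]; omega⟩
  refine ⟨e.symm (f x, j), e.symm (f x, k), by simpa using h1, apply_symm_of_equiv e he _ _,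
    apply_symm_of_equiv e he _ _, fun h => h2 ?_, fun h => h3 ?_⟩
  · rw [← h]; simp
  · rw [← h]; simp

end uniform

/-- parity correction -/
theorem exists_even_of_swap [Fintype Ω] [DecidableEq Ω] {W : Subgroup (Perm Ω)} {w : Perm Ω}
    (hw : w ∈ W) {u v : Ω} (huv : u ≠ v) (h : swap u v ∈ W) :
    ∃ w' ∈ W ⊓ alternatingGroup Ω, ∀ x, w x ≠ u → w x ≠ v → w' x = w x := by
  rcases Int.units_eq_one_or (sign w) with hs | hs
  · exact ⟨w, ⟨hw, hs⟩, fun _ _ _ => rfl⟩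
  · refine ⟨swap u v * w, ⟨W.mul_mem h hw, ?_⟩, fun x h1 h2 => swap_apply_of_ne_of_ne h1 h2⟩
    simp [mem_alternatingGroup, hs, huv]

/-- A group which contains enough of the stabiliser of a partition and does not preserve the
partition is primitive. -/
theorem prim_of_partStab {f : Ω → ι} {L : Subgroup (Perm Ω)} (h0 : ∀ x, ∃ y, f x ≠ f y)
    (h1 : ∀ x y x' y', f x ≠ f y → f x' ≠ f y' → ∃ w ∈ L ⊓ partStab f, w x = x' ∧ w y = y')
    (h2 : ∀ x y y', f y = f x → f y' = f x → y ≠ x → y' ≠ x → ∃ w ∈ L, w x = x ∧ w y = y')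
    (hL : ¬ L ≤ partStab f) : IsPreprimitive L Ω := by
  have h3 : ∀ x x', ∃ w ∈ L ⊓ partStab f, w x = x' := fun x x' => by
    obtain ⟨y, hy⟩ := h0 x
    obtain ⟨y', hy'⟩ := h0 x'
    obtain ⟨w, hw, hx, -⟩ := h1 x y x' y' hy hy'
    exact ⟨w, hw, hx⟩
  have : IsPretransitive L Ω := ⟨fun x y => by
    obtain ⟨w, hw, hx⟩ := h3 x y
    exact ⟨⟨w, hw.1⟩, hx⟩⟩
  refine ⟨fun {B} hB => ?_⟩
  have hm : ∀ g ∈ L, ∀ x ∈ B, g x ∈ B → ∀ y ∈ B, g y ∈ B := fun g hg x hx hx' y hy =>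
    IsBlock.maps hB ⟨g, hg⟩ hx hx' hy
  rw [IsTrivialBlock, or_iff_not_imp_left, Set.not_subsingleton_iff]
  rintro ⟨x, hx, y, hy, hxy⟩
  by_cases hc : ∃ x ∈ B, ∃ y ∈ B, f x ≠ f y
  · obtain ⟨x, hx, y, hy, hxy⟩ := hc
    have key : ∀ x ∈ B, ∀ y ∈ B, f x ≠ f y → ∀ z, f x ≠ f z → z ∈ B := by
      intro x hx y hy hxy z hz
      obtain ⟨w, hw, h4, h5⟩ := h1 x y x z hxy hz
      exact h5 ▸ hm w hw.1 x hx (h4.symm ▸ hx) y hy
    rw [Set.eq_univ_iff_forall]
    intro z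
    by_cases hz : f x = f z
    · exact key y hy x hx hxy.symm z (hz ▸ hxy.symm)
    · exact key x hx y hy hxy z hz
  push Not at hc
  have hfib : ∀ z, f z = f x → z ∈ B := by
    intro z hz
    by_cases hzx : z = x
    · exact hzx ▸ hx
    obtain ⟨w, hw, h4, h5⟩ := h2 x y z (hc y hy x hx) hz hxy.symm hzx
    exact h5 ▸ hm w hw x hx (h4.symm ▸ hx) y hy
  refine absurd (le_partStab_of fun g hg u v huv => ?_) hL
  obtain ⟨w, hw, hwu⟩ := h3 u x
  obtain ⟨w', hw', hwu'⟩ := h3 (g u) x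
  have := hm (w' * g * w⁻¹) (mul_mem (mul_mem hw'.1 hg) (inv_mem hw.1)) x hx
    (by rw [← hwu'] at hx; rw [← hwu]; simpa using hx) (w v)
    (hfib _ (by rw [← hwu]; exact ((hw.2 u v).1 huv).symm))
  rw [hw'.2, hwu']
  exact hc x hx _ (by simpa using this)

theorem partStab_ne_top [DecidableEq Ω] {f : Ω → ι} {x y z : Ω} (hxy : x ≠ y) (h : f x = f y)
    (h' : f x ≠ f z) : swap y z ∉ partStab f := by
  intro hm
  have := (hm x y).1 h
  rw [swap_apply_left, swap_apply_of_ne_of_ne hxy fun h => h' (by rw [h])] at this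
  exact h' this

theorem isCoatom_partStab [Finite Ω] [Nontrivial ι] {a : ℕ} (ha : 2 ≤ a) (f : Ω → ι)
    (hf : ∀ i, Nat.card {x : Ω // f x = i} = a) : IsCoatom (partStab f) := by
  classical
  obtain ⟨e, he⟩ := exists_equiv_prod f hf
  have h0 : ∀ x, ∃ y, f x ≠ f y := fun x => by
    obtain ⟨j, hj⟩ := exists_ne (f x)
    obtain ⟨u, -, -, hu, -⟩ := exists_two_in_fibre e he ha j
    exact ⟨u, hu ▸ hj.symm⟩
  obtain ⟨i⟩ : Nonempty ι := inferInstance
  obtain ⟨u, v, huv, hu, hv⟩ := exists_two_in_fibre e he ha i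
  refine ⟨fun h => ?_, fun L hL => ?_⟩
  · obtain ⟨z, hz⟩ := h0 u
    exact partStab_ne_top huv (hu.trans hv.symm) hz (h ▸ trivial)
  refine subgroup_eq_top_of_isPreprimitive_of_isSwap_mem (prim_of_partStab h0 ?_ ?_ hL.not_ge)
    (swap u v) ⟨u, v, huv, rfl⟩ (hL.le (swap_mem_partStab (hu.trans hv.symm)))
  · intro x y x' y' h h'
    obtain ⟨w, hw, h⟩ := exists_partStab_pair e he h h'
    exact ⟨w, ⟨hL.le hw, hw⟩, h⟩
  · intro x y y' h h' hy hy'
    exact ⟨swap y y', hL.le (swap_mem_partStab (h.trans h'.symm)),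
      swap_apply_of_ne_of_ne hy.symm hy'.symm, swap_apply_left _ _⟩

end H25
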