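import Cfsg.Agent.H4.Dickson
import Cfsg.Agent.H22.Linear

/-! The group `SL(2,5)`: presentation and basic facts. -/

set_option autoImplicit false

namespace H25

open Subgroup Matrix MatrixGroups

/-- Coset enumeration for the `(2,3,5)` triangle group over the cyclic subgroup of order 5. -/
theorem icosa_points {G X : Type*} [Group G] [MulAction G X] (u v : G)
    (hu : ∀ p : X, u • u • u • p = p) (hv : ∀ p : X, v • v • v • v • v • p = p)
    (huv : ∀ p : X, u • v • u • v • p = p) (p0 : X) (h0 : v • p0 = p0) :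
    ∃ S : Finset X, S.card ≤ 12 ∧ p0 ∈ S ∧ (∀ p ∈ S, u • p ∈ S) ∧ ∀ p ∈ S, v • p ∈ S := by
  classical
  have iu : ∀ p q : X, u • p = u • q → p = q := fun p q h => MulAction.injective u h
  have iv : ∀ p q : X, v • p = v • q → p = q := fun p q h => MulAction.injective v h
  obtain ⟨p1, e1⟩ : ∃ p, u • p0 = p := ⟨_, rfl⟩
  obtain ⟨p2, e2⟩ : ∃ p, u • p1 = p := ⟨_, rfl⟩
  have u2 : u • p2 = p0 := by rw [← e2, ← e1, hu]
  have v1 : v • p1 = p2 := iu _ _ (by rw [u2, ← e1]; have := huv p0; rwa [h0] at this)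
  obtain ⟨p3, e3⟩ : ∃ p, v • p2 = p := ⟨_, rfl⟩
  obtain ⟨p4, e4⟩ : ∃ p, v • p3 = p := ⟨_, rfl⟩
  obtain ⟨p5, e5⟩ : ∃ p, v • p4 = p := ⟨_, rfl⟩
  have v5 : v • p5 = p1 := by rw [← e5, ← e4, ← e3, ← v1, hv]
  have u3 : u • p3 = p5 := iv _ _ (iu _ _ (by rw [v5, e2, ← e3, huv]))
  obtain ⟨p6, e6⟩ : ∃ p, u • p5 = p := ⟨_, rfl⟩
  have u6 : u • p6 = p3 := by rw [← e6, ← u3, hu]
  obtain ⟨p7, e7⟩ : ∃ p, v • p6 = p := ⟨_, rfl⟩
  have u7 : u • p7 = p4 := by rw [← e7, ← e6, ← e5, huv]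
  obtain ⟨p8, e8⟩ : ∃ p, u • p4 = p := ⟨_, rfl⟩
  have u8 : u • p8 = p7 := by rw [← e8, ← u7, hu]
  have v8 : v • p8 = p6 := iu _ _ (by rw [u6, ← e8, ← e4, huv])
  obtain ⟨p9, e9⟩ : ∃ p, v • p7 = p := ⟨_, rfl⟩
  obtain ⟨p10, e10⟩ : ∃ p, v • p9 = p := ⟨_, rfl⟩
  have v10 : v • p10 = p8 := by rw [← e10, ← e9, ← e7, ← v8, hv]
  have u9 : u • p9 = p10 := iv _ _ (iu _ _ (by rw [v10, u8, ← e9, huv]))
  obtain ⟨p11, e11⟩ : ∃ p, u • p10 = p := ⟨_, rfl⟩
  have u11 : u • p11 = p9 := by rw [← e11, ← u9, hu]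
  have v11 : v • p11 = p11 := iu _ _ (by rw [u11]; nth_rw 1 [← e11]; rw [← e10, huv])
  refine ⟨[p0, p1, p2, p3, p4, p5, p6, p7, p8, p9, p10, p11].toFinset,
    List.toFinset_card_le _, by simp, ?_, ?_⟩
  · simp [e1, e2, u2, u3, e8, e6, u6, u7, u8, u9, e11, u11]
  · simp [h0, v1, e3, e4, e5, v5, e7, e9, v8, e10, v10, v11]

theorem card_le_of_235 {G : Type*} [Group G] (u v z : G) (hu : u ^ 3 = 1) (hv : v ^ 5 = 1)
    (hz : z ^ 2 = 1) (zu : Commute z u) (zv : Commute z v) (huv : (u * v) ^ 2 = z)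
    (htop : closure {u, v} = ⊤) : Finite G ∧ Nat.card G ≤ 120 := by
  classical
  have hzc : ∀ g : G, Commute z g := fun g => by
    have hg : g ∈ closure {u, v} := htop ▸ mem_top g
    induction hg using closure_induction with
    | mem x hx => rcases hx with rfl | rfl <;> assumption
    | one => exact Commute.one_right z
    | mul a b _ _ ha hb => exact ha.mul_right hb
    | inv a _ ha => exact ha.inv_right
  let K : Subgroup G := zpowers (z * v)
  have h10 : (z * v) ^ 10 = 1 := by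
    rw [zv.mul_pow, show 10 = 2 * 5 from rfl, pow_mul z, hz, one_pow, one_mul, pow_mul', hv, one_pow]
  have hzK : z ∈ K := ⟨5, by
    change (z * v) ^ ((5 : ℕ) : ℤ) = z
    rw [zpow_natCast, zv.mul_pow, hv, mul_one, show 5 = 2 * 2 + 1 from rfl, pow_succ, pow_mul, hz]
    simp⟩
  have hvK : v ∈ K := by
    have := K.mul_mem (K.inv_mem hzK) (mem_zpowers (z * v))
    simpa using this
  have hfo : IsOfFinOrder (z * v) := isOfFinOrder_iff_pow_eq_one.2 ⟨10, by norm_num, h10⟩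
  have hKf : Finite K := finite_zpowers.2 hfo
  have hK : Nat.card K ≤ 10 := by
    rw [Nat.card_zpowers]; exact orderOf_le_of_pow_eq_one (by norm_num) h10
  have hzq : ∀ p : G ⧸ K, z • p = p := fun p => by
    obtain ⟨g, rfl⟩ := QuotientGroup.mk_surjective p
    rw [MulAction.Quotient.smul_mk, QuotientGroup.eq, smul_eq_mul, (hzc g).eq]
    simpa using hzK
  obtain ⟨S, hS, h0, h1, h2⟩ := icosa_points (X := G ⧸ K) u v
    (fun p => by simp only [smul_smul]; rw [show u * (u * u) = u ^ 3 by simp [pow_succ'], hu, one_smul])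
    (fun p => by
      simp only [smul_smul]
      rw [show v * (v * (v * (v * v))) = v ^ 5 by simp [pow_succ'], hv, one_smul])
    (fun p => by
      simp only [smul_smul]
      rw [show u * (v * (u * v)) = (u * v) ^ 2 by simp [pow_two, mul_assoc], huv, hzq])
    ((1 : G) : G ⧸ K) (by
      rw [MulAction.Quotient.smul_mk, QuotientGroup.eq]; simpa using hvK)
  have hall : ∀ g : G, ∀ p ∈ S, g • p ∈ S := fun g => by
    have hg : g ∈ closure {u, v} := htop ▸ mem_top g
    induction hg using closure_induction with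
    | mem x hx => rcases hx with rfl | rfl <;> assumption
    | one => simp
    | mul a b _ _ ha hb => intro p hp; rw [mul_smul]; exact ha _ (hb p hp)
    | inv a _ ha =>
      intro p hp
      obtain ⟨q, hq, rfl⟩ :=
        Finset.surjOn_of_injOn_of_card_le _ ha (MulAction.injective a).injOn le_rfl hp
      simpa using hq
  have hS' : ∀ p : G ⧸ K, p ∈ S := fun p => by
    obtain ⟨g, rfl⟩ := QuotientGroup.mk_surjective p
    have := hall g _ h0
    rwa [MulAction.Quotient.smul_mk, smul_eq_mul, mul_one] at this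
  have hfq : Finite (G ⧸ K) := Finite.of_surjective (fun p : S => (p : G ⧸ K)) fun p => ⟨⟨p, hS' p⟩, rfl⟩
  have hq : Nat.card (G ⧸ K) ≤ 12 :=
    (Nat.card_le_card_of_surjective (fun p : S => (p : G ⧸ K)) fun p => ⟨⟨p, hS' p⟩, rfl⟩).trans
      (by simpa using hS)
  refine ⟨Finite.of_equiv _ (groupEquivQuotientProdSubgroup (s := K)).symm, ?_⟩
  rw [card_eq_card_quotient_mul_card_subgroup K]
  exact Nat.mul_le_mul hq hK

abbrev SL25 := SL(2, ZMod 5)

instance fact5 : Fact (Nat.Prime 5) := ⟨by norm_num⟩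

def sx : SL25 := ⟨!![0, -1; 1, -1], by simp [det_fin_two]⟩
def sy : SL25 := H4.upT 1

theorem sx_pow : sx ^ 3 = 1 := by decide
theorem sy_pow : sy ^ 5 = 1 := by decide
theorem sxy_pow : (sx * sy) ^ 2 = -1 := by decide
theorem sl25_neg_ne : (-1 : SL25) ≠ 1 := by decide

theorem sl25_top : Subgroup.closure {sx, sy} = ⊤ := by
  have h1 : sx ∈ Subgroup.closure {sx, sy} := Subgroup.subset_closure (by simp)
  have h2 : sy ∈ Subgroup.closure {sx, sy} := Subgroup.subset_closure (by simp)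
  refine H4.sl2_zmod_eq_top (s := 1) (t := -1) (by decide) (by decide) h2 ?_
  have : H4.loT (-1 : ZMod 5) = sx * sy * sy * (sx * sy) ^ 3 := by decide
  rw [this]
  exact mul_mem (mul_mem (mul_mem h1 h2) h2) (pow_mem (mul_mem h1 h2) 3)

theorem card_sl25 : Nat.card SL25 = 120 := by
  rw [H22.card_SL_two]; simp

theorem sl25_perfect : commutator SL25 = ⊤ := H22.commutator_SL_fin_eq_top 2 (by simp)

theorem card_center_sl25 : Nat.card (center SL25) = 2 := by
  rw [H22.card_center_SL 2 (by norm_num)]; simp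

theorem neg_one_mem_center_sl25 : (-1 : SL25) ∈ center SL25 := mem_center_iff.2 fun g => by simp

theorem mem_center_sl25 {g : SL25} : g ∈ center SL25 ↔ g = 1 ∨ g = -1 := by
  refine ⟨fun h => ?_, by rintro (rfl | rfl); exacts [one_mem _, neg_one_mem_center_sl25]⟩
  by_contra hc
  push Not at hc
  obtain ⟨y, -, hy⟩ := (Nat.card_eq_two_iff' (1 : center SL25)).1 card_center_sl25
  have a := hy ⟨g, h⟩ fun e => hc.1 (congrArg Subtype.val e)
  have b := hy ⟨-1, neg_one_mem_center_sl25⟩ fun e => sl25_neg_ne (congrArg Subtype.val e)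
  exact hc.2 (congrArg Subtype.val (a.trans b.symm))

theorem sl25_injective {H : Type*} [Group H] (f : SL25 →* H) (h : f (-1) ≠ 1) :
    Function.Injective f := by
  rw [← MonoidHom.ker_eq_bot_iff, eq_bot_iff]
  intro g hg
  rcases H22.SL_normal_le_center_or_eq_top sl25_perfect f.ker with h1 | h1
  · rcases mem_center_sl25.1 (h1 hg) with rfl | rfl
    · exact one_mem _
    · exact (h hg).elim
  · exact (h (show (-1 : SL25) ∈ f.ker from h1 ▸ mem_top _)).elim

theorem exists_hom_sl25 {H : Type*} [Group H] (u v z : H) (hu : u ^ 3 = 1) (hv : v ^ 5 = 1)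
    (hz : z ^ 2 = 1) (zu : Commute z u) (zv : Commute z v) (huv : (u * v) ^ 2 = z) :
    ∃ f : SL25 →* H, f sx = u ∧ f sy = v ∧ f (-1) = z := by
  let P : Subgroup (SL25 × H) := closure {(sx, u), (sy, v)}
  let a : P := ⟨(sx, u), subset_closure (by simp)⟩
  let b : P := ⟨(sy, v), subset_closure (by simp)⟩
  have hab : ((a * b) ^ 2 : P) = ((-1 : SL25), z) := by
    simp only [SubmonoidClass.coe_pow, coe_mul, a, b, Prod.mk_mul_mk, Prod.pow_mk, sxy_pow, huv]
  obtain ⟨hf, hc⟩ := card_le_of_235 a b ((a * b) ^ 2)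
    (Subtype.ext (by simp [a, sx_pow, hu])) (Subtype.ext (by simp [b, sy_pow, hv]))
    (Subtype.ext (by rw [SubmonoidClass.coe_pow, hab]; simp [hz]))
    (Subtype.ext (by rw [coe_mul, coe_mul, hab]; simp [a, zu.eq]))
    (Subtype.ext (by rw [coe_mul, coe_mul, hab]; simp [b, zv.eq])) rfl (by
      apply Subgroup.map_injective P.subtype_injective
      rw [MonoidHom.map_closure, ← MonoidHom.range_eq_map, range_subtype]
      simp [a, b, P, Set.image_insert_eq])
  let π : P →* SL25 := (MonoidHom.fst _ _).comp P.subtype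
  have hs : Function.Surjective π := by
    rw [← MonoidHom.range_eq_top, eq_top_iff, ← sl25_top, closure_le]
    rintro g (rfl | rfl)
    exacts [⟨a, rfl⟩, ⟨b, rfl⟩]
  have hb : Function.Bijective π := (Nat.bijective_iff_surjective_and_card π).2
    ⟨hs, le_antisymm (card_sl25 ▸ hc) (Nat.card_le_card_of_surjective π hs)⟩
  let e := MulEquiv.ofBijective π hb
  have ea : e.symm sx = a := e.symm_apply_eq.2 rfl
  have eb : e.symm sy = b := e.symm_apply_eq.2 rfl
  have h1 : ((MonoidHom.snd _ _).comp P.subtype).comp e.symm.toMonoidHom sx = u := by simp [ea, a]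
  have h2 : ((MonoidHom.snd _ _).comp P.subtype).comp e.symm.toMonoidHom sy = v := by simp [eb, b]
  exact ⟨_, h1, h2, by rw [← sxy_pow, map_pow, map_mul, h1, h2, huv]⟩

/-- the matrices as quadruples -/
def sl25q (g : SL25) : ZMod 5 × ZMod 5 × ZMod 5 × ZMod 5 := (g.1 0 0, g.1 0 1, g.1 1 0, g.1 1 1)

theorem sl25q_inj : Function.Injective sl25q := fun g h e => by
  simp only [sl25q, Prod.mk.injEq] at e
  exact H4.sl2_ext e.1 e.2.1 e.2.2.1 e.2.2.2

theorem sl25_det (g : SL25) : g.1 0 0 * g.1 1 1 - g.1 0 1 * g.1 1 0 = 1 := by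
  rw [← det_fin_two]; exact g.2

def mkSL (a b c d : ZMod 5) (h : a * d - b * c = 1) : SL25 := ⟨!![a, b; c, d], by simpa [det_fin_two]⟩

theorem sl25_cases (P : SL25 → Prop) (h : ∀ a b c d h, P (mkSL a b c d h)) (g : SL25) : P g := by
  have := h _ _ _ _ (sl25_det g)
  convert this
  apply H4.sl2_ext <;> rfl

theorem sl25_three (g : SL25) : orderOf g = 3 ↔ g.1 0 0 + g.1 1 1 = -1 := by
  rw [orderOf_eq_prime_iff]
  revert g
  apply sl25_cases
  decide +kernel

theorem sl25_five (g : SL25) (h : g ^ 5 = 1) : g.1 0 0 + g.1 1 1 = 2 := by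
  revert g
  apply sl25_cases
  decide +kernel

theorem sl25_sq (g : SL25) (h : g ^ 2 = -1) : g.1 0 0 + g.1 1 1 = 0 := by
  revert g
  apply sl25_cases
  decide +kernel

theorem sl25_invol (g : SL25) (h : g ^ 2 = 1) : g = 1 ∨ g = -1 := by
  revert g
  apply sl25_cases
  decide +kernel

theorem ncard_sl25_three : 20 ≤ {g : SL25 | orderOf g = 3}.ncard := by
  classical
  rw [← Set.ncard_image_of_injective _ sl25q_inj]
  have : (Finset.univ.filter fun t : ZMod 5 × ZMod 5 × ZMod 5 × ZMod 5 =>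
    t.1 * t.2.2.2 - t.2.1 * t.2.2.1 = 1 ∧ t.1 + t.2.2.2 = -1).card = 20 := by decide +kernel
  rw [← this, ← Set.ncard_coe_finset]
  refine Set.ncard_le_ncard ?_ (Set.toFinite _)
  rintro ⟨a, b, c, d⟩ h
  simp only [Finset.coe_filter, Finset.mem_univ, true_and, Set.mem_setOf_eq] at h
  exact ⟨mkSL a b c d h.1, (sl25_three _).2 h.2, rfl⟩

theorem ncard_sl25_pairs :
    {t : SL25 × SL25 | orderOf t.1 = 3 ∧ t.2 ^ 5 = 1 ∧ (t.1 * t.2) ^ 2 = -1}.ncard ≤ 120 := by
  classical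
  rw [← Set.ncard_image_of_injective _ (sl25q_inj.prodMap sl25q_inj)]
  have : (((Finset.univ.filter fun t : ZMod 5 × ZMod 5 × ZMod 5 × ZMod 5 =>
    t.1 * t.2.2.2 - t.2.1 * t.2.2.1 = 1 ∧ t.1 + t.2.2.2 = -1) ×ˢ
    (Finset.univ.filter fun t : ZMod 5 × ZMod 5 × ZMod 5 × ZMod 5 =>
    t.1 * t.2.2.2 - t.2.1 * t.2.2.1 = 1 ∧ t.1 + t.2.2.2 = 2)).filter fun t =>
      t.1.1 * t.2.1 + t.1.2.1 * t.2.2.2.1 + (t.1.2.2.1 * t.2.2.1 + t.1.2.2.2 * t.2.2.2.2) = 0).card
      = 120 := by decide +kernel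
  rw [← this, ← Set.ncard_coe_finset]
  refine Set.ncard_le_ncard ?_ (Set.toFinite _)
  rintro _ ⟨⟨g, h⟩, ⟨h1, h2, h3⟩, rfl⟩
  have h4 := sl25_sq _ h3
  rw [H4.sl2_mul_apply, H4.sl2_mul_apply] at h4
  simp only [Finset.coe_filter, Finset.mem_product, Finset.mem_filter, Finset.mem_univ, true_and,
    Set.mem_setOf_eq]
  exact ⟨⟨⟨sl25_det g, (sl25_three g).1 h1⟩, sl25_det h, sl25_five h h2⟩, h4⟩

end H25
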