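import Cfsg.Agent.H5.Fstar
import Cfsg.Agent.H10.Misc
import Cfsg.Agent.H11.CharP

/-! The Thompson-Wielandt theorem. -/

set_option autoImplicit false

namespace H25.TW

open Subgroup Cfsg H5
open H10 (resOf)

variable {G : Type*} [Group G] [Finite G] {p : ℕ}

theorem res_sup [Fact p.Prime] {V Q L : Subgroup G} (hV : SN V L) (hQ : IsPGroup p Q) (hQL : Q ≤ L)
    (hn : V ≤ normalizer (Q : Set G)) : resOf p (V ⊔ Q) = resOf p V :=
  le_antisymm (H10.resOf_le_resOf (H10.SubnIn.resOf_le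
    (hV.mono le_sup_left (sup_le hV.le hQL)) hQ hn le_rfl)) (H10.resOf_mono le_sup_left)

theorem le_norm_res [Fact p.Prime] {V Q L : Subgroup G} (hV : SN V L) (hQ : IsPGroup p Q) (hQL : Q ≤ L)
    (hn : V ≤ normalizer (Q : Set G)) : Q ≤ normalizer (resOf p V : Set G) := by
  rw [← res_sup hV hQ hQL hn]
  exact le_sup_right.trans (H10.le_NN_resOf _)

theorem sn_res (L : Subgroup G) : SN (resOf p L) L :=
  SN.of_normal (H10.resOf_le L) (H10.le_NN_resOf L)

theorem le_cent_of_coprime {q : ℕ} [Fact p.Prime] [Fact q.Prime] (hpq : p ≠ q) {A B : Subgroup G}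
    (hA : IsPGroup p A) (hB : IsPGroup q B) (h1 : A ≤ normalizer (B : Set G))
    (h2 : B ≤ normalizer (A : Set G)) : A ≤ centralizer (B : Set G) := by
  rw [← commutator_eq_bot_iff_le_centralizer, eq_bot_iff,
    ← (IsPGroup.disjoint_of_ne p q hpq A B hA hB).eq_bot]
  exact le_inf (le_normalizer_iff_commutator_le_left.1 h2)
    (le_normalizer_iff_commutator_le_right.1 h1)

theorem coprime_of_mem {q : ℕ} [hp : Fact p.Prime] [hq : Fact q.Prime] (hpq : p ≠ q)
    {A : Subgroup G} (hA : IsPGroup p A) {x : G} (hx : x ∈ A) : (orderOf x).Coprime q := by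
  obtain ⟨k, hk⟩ := H11.exists_pow_pow_eq_one_of_mem hA hx
  exact Nat.Coprime.coprime_dvd_left (orderOf_dvd_of_pow_eq_one hk)
    (((Nat.coprime_primes hp.out hq.out).2 hpq).pow_left k)

theorem lemK [Fact p.Prime] (h0 : pCore p G = ⊥) {D R V : Subgroup G} (hR : IsPGroup p R)
    (hRD : R ≤ D) (hn : D ≤ normalizer (R : Set G)) (hV : SN V ⊤) (h1 : normalizer (V : Set G) ≤ D)
    (h2 : ∀ q : ℕ, q.Prime → resOf q V ≠ ⊥ → normalizer (resOf q V : Set G) ≤ D) : R = ⊥ := by
  have := hR.isNilpotent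
  rw [eq_bot_iff, ← h0, ← opOf_top]
  refine le_opOf_of_le_fitOf hR (le_fitOf_of_centralizes le_top ?_ ?_)
  · rw [le_centralizer_iff, ← commutator_eq_bot_iff_le_centralizer]
    exact commutator_layerOf_eq_bot_of_le_normalizer le_top
      (hV.layerOf_le_normalizer.trans (h1.trans hn)) inferInstance
  rw [le_centralizer_iff, fitOf_eq_iSup]
  refine iSup_le fun q => le_centralizer_iff.1 ?_
  have := Fact.mk q.2
  by_cases hq : p = q
  · rw [← hq, opOf_top, h0]; exact le_centralizer_iff.1 bot_le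
  have nQ : ∀ X : Subgroup G, X ≤ normalizer (opOf q (⊤ : Subgroup G) : Set G) := fun X =>
    le_top.trans (self_le_normalizer_opOf _ _)
  have hQ := isPGroup_opOf q (⊤ : Subgroup G)
  refine fun c hc => H11.mem_centralizer_of_selfCentralizing hQ (C := opOf q ⊤ ⊓ D) inf_le_left
    (le_inf inf_le_left ?_) (coprime_of_mem hq hR hc) (nQ _ hc)
    (le_cent_of_coprime hq hR (hQ.to_le inf_le_left)
      (le_normalizer_inf (nQ _) (hRD.trans le_normalizer)) (inf_le_right.trans hn) hc)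
  by_cases h : resOf q V = ⊥
  · exact inf_le_right.trans ((centralizer_anti (le_inf (hV.le_opOf
      (H10.isPGroup_of_resOf_eq_bot h)) (le_normalizer.trans h1))).trans
      ((centralizer_le_normalizer _).trans h1))
  · exact inf_le_left.trans ((le_norm_res hV hQ le_top (nQ _)).trans (h2 q q.2 h))

theorem lemT0 [Fact p.Prime] {D W R : Subgroup G} (hW : SN W ⊤) (hp : resOf p W ≠ ⊥)
    (h1 : normalizer (resOf p W : Set G) ≤ D)
    (h2 : ∀ q : ℕ, q.Prime → resOf p (resOf q W) ≠ ⊥ →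
      normalizer (resOf p (resOf q W) : Set G) ≤ D)
    (hR : IsPGroup p R) (hRD : R ≤ D) (hn : D ≤ normalizer (R : Set G)) :
    pCore p G ≤ D ∧ R ≤ pCore p G := by
  have hP : IsPGroup p (pCore p G) := H10.isPGroup_pCore'
  have nP : ∀ X : Subgroup G, X ≤ normalizer (pCore p G : Set G) := fun X => le_normalizer_of_normal
  refine ⟨(le_norm_res hW hP le_top (nP _)).trans h1, ?_⟩
  let π := QuotientGroup.mk' (pCore p G)
  have key : ∀ U : Subgroup G, SN U ⊤ → normalizer (resOf p U : Set G) ≤ D →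
      normalizer (U.map π : Set (G ⧸ pCore p G)) ≤ D.map π := fun U hU h x hx => by
    obtain ⟨x, rfl⟩ := QuotientGroup.mk'_surjective _ x
    refine mem_map_of_mem _ (h ?_)
    have := le_normalizer_comap π (mem_comap.2 hx)
    rw [comap_map_eq, QuotientGroup.ker_mk'] at this
    rw [← res_sup hU hP le_top (nP _)]
    exact H10.NN_le_NN_resOf _ this
  have := lemK (H1.pCore_quotient_pCore (p := p) (G := G)) (hR.map π) (map_mono hRD)
    ((map_mono hn).trans (le_normalizer_map π))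
    (by simpa [map_top_of_surjective _ (QuotientGroup.mk'_surjective _), π] using hW.map π)
    (key W hW h1) fun q hq h => by
      have := Fact.mk hq
      rw [← H10.map_resOf] at h ⊢
      have hU := (sn_res (p := q) W).trans hW
      refine key _ hU (h2 q hq fun e => h ?_)
      rw [Subgroup.map_eq_bot_iff, QuotientGroup.ker_mk', ← opOf_top]
      exact hU.le_opOf (H10.isPGroup_of_resOf_eq_bot e)
  rwa [Subgroup.map_eq_bot_iff, QuotientGroup.ker_mk'] at this

/-- `H` is the normalizer of each of its nontrivial normal subgroups. -/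
def Prim (H : Subgroup G) : Prop :=
  ∀ X : Subgroup G, X ≠ ⊥ → X ≤ H → H ≤ normalizer (X : Set G) → normalizer (X : Set G) ≤ H

structure Pr (H K : Subgroup G) : Prop where
  nH : Prim H
  nK : Prim K
  ne : H ≠ K
  ex : ∃ g, K = cj g H

variable {H K : Subgroup G}

omit [Finite G] in
theorem prim_of_coatom (h : IsCoatom H) (h0 : H.normalCore = ⊥) : Prim H := fun X hX h1 h2 => by
  refine ((h.le_iff.1 h2).resolve_left fun e => hX ?_).le
  have := normalizer_eq_top_iff.1 e
  exact eq_bot_iff.2 (h0 ▸ normal_le_normalCore.2 h1)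

omit [Finite G] in
theorem Prim.cj (h : Prim H) (g : G) : Prim (cj g H) := fun X hX h1 h2 => by
  rw [← cj_cj_inv g X] at hX h1 h2 ⊢
  rw [← cj_normalizer, cj_le_cj_iff] at h2 ⊢
  exact h _ (fun e => hX (cj_eq_bot_iff.2 e)) (cj_le_cj_iff.1 h1) h2

omit [Finite G] in
theorem Pr.symm (h : Pr H K) : Pr K H :=
  ⟨h.nK, h.nH, h.ne.symm, h.ex.elim fun g hg => ⟨g⁻¹, by rw [hg, cj_inv_cj]⟩⟩

omit [Finite G] in
theorem Pr.eq_bot (h : Pr H K) {X : Subgroup G} (h1 : X ≤ H) (h2 : H ≤ normalizer (X : Set G))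
    (h3 : X ≤ K) (h4 : K ≤ normalizer (X : Set G)) : X = ⊥ := by
  by_contra h0
  exact h.ne (le_antisymm (h2.trans (h.nK X h0 h3 h4)) (h4.trans (h.nH X h0 h1 h2)))

theorem Pr.op_bot (h : Pr H K) (hle : opOf p K ≤ opOf p H) : opOf p H = ⊥ := by
  obtain ⟨g, hg⟩ := h.ex
  have e := eq_of_le_of_card_ge hle (by rw [hg, ← cj_opOf, card_cj])
  exact h.eq_bot (opOf_le _ _) (self_le_normalizer_opOf _ _) (e ▸ opOf_le _ _)
    (e ▸ self_le_normalizer_opOf _ _)

theorem Pr.lemN [Fact p.Prime] (h : Pr H K) (hn : H ≤ normalizer (opOf p (H ⊓ K) : Set G)) :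
    opOf p (H ⊓ K) = ⊥ := by
  by_contra h0
  have l := opOf_le p (H ⊓ K)
  have h1 := h.nH _ h0 (l.trans inf_le_left) hn
  have nK := self_le_normalizer_opOf p K
  have hU : IsPGroup p (opOf p K ⊔ opOf p (H ⊓ K) : Subgroup G) :=
    (isPGroup_opOf p K).to_sup_of_normal_left' (isPGroup_opOf _ _) ((l.trans inf_le_right).trans nK)
  have nD := self_le_normalizer_opOf p (H ⊓ K)
  have h2 := H11.eq_of_inf_normalizer_le hU le_sup_right (le_opOf
    (le_inf (inf_le_right.trans h1) (inf_le_left.trans (sup_le (opOf_le _ _) (l.trans inf_le_right))))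
    (le_normalizer_inf (le_normalizer_sup (inf_le_right.trans nK) nD) (le_normalizer_normalizer nD))
    (hU.to_le inf_le_left))
  have h3 := le_opOf (l.trans inf_le_left) hn (isPGroup_opOf p _)
  exact h0 (eq_bot_iff.2 (h3.trans (h.op_bot ((le_sup_left.trans h2.ge).trans h3)).le))

theorem Pr.lemT [Fact p.Prime] (h : Pr H K) {X : Subgroup G} (h1 : X ≤ H)
    (h2 : H ≤ normalizer (X : Set G)) (h3 : SN X K) (hX : ¬ IsPGroup p X) : opOf p K = ⊥ := by
  have l := opOf_le p (K ⊓ H)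
  have key : ∀ U ≤ X, H ≤ normalizer (U : Set G) → resOf p (U.subgroupOf K) ≠ ⊥ →
      normalizer (resOf p (U.subgroupOf K) : Set K) ≤ H.subgroupOf K := fun U hU hn h0 => by
    rw [H10.resOf_subgroupOf_of_le (hU.trans h3.le)] at h0 ⊢
    rw [← subgroupOf_normalizer_eq ((H10.resOf_le U).trans (hU.trans h3.le))]
    exact comap_mono (h.nH _ (fun e => h0 (by rw [e, bot_subgroupOf]))
      ((H10.resOf_le U).trans (hU.trans h1)) (H10.le_NN_resOf' hn))
  have h0 : resOf p (X.subgroupOf K) ≠ ⊥ := fun e =>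
    hX ((H10.isPGroup_of_resOf_eq_bot e).of_equiv (subgroupOfEquivOfLe h3.le))
  obtain ⟨k1, k2⟩ := lemT0 (R := (opOf p (K ⊓ H)).subgroupOf K) (sn_top_iff.2 h3.2) h0
    (key X le_rfl h2 h0) (fun q hq => by
      have := Fact.mk hq
      rw [H10.resOf_subgroupOf_of_le h3.le]
      exact key _ (H10.resOf_le X) (H10.le_NN_resOf' h2))
    ((isPGroup_opOf p _).comap_subtype) (comap_mono (l.trans inf_le_right)) (by
      rw [← subgroupOf_normalizer_eq (l.trans inf_le_left), ← inf_subgroupOf_left]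
      exact comap_mono (self_le_normalizer_opOf p _))
  have e : opOf p (K ⊓ H) = opOf p K := le_antisymm
    ((map_subgroupOf_eq_of_le (l.trans inf_le_left)).ge.trans (map_mono k2))
    ((le_inf le_rfl (le_inf (opOf_le _ _) (map_le_iff_le_comap.2 k1))).trans
      (opOf_inf_le p inf_le_left))
  rw [← e]
  exact h.symm.lemN (e ▸ self_le_normalizer_opOf p K)

theorem Pr.lemE (h : Pr H K) (h1 : layerOf H ≤ K) (h2 : layerOf K ≤ H)
    (h3 : layerOf K ≤ centralizer (fitOf H : Set G)) : layerOf H = ⊥ := by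
  have hle : layerOf K ≤ layerOf H := layerOf_le_iff.2 fun L hL => by
    have l1 := hL.le_layerOf.trans h2
    refine ((hL.mono (le_inf l1 hL.le) inf_le_right).le_or_commutator_eq_bot
      ((sn_layerOf H).mono (le_inf (layerOf_le H) h1) inf_le_left)).resolve_right fun e => ?_
    exact qs_not_le_solvable hL.qs (isSolvable_fitOf H) (le_fitOf_of_centralizes l1
      (commutator_eq_bot_iff_le_centralizer.1 e) (hL.le_layerOf.trans h3))
  obtain ⟨g, hg⟩ := h.ex
  have e := eq_of_le_of_card_ge hle (by rw [hg, ← cj_layerOf, card_cj])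
  exact h.eq_bot (layerOf_le _) (self_le_normalizer_layerOf _) (e ▸ layerOf_le _)
    (e ▸ self_le_normalizer_layerOf _)

omit [Finite G] in
theorem Pr.op_iff (h : Pr H K) : opOf p H = ⊥ ↔ opOf p K = ⊥ := by
  obtain ⟨g, rfl⟩ := h.ex
  rw [← cj_opOf, cj_eq_bot_iff]

theorem Pr.main (h : Pr H K) {X Y : Subgroup G} (X0 : X ≠ ⊥) (x1 : X ≤ H)
    (x2 : H ≤ normalizer (X : Set G)) (x3 : SN X K) (Y0 : Y ≠ ⊥) (y1 : Y ≤ K)
    (y2 : K ≤ normalizer (Y : Set G)) (y3 : SN Y H) : ∃ p : ℕ, p.Prime ∧ IsPGroup p X ∧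
      IsPGroup p Y ∧ fstarOf H = opOf p H ∧ fstarOf K = opOf p K := by
  have e1 := x3.layerOf_le_normalizer.trans (h.nH X X0 x1 x2)
  have e2 := y3.layerOf_le_normalizer.trans (h.nK Y Y0 y1 y2)
  by_cases h0 : ∀ q : Nat.Primes, opOf q H = ⊥
  · have f : fitOf H = ⊥ := by rw [fitOf_eq_iSup]; exact iSup_eq_bot.2 h0
    have := h.lemE e2 e1 (f ▸ le_centralizer_iff.1 bot_le)
    exact (X0 (eq_bot_iff.2 (x1.trans (eq_bot_of_fstarOf_eq_bot
      (by rw [fstarOf_eq, this, f, bot_sup_eq])).le))).elim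
  obtain ⟨⟨p, hp⟩, h0⟩ := not_forall.1 h0
  have := Fact.mk hp
  have pX : IsPGroup p X := by_contra fun e => h0 (h.op_iff.2 (h.lemT x1 x2 x3 e))
  have pY : IsPGroup p Y := by_contra fun e => h0 (h.symm.lemT y1 y2 y3 e)
  have f : fitOf H = opOf p H := le_antisymm (by
    rw [fitOf_eq_iSup]
    refine iSup_le fun q => ?_
    by_cases hq : p = q
    · rw [← hq]
    have := Fact.mk q.2
    exact (h.symm.lemT y1 y2 y3 fun e => Y0 (disjoint_self.1
      (IsPGroup.disjoint_of_ne p q hq Y Y pY e))).trans_le bot_le) (opOf_le_fitOf p H)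
  have hP := isPGroup_opOf p H
  have c : layerOf K ≤ centralizer (opOf p H : Set G) := by
    rw [← H10.resOf_eq_of_perfect (p := p) (layerOf_perfect K), H10.resOf_le_iff]
    intro c hc ho
    have l : opOf p H ⊓ K ≤ K := inf_le_right
    have := (hP.to_le (inf_le_left (b := K))).isNilpotent
    refine H11.mem_centralizer_of_selfCentralizing hP (C := opOf p H ⊓ K) inf_le_left
      (le_inf inf_le_left (inf_le_right.trans ((centralizer_anti (le_inf (y3.le_opOf pY) y1)).trans
        ((centralizer_le_normalizer _).trans (h.nK Y Y0 y1 y2))))) ho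
      (self_le_normalizer_opOf p H (e1 hc)) (commutator_eq_bot_iff_le_centralizer.1
        (commutator_layerOf_eq_bot_of_le_normalizer l (le_normalizer_inf
          (e1.trans (self_le_normalizer_opOf p H)) ((layerOf_le K).trans le_normalizer))
          inferInstance) hc)
  have k : fstarOf H = opOf p H := by rw [fstarOf_eq, h.lemE e2 e1 (f ▸ c), f, bot_sup_eq]
  refine ⟨p, hp, pX, pY, k, ?_⟩
  obtain ⟨g, rfl⟩ := h.ex
  rw [← cj_fstarOf, ← cj_opOf, k]

omit [Finite G] in
def core (H Y : Subgroup G) : Subgroup G := (Y.subgroupOf H).normalCore.map H.subtype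

section
omit [Finite G]

theorem mem_core {Y : Subgroup G} {x : G} :
    x ∈ core H Y ↔ x ∈ H ∧ ∀ h ∈ H, h * x * h⁻¹ ∈ Y :=
  ⟨fun ⟨y, hy, e⟩ => e ▸ ⟨y.2, fun h hh => hy ⟨h, hh⟩⟩, fun ⟨h1, h2⟩ =>
    ⟨⟨x, h1⟩, fun h => h2 h h.2, rfl⟩⟩

theorem core_le (Y : Subgroup G) : core H Y ≤ H := fun _ hx => (mem_core.1 hx).1

theorem core_le' (Y : Subgroup G) : core H Y ≤ Y := fun _ hx => by
  simpa using (mem_core.1 hx).2 1 H.one_mem

theorem le_norm_core (Y : Subgroup G) : H ≤ normalizer (core H Y : Set G) :=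
  le_normalizer_iff_cj.2 fun g hg x hx => by
    obtain ⟨y, hy, rfl⟩ := hx
    obtain ⟨h1, h2⟩ := mem_core.1 hy
    exact mem_core.2 ⟨mul_mem (mul_mem hg h1) (inv_mem hg), fun h hh => by
      simpa [mul_assoc] using h2 _ (mul_mem hh hg)⟩

theorem le_core {X Y : Subgroup G} (h1 : X ≤ H) (h2 : X ≤ Y) (h3 : H ≤ normalizer (X : Set G)) :
    X ≤ core H Y := fun x hx =>
  mem_core.2 ⟨h1 hx, fun h hh => h2 ((mem_normalizer_iff.1 (h3 hh) x).1 hx)⟩

theorem sn_core2 (H K : Subgroup G) : SN (core H (core H (H ⊓ K) ⊓ core K (H ⊓ K))) K :=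
  SN.step ((core_le' _).trans inf_le_right) (((core_le' _).trans inf_le_left).trans (le_norm_core _))
    (SN.of_normal (core_le _) (le_norm_core _))

theorem relIndex_dvd_of_norm {X L M : Subgroup G} (h : L ≤ M) (hn : M ≤ normalizer (X : Set G)) :
    X.relIndex L ∣ X.relIndex M := by
  have : (X.subgroupOf M).Normal := H10.normal_subgroupOf hn
  rw [← relIndex_subgroupOf h]
  exact relIndex_dvd_index_of_normal _ _

end

theorem relIndex_core_dvd (H Y : Subgroup G) : (core H Y).relIndex H ∣ (Y.relIndex H).factorial := by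
  rw [core, relIndex, subgroupOf, comap_map_eq_self_of_injective H.subtype_injective,
    normalCore_eq_ker, index_ker, relIndex, index, ← Nat.card_perm]
  exact card_subgroup_dvd_card _

theorem relIndex_inf_dvd {ι : Type*} (s : Finset ι) (X : ι → Subgroup G) {m : ℕ}
    (hn : ∀ i, H ≤ normalizer (X i : Set G)) (hm : ∀ i, (X i).relIndex H ∣ m) :
    (s.inf X).relIndex H ∣ m ^ s.card := by
  classical
  induction s using Finset.induction_on with
  | empty => simp
  | insert a s ha ih =>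
    rw [Finset.inf_insert, ← relIndex_inf_mul_relIndex, Finset.card_insert_of_notMem ha, pow_succ']
    exact mul_dvd_mul ((relIndex_dvd_of_norm inf_le_right (hn a)).trans (hm a)) ih

theorem relIndex_core2 {d : ℕ} (h1 : (H ⊓ K).relIndex H = d) (h2 : (H ⊓ K).relIndex K = d) :
    (core H (core H (H ⊓ K) ⊓ core K (H ⊓ K))).relIndex H ∣
      d.factorial * (d - 1).factorial ^ d := by
  set A := core H (H ⊓ K)
  set B := core K (H ⊓ K)
  have d0 : d ≠ 0 := h1 ▸ index_ne_zero_of_finite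
  have nA : H ≤ normalizer (A : Set G) := le_norm_core _
  have nB : H ⊓ K ≤ normalizer (B : Set G) := inf_le_right.trans (le_norm_core _)
  have nC := le_normalizer_inf (inf_le_left.trans nA) nB
  have k1 : B.relIndex (H ⊓ K) ∣ (d - 1).factorial := by
    have := relIndex_core_dvd K (H ⊓ K)
    rw [← relIndex_mul_relIndex _ _ _ (core_le' _) inf_le_right, h2,
      ← Nat.mul_factorial_pred d0, mul_comm] at this
    exact Nat.dvd_of_mul_dvd_mul_left (Nat.pos_of_ne_zero d0) this
  rw [← relIndex_mul_relIndex _ A _ ((core_le' _).trans inf_le_left) (core_le _), mul_comm]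
  refine mul_dvd_mul (h1 ▸ relIndex_core_dvd H _) ?_
  have := Fintype.ofFinite (H ⧸ (H ⊓ K).subgroupOf H)
  have k2 := relIndex_inf_dvd (H := A) (m := (d - 1).factorial) Finset.univ
    (fun c : H ⧸ (H ⊓ K).subgroupOf H => cj (c.out : G) (A ⊓ B)) (fun c => by
      rw [← cj_normalizer]
      conv_lhs => rw [← cj_eq_of_mem_normalizer (nA c.out.2)]
      exact cj_mono ((core_le' _).trans nC)) fun c => by
      conv_lhs => enter [2]; rw [← cj_eq_of_mem_normalizer (nA c.out.2)]
      rw [relIndex_map_map_of_injective _ _ (MulAut.conj _).injective, inf_relIndex_left]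
      exact (relIndex_dvd_of_norm (core_le' _) nB).trans k1
  rw [Finset.card_univ, ← Nat.card_eq_fintype_card, show Nat.card _ = d from h1,
    ← inf_relIndex_right] at k2
  refine dvd_trans (relIndex_dvd_of_le_left _ ?_) k2
  refine fun x hx => mem_core.2 ⟨core_le _ hx.2, fun h hh => ?_⟩
  obtain ⟨e, he⟩ := QuotientGroup.mk_out_eq_mul ((H ⊓ K).subgroupOf H) ⟨h⁻¹, inv_mem hh⟩
  have hx1 := (mem_inf.1 hx).1
  rw [Finset.inf_eq_iInf, mem_iInf] at hx1
  have := mem_iInf.1 (hx1 (QuotientGroup.mk ⟨h⁻¹, inv_mem hh⟩)) (Finset.mem_univ _)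
  rw [mem_cj, he] at this
  simpa [mul_assoc] using (mem_normalizer_iff.1 (nC e.2) _).1 this

theorem Pr.tw (h : Pr H K) (h1 : core H (core H (H ⊓ K) ⊓ core K (H ⊓ K)) ≠ ⊥)
    (h2 : core K (core H (H ⊓ K) ⊓ core K (H ⊓ K)) ≠ ⊥) : ∃ p : ℕ, p.Prime ∧
      IsPGroup p (core H (core H (H ⊓ K) ⊓ core K (H ⊓ K))) ∧
      IsPGroup p (core K (core H (H ⊓ K) ⊓ core K (H ⊓ K))) ∧
      fstarOf H = opOf p H ∧ fstarOf K = opOf p K :=
  h.main h1 (core_le _) (le_norm_core _) (sn_core2 H K) h2 (core_le _) (le_norm_core _)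
    (by rw [inf_comm, inf_comm H]; exact sn_core2 K H)

theorem Pr.card_eq (h : Pr H K) : Nat.card K = Nat.card H := by
  obtain ⟨g, rfl⟩ := h.ex
  exact card_cj _ _

theorem Pr.relIndex_eq (h : Pr H K) : (H ⊓ K).relIndex K = (H ⊓ K).relIndex H := by
  have k1 := ((H ⊓ K).subgroupOf H).card_mul_index
  have k2 := ((H ⊓ K).subgroupOf K).card_mul_index
  rw [Nat.card_congr (subgroupOfEquivOfLe inf_le_left).toEquiv] at k1
  rw [Nat.card_congr (subgroupOfEquivOfLe inf_le_right).toEquiv, h.card_eq, ← k1] at k2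
  exact Nat.eq_of_mul_eq_mul_left Nat.card_pos k2

theorem Pr.card_dvd (h : Pr H K) {d : ℕ} (hd : (H ⊓ K).relIndex H = d)
    (h0 : core H (core H (H ⊓ K) ⊓ core K (H ⊓ K)) = ⊥ ∨
      core K (core H (H ⊓ K) ⊓ core K (H ⊓ K)) = ⊥) :
    Nat.card H ∣ d.factorial * (d - 1).factorial ^ d := by
  have k := h.relIndex_eq.trans hd
  rcases h0 with h0 | h0
  · rw [← relIndex_bot_left, ← h0]; exact relIndex_core2 hd k
  · rw [← h.card_eq, ← relIndex_bot_left, ← h0, inf_comm, inf_comm H]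
    exact relIndex_core2 (inf_comm H K ▸ k) (inf_comm H K ▸ hd)

open MulAction in
theorem pr_stab {Ω : Type*} [MulAction G Ω] [FaithfulSMul G Ω] (hp : IsPreprimitive G Ω) {a b : Ω}
    {d : ℕ} (hd : Nat.card (orbit (stabilizer G a) b) = d) (h2 : 2 ≤ d) :
    Pr (stabilizer G a) (stabilizer G b) ∧
      (stabilizer G a ⊓ stabilizer G b).relIndex (stabilizer G a) = d := by
  have k : (stabilizer G a ⊓ stabilizer G b).relIndex (stabilizer G a) = d := by
    rw [← hd, inf_relIndex_left, Nat.card_coe_set_eq, ← index_stabilizer]; rfl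
  have hne : stabilizer G a ≠ stabilizer G b := fun e => by
    rw [← e, inf_idem, relIndex_self] at k; omega
  have : Nontrivial Ω := ⟨a, b, fun e => hne (e ▸ rfl)⟩
  obtain ⟨g, rfl⟩ := exists_smul_eq G a b
  have e := stabilizer_smul_eq_stabilizer_map_conj g a
  have : Prim (stabilizer G a) := prim_of_coatom (IsPreprimitive.isCoatom_stabilizer_of_isPreprimitive G a)
    (eq_bot_iff.2 fun x hx => eq_of_smul_eq_smul (α := Ω) fun y => by
      obtain ⟨k, rfl⟩ := exists_smul_eq G a y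
      have := hx k⁻¹
      rw [mem_stabilizer_iff, inv_inv, mul_smul, mul_smul, inv_smul_eq_iff] at this
      rw [this, one_smul])
  exact ⟨⟨this, e ▸ this.cj g, hne, g, e⟩, k⟩

end H25.TW
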