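import Cfsg.Agent.H25.TW

/-! Consequences of the Thompson-Wielandt theorem. -/

set_option autoImplicit false

namespace H25.TW

open Subgroup Cfsg H5 MulAction

variable {G : Type*} [Group G] {H K : Subgroup G}

theorem ker_orbit {Ω : Type*} [MulAction G Ω] (H : Subgroup G) (b : Ω) :
    (toPermHom H (orbit H b)).ker = (core H (H ⊓ stabilizer G b)).subgroupOf H := by
  ext x
  rw [mem_subgroupOf, mem_core, MonoidHom.mem_ker]
  refine ⟨fun hx => ⟨x.2, fun h hh => mem_inf.2 ⟨H.mul_mem (H.mul_mem hh x.2) (H.inv_mem hh), ?_⟩⟩,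
    fun hx => ?_⟩
  · have : (x : G) • h⁻¹ • b = h⁻¹ • b := congrArg Subtype.val
      (Equiv.congr_fun hx ⟨_, mem_orbit b (⟨h⁻¹, inv_mem hh⟩ : H)⟩)
    rw [mem_stabilizer_iff, mul_smul, mul_smul, this, smul_inv_smul]
  · ext ⟨_, h, rfl⟩
    have := (mem_inf.1 (hx.2 _ (inv_mem h.2))).2
    rw [mem_stabilizer_iff, inv_inv, mul_smul, mul_smul, inv_smul_eq_iff] at this
    exact this

variable [Finite G]

theorem Pr.fit_bot (h : Pr H K) (h1 : fitOf (H ⊓ K) ≤ core H (H ⊓ K)) : fitOf (H ⊓ K) = ⊥ := by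
  rw [fitOf_eq_iSup, iSup_eq_bot]
  intro p
  have := Fact.mk p.2
  have e : opOf p (H ⊓ K) = opOf p (core H (H ⊓ K)) := le_antisymm
    ((le_inf le_rfl ((opOf_le_fitOf p _).trans h1)).trans (opOf_inf_le p (core_le' _)))
    ((SN.of_normal (core_le' _) (inf_le_left.trans (le_norm_core _))).opOf_le p)
  exact h.lemN (e ▸ le_normalizer_opOf p (le_norm_core _))

theorem Pr.bot_or (h : Pr H K) (h1 : fitOf (H ⊓ K) = ⊥) :
    core H (core H (H ⊓ K) ⊓ core K (H ⊓ K)) = ⊥ ∨
      core K (core H (H ⊓ K) ⊓ core K (H ⊓ K)) = ⊥ := by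
  refine by_contra fun h0 => ?_
  obtain ⟨p, hp, p1, -⟩ := h.tw (not_or.1 h0).1 (not_or.1 h0).2
  have := Fact.mk hp
  exact (not_or.1 h0).1 (eq_bot_iff.2 ((le_opOf ((core_le' _).trans (inf_le_left.trans
    (core_le' _))) (inf_le_left.trans (le_norm_core _)) p1).trans ((opOf_le_fitOf p _).trans h1.le)))

theorem fit_le_core {Ω : Type*} [MulAction G Ω] {b : Ω} (hF : fitOf
    (((stabilizer G b).subgroupOf H).map (toPermHom H (orbit H b))) = ⊥) :
    fitOf (H ⊓ stabilizer G b) ≤ core H (H ⊓ stabilizer G b) := by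
  have e : H ⊓ stabilizer G b = ((stabilizer G b).subgroupOf H).map H.subtype := by
    rw [subgroupOf_map_subtype, inf_comm]
  have := (map_fitOf_le _ _).trans hF.le
  rw [map_le_iff_le_comap, MonoidHom.comap_bot, ker_orbit] at this
  conv_lhs => rw [e, ← map_fitOf_of_injective H.subtype_injective]
  exact map_le_iff_le_comap.2 this

end H25.TW
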