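import Cfsg.Agent.H25.TW2
import Cfsg.Agent.H10.Compl
import Cfsg.Agent.H6.Dihedral

/-! Primitive groups with a suborbit of length three. -/

set_option autoImplicit false

namespace H25.TW

open Subgroup Cfsg H5

theorem d12_of {H : Type*} [Group H] (hc : Nat.card H = 12) {x z s : H} (hx : orderOf x = 3)
    (hz : orderOf z = 2) (c : Commute x z) (hs : s * s = 1) (s1 : s ≠ 1) (sz : s ≠ z)
    (hn : ¬ IsMulCommutative H) : Nonempty (H ≃* DihedralGroup 6) := by
  classical
  have : Finite H := Nat.finite_of_card_ne_zero (by omega)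
  have ha : orderOf (x * z) = 6 := by
    rw [c.orderOf_mul_eq_mul_orderOf_of_coprime (by rw [hx, hz]; norm_num), hx, hz]
  have a3 : (x * z) ^ 3 = z := by
    rw [c.mul_pow, ← hx, pow_orderOf_eq_one, hx, pow_succ, ← hz, pow_orderOf_eq_one]; simp
  generalize x * z = a at ha a3
  have key : ∀ y ∈ zpowers a, ∃ i < 6, a ^ i = y := fun y hy => by
    rw [mem_zpowers_iff_mem_range_orderOf, ha, Finset.mem_image] at hy
    simpa using hy
  have a6 : a ^ 6 = 1 := ha ▸ pow_orderOf_eq_one a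
  have h1 : s ∉ zpowers a := fun h => by
    obtain ⟨i, hi, rfl⟩ := key s h
    rw [← pow_add, ← orderOf_dvd_iff_pow_eq_one, ha] at hs
    obtain rfl | rfl : i = 0 ∨ i = 3 := by omega
    exacts [s1 (pow_zero a), sz a3]
  have i2 : (zpowers a).index = 2 := by
    have := (zpowers a).card_mul_index
    rw [Nat.card_zpowers, ha, hc] at this; omega
  have top : closure {a, s} = ⊤ := eq_top_iff.2 fun g _ => by
    have l : zpowers a ≤ closure {a, s} := zpowers_le.2 (subset_closure (by simp))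
    by_cases hg : g ∈ zpowers a
    · exact l hg
    · simpa using mul_mem (l ((mul_mem_iff_of_index_two i2).2 (iff_of_false hg
        (mt (inv_mem_iff).1 h1)))) (subset_closure (k := {a, s}) (by simp) : s ∈ _)
  refine H6.equiv_dihedral_of_top ha hs ?_ h1 top
  obtain ⟨i, hi, e⟩ := key _ ((normal_of_index_eq_two i2).conj_mem a (mem_zpowers a) s)
  have o : orderOf (a ^ i) = 6 := by
    rw [e, ← ha]; exact (MulAut.conj s).orderOf_eq a
  rw [orderOf_pow, ha] at o
  obtain rfl | rfl : i = 1 ∨ i = 5 := by interval_cases i <;> simp_all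
  · refine (hn ?_).elim
    have c : a * s = s * a := by rw [pow_one, eq_mul_inv_iff_mul_eq] at e; exact e
    have := isMulCommutative_closure (k := ({a, s} : Set H)) (by
      rintro u (rfl | rfl) v (rfl | rfl) <;> simp [c])
    rw [top] at this
    exact ⟨⟨fun u v => congrArg Subtype.val (mul_comm' (⟨u, mem_top u⟩ : (⊤ : Subgroup H))
      ⟨v, mem_top v⟩)⟩⟩
  · rw [← e, eq_inv_iff_mul_eq_one, ← pow_succ, a6]

variable {G : Type*} [Group G] [Finite G] {H K : Subgroup G}

theorem relIndex_core_three (h3 : (H ⊓ K).relIndex H = 3) :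
    (core H (H ⊓ K)).relIndex (H ⊓ K : Subgroup G) ∣ 2 := by
  have := relIndex_core_dvd H (H ⊓ K)
  rw [← relIndex_mul_relIndex _ _ _ (core_le' _) inf_le_left, h3] at this
  exact Nat.dvd_of_mul_dvd_mul_right (k := 3) (by norm_num) this

theorem res_core_three (h3 : (H ⊓ K).relIndex H = 3) :
    H10.resOf 2 (core H (H ⊓ K)) = H10.resOf 2 (H ⊓ K) := by
  refine H10.resOf_eq_of_le (H10.resOf_le_of_pow fun x hx => ⟨1, ?_⟩) (core_le' _)
  have := H10.normal_subgroupOf ((inf_le_left (b := K)).trans (le_norm_core (H := H) (H ⊓ K)))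
  obtain ⟨c, hc⟩ := relIndex_core_three h3
  rw [pow_one, hc, pow_mul]
  exact pow_mem (((core H (H ⊓ K)).subgroupOf (H ⊓ K)).pow_index_mem ⟨x, hx⟩) c

theorem Pr.two_three (h : Pr H K) (h3 : (H ⊓ K).relIndex H = 3) :
    IsPGroup 2 (H ⊓ K : Subgroup G) := by
  have k := h.relIndex_eq.trans h3
  refine H10.isPGroup_of_resOf_eq_bot (h.eq_bot ((H10.resOf_le _).trans inf_le_left) ?_
    ((H10.resOf_le _).trans inf_le_right) ?_)
  · rw [← res_core_three h3]; exact H10.le_NN_resOf' (le_norm_core _)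
  · rw [inf_comm] at k ⊢
    rw [← res_core_three k]; exact H10.le_NN_resOf' (le_norm_core _)

theorem Pr.three (h : Pr H K) (h3 : (H ⊓ K).relIndex H = 3) :
    Nonempty (H ≃* Multiplicative (ZMod 3)) ∨ Nonempty (H ≃* Equiv.Perm (Fin 3)) ∨
      Nonempty (H ≃* DihedralGroup 6) ∨ Nonempty (H ≃* Equiv.Perm (Fin 4)) ∨
      Nonempty (H ≃* Equiv.Perm (Fin 4) × Multiplicative (ZMod 2)) := by
  have k := h.relIndex_eq.trans h3
  have hT := h.two_three h3
  have s1 : H10.IsSylowIn 2 (H ⊓ K) H := H10.isSylowIn_of_not_dvd inf_le_left hT (by omega)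
  have s2 : H10.IsSylowIn 2 (H ⊓ K) K := H10.isSylowIn_of_not_dvd inf_le_right hT (by omega)
  have i2 := relIndex_core_three h3
  have eQ : core H (H ⊓ K) = pCoreOf 2 H := le_antisymm
    (H10.le_pCoreOf (hT.to_le (core_le' _)) (core_le _) (le_norm_core _))
    (le_core (H10.pCoreOf_le _) s1.pCoreOf_le (H10.le_NN_pCoreOf _))
  rw [eQ] at i2
  have bot : ∀ N, N ≤ H ⊓ K → H ≤ normalizer (N : Set G) → K ≤ normalizer (N : Set G) → N = ⊥ :=
    fun N h1 h2 h3 => h.eq_bot (h1.trans inf_le_left) h2 (h1.trans inf_le_right) h3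
  obtain ⟨g, hK, hg⟩ : ∃ g, K = H10.cj g H ∧ H10.cj g (H ⊓ K) = H ⊓ K := by
    obtain ⟨g, hg⟩ := h.ex
    obtain ⟨c, hc, e⟩ := ((show H10.cj g H = K from hg.symm) ▸ s1.cj g).exists_cj s2
    refine ⟨c * g, ?_, (cj_mul c g _).trans e⟩
    exact ((cj_mul c g H).trans (by rw [← hg, cj_eq_of_mem hc])).symm
  have cT := (Subgroup.subgroupOf (H ⊓ K) H).card_mul_index
  rw [Nat.card_congr (subgroupOfEquivOfLe inf_le_left).toEquiv, ← relIndex, h3] at cT
  generalize H ⊓ K = T at *
  rcases (Nat.dvd_prime Nat.prime_two).1 i2 with i1 | i1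
  · have e := le_antisymm (relIndex_eq_one.1 i1) s1.pCoreOf_le
    have n1 : H ≤ normalizer (T : Set G) := e ▸ H10.le_NN_pCoreOf H
    rw [bot T le_rfl n1 (by
      rw [hK, ← hg]; exact (cj_mono n1).trans (cj_normalizer g T).le), card_bot] at cT
    have := Fact.mk Nat.prime_three
    exact Or.inl ⟨mulEquivOfPrimeCardEq (p := 3) (by omega) (by simp)⟩
  have a1 : H10.S3 H T := ⟨s1.le, hT, i1, h3⟩
  have a2 : H10.S3 K T := by have := a1.cj g; rwa [← hK, hg] at this
  have cQ := (Subgroup.subgroupOf (pCoreOf 2 H) T).card_mul_index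
  rw [Nat.card_congr (subgroupOfEquivOfLe a1.QT).toEquiv, ← relIndex, i1] at cQ
  by_cases hc : H10.CharPIn 2 H
  · have T0 : T ≠ ⊥ := fun e => a1.not_le (e ▸ bot_le)
    have cj1 : ∀ {g : G} {H : Subgroup G}, H10.cj g T = T → H ≤ centralizer (H10.ZO 2 T : Set G) →
        H10.cj g H ≤ centralizer (H10.ZO 2 T : Set G) := fun {g H} hg h => by
      rw [← hg, ← H10.cj_ZO]; exact (cj_mono h).trans (cj_centralizer g _).le
    have n : ¬ (H ≤ centralizer (H10.ZO 2 T : Set G) ∧ K ≤ centralizer (H10.ZO 2 T : Set G)) :=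
      fun e => H10.ZO_ne_bot hT T0 (bot _ (H10.ZO_le T) (e.1.trans (centralizer_le_normalizer _))
        (e.2.trans (centralizer_le_normalizer _)))
    refine Or.inr (Or.inr (Or.inr ((H10.AM.equiv ⟨⟨a1, a2, bot⟩, hc, hK ▸ hc.cj g⟩
      (fun e => n ⟨e, hK ▸ cj1 hg e⟩) fun e => n ⟨?_, e⟩).imp And.left
      fun ⟨⟨e⟩, _⟩ => ⟨e.trans MulEquiv.prodComm⟩)))
    have := cj1 (g := g⁻¹) (by conv_lhs => rw [← hg]
                               exact cj_inv_cj g T) e
    rwa [hK, show H10.cj g⁻¹ (H10.cj g H) = H from cj_inv_cj g H] at this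
  have nQ := H10.le_NN_pCoreOf (p := 2) H
  have r1 := (a1.res_le inf_le_left (le_normalizer_inf le_normalizer
    (le_normalizer_centralizer nQ)) hc).trans inf_le_right
  have r2 : H10.resOf 2 K ≤ centralizer (pCoreOf 2 K : Set G) := by
    rw [hK, ← H10.cj_resOf, ← H10.cj_pCoreOf]; exact (cj_mono r1).trans (cj_centralizer g _).le
  have nT := le_normalizer_inf (a1.le.trans nQ) (a2.le.trans (H10.le_NN_pCoreOf (p := 2) K))
  have b := bot (pCoreOf 2 H ⊓ pCoreOf 2 K) (inf_le_left.trans a1.QT)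
    (a1.res_sup.ge.trans (sup_le (r1.trans ((centralizer_anti inf_le_left).trans
      (centralizer_le_normalizer _))) nT))
    (a2.res_sup.ge.trans (sup_le (r2.trans ((centralizer_anti inf_le_right).trans
      (centralizer_le_normalizer _))) nT))
  have q2 : Nat.card (pCoreOf 2 H) ∣ 2 := by
    rw [← relIndex_bot_left, ← b, inf_relIndex_left]
    exact (relIndex_dvd_of_norm a1.QT (a2.le.trans (H10.le_NN_pCoreOf (p := 2) K))).trans
      a2.idx2.dvd
  rcases (Nat.dvd_prime Nat.prime_two).1 q2 with q | q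
  · obtain ⟨φ, hφ⟩ := H10.exists_perm_hom (N := T.subgroupOf H) h3
    refine Or.inr (Or.inl ⟨MulEquiv.ofBijective φ ((Nat.bijective_iff_injective_and_card _).2
      ⟨(MonoidHom.ker_eq_bot_iff _).1 ?_, by rw [← cT, ← cQ, q]; simp [Fintype.card_perm, Nat.factorial]⟩)⟩)
    rw [hφ, ← map_eq_bot_iff_of_injective _ H.subtype_injective]
    exact eQ.trans (card_eq_one.1 q)
  have := Fact.mk Nat.prime_three
  obtain ⟨x, hx⟩ := exists_prime_orderOf_dvd_card' (G := H) 3 ⟨_, by rw [← cT, mul_comm]⟩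
  obtain ⟨z, hz⟩ := exists_prime_orderOf_dvd_card' (G := pCoreOf 2 H) 2 q.symm.dvd
  have q' : Nat.card (pCoreOf 2 K) = 2 := by
    rw [hK, ← H10.cj_pCoreOf]; exact (card_cj g _).trans q
  obtain ⟨s, hs⟩ := exists_prime_orderOf_dvd_card' (G := pCoreOf 2 K) 2 q'.symm.dvd
  have s1 : (s : G) ≠ 1 := fun e => by rw [← orderOf_coe, e, orderOf_one] at hs; omega
  have ss : (s : G) * s = 1 := by
    have := pow_orderOf_eq_one (s : G)
    rwa [orderOf_coe, hs, sq] at this
  refine Or.inr (Or.inr (Or.inl (d12_of (by omega) (z := ⟨z, H10.pCoreOf_le H z.2⟩)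
    (s := ⟨s, a1.le (a2.QT s.2)⟩) hx ((orderOf_coe _).symm.trans ((orderOf_coe z).trans hz))
    (Subtype.ext (r1 (H10.mem_resOf x.2 (by rw [orderOf_coe, hx]; norm_num)) z z.2).symm)
    (Subtype.ext ss)
    (fun e => s1 (congrArg Subtype.val e)) (fun e => s1 (mem_bot.1 (b.le (mem_inf.2
      ⟨(congrArg Subtype.val e : (s : G) = z) ▸ z.2, s.2⟩)))) fun e => a1.not_le_NN ?_)))
  exact (le_centralizer H).trans ((centralizer_anti a1.le).trans (centralizer_le_normalizer _))

end H25.TW
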