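import Cfsg.Agent.Lead.Fl0
import Cfsg.Agent.Lead.AS1

/-! A Burnside type fusion lemma for weakly closed subgroups. -/

set_option autoImplicit false

open Subgroup Cfsg H16 H16.H11 Module Lead.Fl Lead.Qf

namespace H25.Wc

variable {p : ℕ} [hp : Fact p.Prime]

theorem wc {X Ω : Type*} [Group X] [Finite X] [MulAction X Ω] {K S : Subgroup X} {D : Set X}
    (hD : ∀ k ∈ K, ∀ d ∈ D, k * d * k⁻¹ ∈ D) (hS : IsPiHallOf {p} S K) {x : Ω} {k : X} (hk : k ∈ K)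
    (h1 : ∀ d ∈ D, d ∈ S → d • x = x) (h2 : ∀ d ∈ D, d ∈ S → d • k • x = k • x) :
    ∃ n ∈ K ⊓ N[closure (D ∩ S)], n • x = k • x := by
  have pS : IsPGroup p S := IsPGroup.of_card (Nat.eq_prime_pow_of_unique_prime_dvd Nat.card_pos.ne'
    fun a b => hS.2.1 _ a b)
  have wS : closure (D ∩ S) ≤ S := (closure_le _).2 Set.inter_subset_right
  set C := K ⊓ MulAction.stabilizer X (k • x)
  have a1 : closure (D ∩ S) ≤ C := (closure_le _).2 fun d hd => ⟨hS.1 hd.2, h2 d hd.1 hd.2⟩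
  have a2 : (closure (D ∩ S)).map (MulAut.conj k).toMonoidHom ≤ C := map_le_iff_le_comap.2 ((closure_le _).2
    fun d hd => ⟨K.mul_mem (K.mul_mem hk (hS.1 hd.2)) (K.inv_mem hk), by
      show (k * d * k⁻¹) • k • x = k • x
      rw [mul_smul, inv_smul_smul, mul_smul, h1 d hd.1 hd.2]⟩)
  obtain ⟨P, hP⟩ := ((pS.to_le wS).comap_subtype (K := C)).exists_le_sylow
  obtain ⟨c, -, hc⟩ := Lead.AS.conj_into_T P.not_dvd_index le_top
    (((pS.to_le wS).map (MulAut.conj k).toMonoidHom).comap_subtype (K := C)) le_top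
  obtain ⟨h, -, hh⟩ := Lead.AS.conj_into_T (T := S.subgroupOf K) (hS.2.2 p hp.out rfl) le_top
    ((P.isPGroup'.map C.subtype).comap_subtype (K := K)) le_top
  have b0 : ∀ y : C, y ∈ P → (h : X) * y * (h : X)⁻¹ ∈ S := fun y hy => hh ⟨y, y.2.1⟩ ⟨y, hy, rfl⟩
  have b1 : Set.MapsTo (fun d => (h : X) * d * (h : X)⁻¹) (D ∩ S) (D ∩ S) := fun d hd =>
    ⟨hD h h.2 d hd.1, b0 ⟨d, a1 (subset_closure hd)⟩ (hP (subset_closure hd))⟩
  have b2 := ((Set.toFinite _).injOn_iff_bijOn_of_mapsTo b1).1 fun a _ b _ e => by simpa using e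
  have ck : (c : X) * k ∈ K := K.mul_mem c.2.1 hk
  have b3 : ∀ d ∈ D ∩ S, (c : X) * k * d * (c * k : X)⁻¹ ∈ D ∩ S := fun d hd => by
    have m : k * d * k⁻¹ ∈ (closure (D ∩ S)).map (MulAut.conj k).toMonoidHom := ⟨d, subset_closure hd, rfl⟩
    obtain ⟨d', e1, e2⟩ := b2.surjOn (show (h : X) * ((c : X) * k * d * (c * k : X)⁻¹) * (h : X)⁻¹ ∈ D ∩ S from
      ⟨hD h h.2 _ (hD _ ck d hd.1), by simpa [mul_assoc] using b0 _ (hc ⟨_, a2 m⟩ m)⟩)
    exact mul_left_cancel (mul_right_cancel e2) ▸ e1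
  refine ⟨c * k, ⟨ck, Lead.AS.mem_norm_of fun y hy => ?_⟩, by rw [mul_smul]; exact c.2.2⟩
  exact (closure_le (K := (closure (D ∩ S)).comap (MulAut.conj (c * k : X)).toMonoidHom)).2
    (fun d hd => subset_closure (b3 d hd)) hy

end H25.Wc
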