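import Cfsg.Agent.H1.FrobCons3

/-! Frobenius complements inside rational algebras; products of two elements of order three. -/

set_option autoImplicit false

namespace H25

open Subgroup Polynomial TensorProduct

universe u v

/-- A fixed-point-free representation in characteristic zero. -/
theorem exists_char_zero_rep (K : Type v) [Field K] [CharZero K] {H : Type u} [Group H] [Finite H]
    [Nontrivial H] {m : ℕ} (h : H1.FPF H m) (hm : 1 < m) :
    ∃ (V : Type (max u v)) (_ : AddCommGroup V) (_ : Module K V) (_ : Module.Finite K V)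
      (_ : Nontrivial V) (ρ : Representation K H V),
      ∀ g : H, g ≠ 1 → ∑ k ∈ Finset.range (orderOf g), ρ g ^ k = 0 := by
  obtain ⟨M, _, _, _, σ, hσ⟩ := h.exists_infinite_rep hm
  have hnt : Nontrivial (K ⊗[ℤ] M) := by
    have h1 : ¬ Module.IsTorsion ℤ M := fun h1 =>
      have := Module.finite_of_fg_torsion M h1
      not_finite M
    obtain ⟨x, hx⟩ := not_forall.1 h1
    have h2 : Function.Injective (LinearMap.toSpanSingleton ℤ M x) := by
      rw [injective_iff_map_eq_zero]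
      intro n hn
      by_contra h0
      exact hx ⟨⟨n, mem_nonZeroDivisors_of_ne_zero h0⟩, hn⟩
    have h3 := Module.Flat.lTensor_preserves_injective_linearMap (M := K) _ h2
    have : Nontrivial (K ⊗[ℤ] ℤ) := (TensorProduct.rid ℤ K).surjective.nontrivial
    exact h3.nontrivial
  let ρ : Representation K H (K ⊗[ℤ] M) :=
    { toFun := fun g => (σ g).baseChange K
      map_one' := by simp [LinearMap.baseChange_one]
      map_mul' := fun a b => by simp [LinearMap.baseChange_mul] }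
  refine ⟨K ⊗[ℤ] M, inferInstance, inferInstance, inferInstance, hnt, ρ, fun g hg => ?_⟩
  ext x
  have := hσ g hg x
  unfold H1.repNrm at this
  simp only [← map_pow]
  change (∑ k ∈ Finset.range (orderOf g), (σ (g ^ k)).baseChange K) (1 ⊗ₜ x) = 0
  rw [LinearMap.sum_apply]
  simp only [LinearMap.baseChange_tmul]
  rw [← tmul_sum, this, tmul_zero]

variable {G : Type u} [Group G] {R : Type v} [Ring R] [Algebra ℚ R]

/-- All norm elements of nontrivial cyclic subgroups vanish. -/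
structure QF (ρ : G →* R) : Prop where
  nt : Nontrivial R
  nrm : ∀ g : G, g ≠ 1 → ∑ k ∈ Finset.range (orderOf g), ρ g ^ k = 0

theorem exists_QF [Finite G] [Nontrivial G] {m : ℕ} (h : H1.FPF G m) (hm : 1 < m) :
    ∃ (R : Type u) (_ : Ring R) (_ : Algebra ℚ R) (ρ : G →* R), QF ρ := by
  obtain ⟨V, _, _, _, _, ρ, hρ⟩ := exists_char_zero_rep ℚ h hm
  exact ⟨Module.End ℚ V, inferInstance, inferInstance, ρ, inferInstance, hρ⟩

theorem isUnit_of_mul_eq_natCast {a b : R} {n : ℕ} (hn : n ≠ 0) (h1 : a * b = n) (h2 : b * a = n) :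
    IsUnit a := by
  have hn' : (n : ℚ) ≠ 0 := by exact_mod_cast hn
  have e : (n : ℚ)⁻¹ • (n : R) = 1 := by
    rw [← map_natCast (algebraMap ℚ R), Algebra.algebraMap_eq_smul_one, smul_smul,
      inv_mul_cancel₀ hn', one_smul]
  exact ⟨⟨a, (n : ℚ)⁻¹ • b, by rw [mul_smul_comm, h1, e], by rw [smul_mul_assoc, h2, e]⟩, rfl⟩

namespace QF

variable {ρ : G →* R} (h : QF ρ)
include h

theorem comp {H : Type*} [Group H] (f : H →* G) (hf : Function.Injective f) : QF (ρ.comp f) :=
  ⟨h.nt, fun g hg => by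
    have := h.nrm (f g) fun e => hg (hf (by rw [e, map_one]))
    rwa [orderOf_injective f hf] at this⟩

theorem isUnit [Finite G] {g : G} (hg : g ≠ 1) : IsUnit (1 - ρ g) := by
  refine isUnit_of_mul_eq_natCast (n := orderOf g) (orderOf_pos g).ne'
    (b := ∑ k ∈ Finset.range (orderOf g), ∑ i ∈ Finset.range k, ρ g ^ i) ?_ ?_
  · simp only [Finset.mul_sum (Finset.range (orderOf g)), mul_neg_geom_sum, Finset.sum_sub_distrib,
      h.nrm g hg]
    simp
  · simp only [Finset.sum_mul (Finset.range (orderOf g)), geom_sum_mul_neg, Finset.sum_sub_distrib,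
      h.nrm g hg]
    simp

theorem eq_one [Finite G] {g : G} (hg : ρ g = 1) : g = 1 := by
  by_contra h1
  have := h.isUnit h1
  have := h.nt
  rw [hg, sub_self] at *
  exact not_isUnit_zero ‹_›

theorem inj [Finite G] : Function.Injective ρ := fun a b e => by
  rw [← mul_inv_eq_one]
  apply h.eq_one
  rw [map_mul, e, ← map_mul, mul_inv_cancel, map_one]

theorem invol {g : G} (h2 : g ^ 2 = 1) (h1 : g ≠ 1) : ρ g = -1 := by
  have := h.nrm g h1
  rw [orderOf_eq_prime h2 h1] at this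
  simp only [Finset.sum_range_succ, Finset.range_zero, Finset.sum_empty, pow_zero, pow_one,
    zero_add] at this
  exact eq_neg_of_add_eq_zero_right this

theorem three {g : G} (h3 : orderOf g = 3) : ρ g * ρ g = -1 - ρ g := by
  have := h.nrm g (by rintro rfl; simp at h3)
  rw [h3] at this
  simp only [Finset.sum_range_succ, Finset.range_zero, Finset.sum_empty, pow_zero, pow_one,
    zero_add, pow_two] at this
  rw [← sub_eq_zero, ← this]; abel

theorem three_inv {g : G} (h3 : orderOf g = 3) : ρ g⁻¹ = -1 - ρ g := by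
  rw [← h.three h3, ← map_mul]
  congr 1
  have := pow_orderOf_eq_one g
  rw [h3, pow_succ, pow_two] at this
  exact (eq_inv_of_mul_eq_one_left this).symm

theorem cyclo [Finite G] (g : G) : aeval (ρ g) (cyclotomic (orderOf g) ℚ) = 0 := by
  have h0 := orderOf_pos g
  have h1 := prod_cyclotomic_eq_X_pow_sub_one h0 ℚ
  rw [← Nat.cons_self_properDivisors h0.ne', Finset.prod_cons] at h1
  have h2 : IsUnit (aeval (ρ g) (∏ d ∈ (orderOf g).properDivisors, cyclotomic d ℚ)) := by
    refine Finset.prod_induction _ (fun p => IsUnit (aeval (ρ g) p))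
      (fun a b ha hb => by rw [map_mul]; exact ha.mul hb) (by simp) fun d hd => ?_
    obtain ⟨hd1, hd2⟩ := Nat.mem_properDivisors.1 hd
    have hd0 : d ≠ 0 := by rintro rfl; exact h0.ne' (zero_dvd_iff.1 hd1)
    obtain ⟨q, hq⟩ := cyclotomic.dvd_X_pow_sub_one d ℚ
    have h3 := (h.isUnit (pow_ne_one_of_lt_orderOf hd0 hd2)).neg
    have h4 : aeval (ρ g) (X ^ d - 1 : ℚ[X]) = -(1 - ρ (g ^ d)) := by simp
    rw [← h4, hq, map_mul] at h3
    exact ((Commute.all (cyclotomic d ℚ) q).map (aeval (ρ g) : ℚ[X] →ₐ[ℚ] R)).isUnit_mul_iff.1 h3 |>.1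
  have h3 := congrArg (aeval (ρ g)) h1
  rw [map_mul, map_sub, map_pow, aeval_X, ← map_pow, pow_orderOf_eq_one, map_one, map_one,
    sub_self] at h3
  exact h2.mul_left_eq_zero.1 h3

theorem aeval_root [Finite G] (g : G) {F : ℚ[X]} (hF : aeval (ρ g) F = 0) {ζ : ℂ}
    (hζ : IsPrimitiveRoot ζ (orderOf g)) : aeval ζ F = 0 := by
  have := h.nt
  have h0 := orderOf_pos g
  have h1 := minpoly.eq_of_irreducible_of_monic (cyclotomic.irreducible_rat h0) (h.cyclo g)
    (cyclotomic.monic _ _)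
  obtain ⟨q, hq⟩ := minpoly.dvd ℚ (ρ g) hF
  rw [hq, ← h1, map_mul, cyclotomic_eq_minpoly_rat hζ h0, minpoly.aeval, zero_mul]

end QF

/-- The sequence `u ^ n + u ^ (-n)` as a polynomial in `u + u⁻¹`. -/
noncomputable def chebP (τ : ℚ[X]) : ℕ → ℚ[X]
  | 0 => 2
  | 1 => τ
  | n + 2 => τ * chebP τ (n + 1) - chebP τ n

theorem aeval_chebP {x a b : R} (τ : ℚ[X]) (hab : a * b = 1) (hba : b * a = 1)
    (h : aeval x τ = a + b) : ∀ n, aeval x (chebP τ n) = a ^ n + b ^ n
  | 0 => by simp [chebP, map_ofNat, one_add_one_eq_two]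
  | 1 => by simp [chebP, h]
  | n + 2 => by
    rw [chebP, map_sub, map_mul, h, aeval_chebP τ hab hba h (n + 1), aeval_chebP τ hab hba h n]
    have e1 : a * b ^ (n + 1) = b ^ n := by rw [pow_succ', ← mul_assoc, hab, one_mul]
    have e2 : b * a ^ (n + 1) = a ^ n := by rw [pow_succ', ← mul_assoc, hba, one_mul]
    rw [add_mul, mul_add, mul_add, e1, e2, ← pow_succ', ← pow_succ']
    abel

theorem chebP_real {ζ : ℂ} (τ : ℚ[X]) {t : ℝ} (ht : 2 < t) (h : aeval ζ τ = t) :
    ∀ n, ∃ r s : ℝ, aeval ζ (chebP τ n) = r ∧ aeval ζ (chebP τ (n + 1)) = s ∧ 2 ≤ r ∧ r < s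
  | 0 => ⟨2, t, by simp [chebP, map_ofNat], by simp [chebP, h], le_rfl, ht⟩
  | n + 1 => by
    obtain ⟨r, s, h1, h2, h3, h4⟩ := chebP_real τ ht h n
    refine ⟨s, t * s - r, h2, ?_, by linarith, by nlinarith⟩
    rw [chebP, map_sub, map_mul, h, h1, h2]; push_cast; ring

theorem exists_coprime_third {m : ℕ} (h0 : 0 < m) (h1 : m ≠ 1) (h3 : m ≠ 3) (h4 : m ≠ 4)
    (h6 : m ≠ 6) (h10 : m ≠ 10) : ∃ k : ℕ, k.Coprime m ∧ m < 3 * k ∧ 2 * k ≤ m := by
  have key : ∀ k c : ℕ, 2 * k + c = m → k.Coprime c → k.Coprime m := fun k c e hc => by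
    rw [← e, mul_comm, Nat.coprime_mul_left_add_right]; exact hc
  rcases Nat.even_or_odd' m with ⟨r, rfl | rfl⟩
  · rcases Nat.even_or_odd' r with ⟨s, rfl | rfl⟩
    · exact ⟨2 * s - 1, key _ 2 (by omega) (Nat.coprime_two_right.2 ⟨s - 1, by omega⟩), by omega,
        by omega⟩
    · rcases Nat.eq_zero_or_pos s with rfl | hs
      · exact ⟨1, by simp, by simp, by simp⟩
      · exact ⟨2 * s - 1, key _ (2 ^ 2) (by omega)
          ((Nat.coprime_two_right.2 ⟨s - 1, by omega⟩).pow_right 2), by omega, by omega⟩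
  · exact ⟨r, key _ 1 rfl (by simp), by omega, by omega⟩

theorem QF.order_cases [Finite G] {ρ : G →* R} (h : QF ρ) {g g' : G}
    (e : ρ g' + ρ g'⁻¹ = 1 - (ρ g + ρ g⁻¹)) :
    orderOf g = 1 ∨ orderOf g = 3 ∨ orderOf g = 4 ∨ orderOf g = 6 ∨ orderOf g = 10 := by
  by_contra hc
  push Not at hc
  have h0 := orderOf_pos g
  obtain ⟨k, hk, hk1, hk2⟩ := exists_coprime_third h0 hc.1 hc.2.1 hc.2.2.1 hc.2.2.2.1 hc.2.2.2.2
  set m := orderOf g with hm
  have hm0 : (0 : ℝ) < m := by exact_mod_cast h0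
  have hζ := Complex.isPrimitiveRoot_exp_of_coprime k m h0.ne' hk
  set ζ := Complex.exp (2 * Real.pi * Complex.I * (k / m)) with hζd
  let τ : ℚ[X] := 1 - (X + X ^ (m - 1))
  have hinv : g ^ (m - 1) = g⁻¹ := by
    rw [eq_inv_iff_mul_eq_one, ← pow_succ, Nat.sub_add_cancel h0, hm, pow_orderOf_eq_one]
  have h1 : aeval (ρ g) τ = ρ g' + ρ g'⁻¹ := by
    simp only [τ, map_sub, map_one, map_add, aeval_X, map_pow, e, ← hinv]
  have h2 := aeval_chebP τ (by rw [← map_mul, mul_inv_cancel, map_one])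
    (by rw [← map_mul, inv_mul_cancel, map_one]) h1 (orderOf g')
  rw [← map_pow, ← map_pow, inv_pow, pow_orderOf_eq_one, inv_one, map_one] at h2
  have h3 := h.aeval_root g (F := chebP τ (orderOf g') - 2)
    (by rw [map_sub, h2, map_ofNat, one_add_one_eq_two, sub_self]) hζ
  have h4 : aeval ζ τ = ((1 - 2 * Real.cos (2 * Real.pi * (k / m)) : ℝ) : ℂ) := by
    have : ζ ^ (m - 1) = ζ⁻¹ := by
      apply eq_inv_of_mul_eq_one_left
      rw [← pow_succ, Nat.sub_add_cancel h0, hζ.pow_eq_one]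
    simp only [τ, map_sub, map_one, map_add, aeval_X, map_pow, this]
    push_cast
    rw [Complex.two_cos, hζd, ← Complex.exp_neg]
    congr 3 <;> ring
  have h5 : Real.cos (2 * Real.pi * (k / m)) < -(1 / 2) := by
    rw [← Real.cos_pi_div_three, ← Real.cos_pi_sub]
    have hp := Real.pi_pos
    have a1 : (m : ℝ) < 3 * k := by exact_mod_cast hk1
    have a2 : (2 : ℝ) * k ≤ m := by exact_mod_cast hk2
    have a3 : (1 : ℝ) / 3 < k / m := by rw [div_lt_div_iff₀ (by norm_num) hm0]; linarith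
    have a4 : (k : ℝ) / m ≤ 1 / 2 := by rw [div_le_div_iff₀ hm0 (by norm_num)]; linarith
    exact Real.cos_lt_cos_of_nonneg_of_le_pi (by linarith) (by nlinarith) (by nlinarith)
  obtain ⟨r, s, -, h7, h8, h9⟩ := chebP_real τ (by linarith) h4 (orderOf g' - 1)
  rw [Nat.sub_add_cancel (orderOf_pos g')] at h7
  rw [map_sub, h7, map_ofNat, sub_eq_zero] at h3
  have : s = 2 := by exact_mod_cast h3
  linarith

end H25
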