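import Mathlib

/-! Systems of "pure quaternions" of norm three over a noncommutative coefficient algebra. -/

set_option autoImplicit false

namespace H25

section Coeff

variable {E : Type*} [Ring E] [Algebra ℚ E]

theorem eq_zero_of_nsmul {n : ℕ} (hn : n ≠ 0) {x : E} (h : n • x = 0) : x = 0 := by
  rw [← Nat.cast_smul_eq_nsmul ℚ, smul_eq_zero] at h
  exact h.resolve_left (by exact_mod_cast hn)

theorem false_of_nsmul_one [Nontrivial E] {n : ℕ} (hn : n ≠ 0) (h : n • (1 : E) = 0) : False :=
  one_ne_zero (eq_zero_of_nsmul hn h)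

/-- the square of `w + x i + y j + z k` is `n` -/
def QSq (w x y z n : E) : Prop :=
  w * w - x * x - y * y - z * z = n ∧ w * x + x * w + (y * z - z * y) = 0 ∧
    w * y + y * w + (z * x - x * z) = 0 ∧ w * z + z * w + (x * y - y * x) = 0

structure QSys (P : E → E → E → E → Prop) : Prop where
  nt : Nontrivial E
  sq : ∀ {a b c d}, P a b c d → QSq a b c d (-3)
  neg : ∀ {a b c d}, P a b c d → P (-a) (-b) (-c) (-d)
  ci : ∀ {a b c d}, P a b c d → P a b (-c) (-d)
  rot : ∀ {a b c d}, P a b c d → P a d b c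
  one : P 0 1 1 1
  pair : ∀ {a b c d a' b' c' d'}, P a b c d → P a' b' c' d' → ∀ w x y z,
    a * a' - b * b' - c * c' - d * d' + (a' * a - b' * b - c' * c - d' * d) = w →
    a * b' + b * a' + c * d' - d * c' + (a' * b + b' * a + c' * d - d' * c) = x →
    a * c' - b * d' + c * a' + d * b' + (a' * c - b' * d + c' * a + d' * b) = y →
    a * d' + b * c' - c * b' + d * a' + (a' * d + b' * c - c' * b + d' * a) = z →
    (a = a' ∧ b = b' ∧ c = c' ∧ d = d') ∨ (a = -a' ∧ b = -b' ∧ c = -c' ∧ d = -d') ∨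
      ((w = 2 ∨ w = -2) ∧ x = 0 ∧ y = 0 ∧ z = 0) ∨ QSq w x y z 20
  lb : ∀ {a b c d}, P a b c d → b * b - a * a = 1 → a * b + b * a = 0 → a = 0

namespace QSys

variable {P : E → E → E → E → Prop} (h : QSys P)
include h

theorem cj {a b c d : E} (p : P a b c d) : P a (-b) c (-d) := h.rot (h.ci (h.rot (h.rot p)))

theorem ck {a b c d : E} (p : P a b c d) : P a (-b) (-c) d := h.rot (h.rot (h.ci (h.rot p)))

theorem aux1 {a b c d : E} (p : P a b c d) (ha : a ≠ 0) :
    (b + c + d) * (b + c + d) = 5 + 3 • (a * a) ∧ a * (b + c + d) + (b + c + d) * a = 0 := by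
  rcases h.pair p h.one (-(2 • (b + c + d))) (2 • a) (2 • a) (2 • a) (by noncomm_ring)
    (by noncomm_ring) (by noncomm_ring) (by noncomm_ring) with e | e | e | e
  · exact (ha e.1).elim
  · exact (ha (by rw [e.1, neg_zero])).elim
  · exact (ha (eq_zero_of_nsmul two_ne_zero e.2.1)).elim
  · constructor
    · rw [← sub_eq_zero]
      apply eq_zero_of_nsmul (n := 4) (by norm_num)
      linear_combination (norm := (noncomm_ring <;> norm_num)) e.1
    · apply eq_zero_of_nsmul (n := 4) (by norm_num)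
      linear_combination (norm := (noncomm_ring <;> norm_num)) -e.2.1

theorem aux2 {a b c d : E} (p : P a b c d) (ha : a ≠ 0) :
    b * b = 2 ∧ b * b + c * c + d * d = 2 := by
  have := h.nt
  obtain ⟨s0, t0⟩ := h.aux1 p ha
  obtain ⟨s1, t1⟩ := h.aux1 (h.ci p) ha
  obtain ⟨s2, t2⟩ := h.aux1 (h.cj p) ha
  obtain ⟨s3, t3⟩ := h.aux1 (h.ck p) ha
  obtain ⟨q0, q1, q2, q3⟩ := h.sq p
  have ab : a * b + b * a = 0 := eq_zero_of_nsmul two_ne_zero
    (by linear_combination (norm := (noncomm_ring <;> norm_num)) t0 + t1)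
  have ac : a * c + c * a = 0 := eq_zero_of_nsmul two_ne_zero
    (by linear_combination (norm := (noncomm_ring <;> norm_num)) t0 + t2)
  have ad : a * d + d * a = 0 := eq_zero_of_nsmul two_ne_zero
    (by linear_combination (norm := (noncomm_ring <;> norm_num)) t0 + t3)
  have aa : a * a + 1 = 0 := eq_zero_of_nsmul (n := 8) (by norm_num)
    (by linear_combination (norm := (noncomm_ring <;> norm_num)) -(s0 + s1 + s2 + s3) - 4 • q0)
  have sm : b * b + c * c + d * d = 2 := by linear_combination (norm := (noncomm_ring <;> norm_num)) aa - q0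
  have bc : b * c = 0 := eq_zero_of_nsmul (n := 8) (by norm_num)
    (by linear_combination (norm := (noncomm_ring <;> norm_num)) s0 - s1 - s2 + s3 + 4 • q3 - 4 • ad)
  have bd : b * d = 0 := eq_zero_of_nsmul (n := 8) (by norm_num)
    (by linear_combination (norm := (noncomm_ring <;> norm_num)) s0 - s1 + s2 - s3 - 4 • q2 + 4 • ac)
  have cd : c * d - d * c = 0 := by linear_combination (norm := (noncomm_ring <;> norm_num)) q1 - ab
  have b4 : b * b * (b * b) = 2 • (b * b) := by
    have e1 : b * b * (c * c) = 0 := by rw [mul_assoc, ← mul_assoc b c, bc, zero_mul, mul_zero]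
    have e2 : b * b * (d * d) = 0 := by rw [mul_assoc, ← mul_assoc b d, bd, zero_mul, mul_zero]
    linear_combination (norm := (noncomm_ring <;> norm_num)) b * b * sm - e1 - e2
  have b1 : b * b ≠ 1 := fun e => by
    rw [e] at b4
    exact false_of_nsmul_one (E := E) one_ne_zero
      (by linear_combination (norm := (noncomm_ring <;> norm_num)) -b4)
  refine ⟨?_, sm⟩
  rcases h.pair p (h.ci p) (2 - 4 • (b * b)) 0 0 0
    (by linear_combination (norm := (noncomm_ring <;> norm_num)) 2 • aa + 2 • sm)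
    (by linear_combination (norm := (noncomm_ring <;> norm_num)) 2 • ab - 2 • cd) (by noncomm_ring)
    (by noncomm_ring) with e | e | e | e
  · have c0 : c = 0 := eq_zero_of_nsmul two_ne_zero
      (by linear_combination (norm := (noncomm_ring <;> norm_num)) e.2.2.1)
    have d0 : d = 0 := eq_zero_of_nsmul two_ne_zero
      (by linear_combination (norm := (noncomm_ring <;> norm_num)) e.2.2.2)
    simpa [c0, d0] using sm
  · exact (ha (eq_zero_of_nsmul two_ne_zero
      (by linear_combination (norm := (noncomm_ring <;> norm_num)) e.1))).elim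
  · rcases e.1 with e | e
    · have b0 : b * b = 0 := eq_zero_of_nsmul (n := 4) (by norm_num)
        (by linear_combination (norm := (noncomm_ring <;> norm_num)) -e)
      exact (ha (h.lb p (by linear_combination (norm := (noncomm_ring <;> norm_num)) b0 - aa) ab)).elim
    · refine (b1 (sub_eq_zero.1 (eq_zero_of_nsmul (n := 4) (by norm_num) ?_))).elim
      linear_combination (norm := (noncomm_ring <;> norm_num)) -e
  · refine (b1 (sub_eq_zero.1 (eq_zero_of_nsmul (n := 16) (by norm_num) ?_))).elim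
    linear_combination (norm := (noncomm_ring <;> norm_num)) e.1 - 16 • b4

theorem re_eq_zero {a b c d : E} (p : P a b c d) : a = 0 := by
  have := h.nt
  by_contra ha
  obtain ⟨e1, e0⟩ := h.aux2 p ha
  have e2 := (h.aux2 (h.rot p) ha).1
  have e3 := (h.aux2 (h.rot (h.rot p)) ha).1
  exact false_of_nsmul_one (E := E) (n := 4) (by norm_num)
    (by linear_combination (norm := (noncomm_ring <;> norm_num)) e0 - e1 - e2 - e3)

theorem aux3 {b c d : E} (p : P 0 b c d) : (b = 1 ∧ c = 1 ∧ d = 1) ∨ (b = -1 ∧ c = -1 ∧ d = -1) ∨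
    (b + c + d = 1 ∨ b + c + d = -1) ∨ (b + c + d) * (b + c + d) = 5 := by
  rcases h.pair p h.one (-(2 • (b + c + d))) 0 0 0 (by noncomm_ring)
    (by noncomm_ring) (by noncomm_ring) (by noncomm_ring) with e | e | e | e
  · exact Or.inl e.2
  · exact Or.inr (Or.inl e.2)
  · refine Or.inr (Or.inr (Or.inl ?_))
    rcases e.1 with e | e
    · refine Or.inr (sub_eq_zero.1 (eq_zero_of_nsmul two_ne_zero ?_))
      linear_combination (norm := (noncomm_ring <;> norm_num)) -e
    · refine Or.inl (sub_eq_zero.1 (eq_zero_of_nsmul two_ne_zero ?_))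
      linear_combination (norm := (noncomm_ring <;> norm_num)) -e
  · refine Or.inr (Or.inr (Or.inr (sub_eq_zero.1 (eq_zero_of_nsmul (n := 4) (by norm_num) ?_))))
    linear_combination (norm := (noncomm_ring <;> norm_num)) e.1

end QSys

/-- `x = ± y` -/
def PM (x y : E) : Prop := x = y ∨ x = -y

omit [Algebra ℚ E] in
theorem PM.sq {u : E} (h : PM u 1) : u * u = 1 := by rcases h with rfl | rfl <;> simp

omit [Algebra ℚ E] in
theorem PM.of_neg {x y : E} (h : PM (-x) y) : PM x y := by
  rcases h with h | h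
  · exact Or.inr (by rw [← h, neg_neg])
  · exact Or.inl (neg_injective h)

theorem five_key [Nontrivial E] {u v r s : E} (hu : u * u = 5) (hv : v * v = 5) (hr : PM r 1)
    (hs : PM s 1) (h : u + v + r + s = 0) : u + v = 0 ∧ r + s = 0 := by
  have key : ∀ u v : E, u * u = 5 → v * v = 5 → u + v = 2 → False := fun u v hu hv e => by
    have e1 : v = 2 - u := by rw [← e]; abel
    have e2 : u - 1 = 0 := eq_zero_of_nsmul (n := 4) (by norm_num) (by
      rw [e1] at hv
      linear_combination (norm := (noncomm_ring <;> norm_num)) hu - hv)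
    rw [sub_eq_zero.1 e2] at hu
    exact false_of_nsmul_one (E := E) (n := 4) (by norm_num)
      (by linear_combination (norm := (noncomm_ring <;> norm_num)) -hu)
  rcases hr with rfl | rfl <;> rcases hs with rfl | rfl
  · exact (key (-u) (-v) (by simpa using hu) (by simpa using hv)
      (by linear_combination (norm := (noncomm_ring <;> norm_num)) -h)).elim
  · exact ⟨by linear_combination (norm := (noncomm_ring <;> norm_num)) h, by simp⟩
  · exact ⟨by linear_combination (norm := (noncomm_ring <;> norm_num)) h, by simp⟩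
  · exact (key u v hu hv (by linear_combination (norm := (noncomm_ring <;> norm_num)) h)).elim

theorem four_key [Nontrivial E] {u0 u1 u2 u3 : E} (h0 : PM u0 1 ∨ u0 * u0 = 5)
    (h1 : PM u1 1 ∨ u1 * u1 = 5) (h2 : PM u2 1 ∨ u2 * u2 = 5) (h3 : PM u3 1 ∨ u3 * u3 = 5)
    (hs : u0 + u1 + u2 + u3 = 0) (hq : u0 * u0 + u1 * u1 + u2 * u2 + u3 * u3 = 12) :
    u0 + u1 = 0 ∨ u0 + u2 = 0 ∨ u0 + u3 = 0 := by
  have f4 : (4 : ℕ) • (1 : E) ≠ 0 := false_of_nsmul_one (by norm_num)
  have f8 : (8 : ℕ) • (1 : E) ≠ 0 := false_of_nsmul_one (by norm_num)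
  rcases h0 with a | a <;> rcases h1 with b | b <;> rcases h2 with c | c <;> rcases h3 with d | d
  · exact (f8 (by linear_combination (norm := (noncomm_ring <;> norm_num)) a.sq + b.sq + c.sq + d.sq - hq)).elim
  · exact (f4 (by linear_combination (norm := (noncomm_ring <;> norm_num)) a.sq + b.sq + c.sq + d - hq)).elim
  · exact (f4 (by linear_combination (norm := (noncomm_ring <;> norm_num)) a.sq + b.sq + c + d.sq - hq)).elim
  · exact Or.inl (five_key c d a b (by rw [← hs]; abel)).2
  · exact (f4 (by linear_combination (norm := (noncomm_ring <;> norm_num)) a.sq + b + c.sq + d.sq - hq)).elim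
  · exact Or.inr (Or.inl (five_key b d a c (by rw [← hs]; abel)).2)
  · exact Or.inr (Or.inr (five_key b c a d (by rw [← hs]; abel)).2)
  · exact (f4 (by linear_combination (norm := (noncomm_ring <;> norm_num)) hq - (a.sq + b + c + d))).elim
  · exact (f4 (by linear_combination (norm := (noncomm_ring <;> norm_num)) a + b.sq + c.sq + d.sq - hq)).elim
  · exact Or.inr (Or.inr (five_key a d b c (by rw [← hs]; abel)).1)
  · exact Or.inr (Or.inl (five_key a c b d (by rw [← hs]; abel)).1)
  · exact (f4 (by linear_combination (norm := (noncomm_ring <;> norm_num)) hq - (a + b.sq + c + d))).elim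
  · exact Or.inl (five_key a b c d hs).1
  · exact (f4 (by linear_combination (norm := (noncomm_ring <;> norm_num)) hq - (a + b + c.sq + d))).elim
  · exact (f4 (by linear_combination (norm := (noncomm_ring <;> norm_num)) hq - (a + b + c + d.sq))).elim
  · exact (f8 (by linear_combination (norm := (noncomm_ring <;> norm_num)) hq - (a + b + c + d))).elim

namespace QSys

variable {P : E → E → E → E → Prop} (h : QSys P)
include h

theorem aux4 {b c d : E} (p : P 0 b c d) (hn : ¬ (PM b 1 ∧ PM c 1 ∧ PM d 1)) :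
    PM (b + c + d) 1 ∨ (b + c + d) * (b + c + d) = 5 := by
  rcases h.aux3 p with e | e | e
  · exact (hn ⟨Or.inl e.1, Or.inl e.2.1, Or.inl e.2.2⟩).elim
  · exact (hn ⟨Or.inr e.1, Or.inr e.2.1, Or.inr e.2.2⟩).elim
  · exact e

theorem aux5 {b c d : E} (p : P 0 b c d) (hn : ¬ (PM b 1 ∧ PM c 1 ∧ PM d 1)) :
    b = 0 ∨ c = 0 ∨ d = 0 := by
  have := h.nt
  have q0 := (h.sq p).1
  have := four_key (h.aux4 p hn) (h.aux4 (h.ci p) fun e => hn ⟨e.1, e.2.1.of_neg, e.2.2.of_neg⟩)
    (h.aux4 (h.cj p) fun e => hn ⟨e.1.of_neg, e.2.1, e.2.2.of_neg⟩)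
    (h.aux4 (h.ck p) fun e => hn ⟨e.1.of_neg, e.2.1.of_neg, e.2.2⟩) (by abel)
    (by linear_combination (norm := (noncomm_ring <;> norm_num)) -(4 • q0))
  refine this.imp (fun e => ?_) (Or.imp (fun e => ?_) fun e => ?_) <;>
  exact eq_zero_of_nsmul two_ne_zero (by rw [← e]; abel)

theorem aux6 {c d : E} (p : P 0 0 c d) :
    ∃ φ : E, (φ * φ = φ + 1 ∧ P 0 0 φ (φ - 1)) ∧ PM c φ ∧ PM d (φ - 1) := by
  have := h.nt
  have hn : ∀ c d : E, ¬ (PM (0 : E) 1 ∧ PM c 1 ∧ PM d 1) := fun c d e => by
    simpa using e.1.sq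
  have q0 := (h.sq p).1
  have key : ∀ c d : E, P 0 0 c d → c - d = 1 → c * c = c + 1 ∧ P 0 0 c (c - 1) := by
    intro c d p e
    obtain rfl : d = c - 1 := by rw [← e]; abel
    refine ⟨sub_eq_zero.1 (eq_zero_of_nsmul two_ne_zero ?_), p⟩
    linear_combination (norm := (noncomm_ring <;> norm_num)) -(h.sq p).1
  have p1 : P 0 0 c (-d) := by simpa using h.cj p
  have p2 : P 0 0 (-c) d := by simpa using h.ck p
  rcases h.aux4 p (hn _ _) with (e | e) | e
  · exact ⟨c, key c (-d) p1 (by rw [← e]; abel), Or.inl rfl, Or.inr (by rw [← e]; abel)⟩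
  · exact ⟨-c, key (-c) d p2 (by linear_combination (norm := (noncomm_ring <;> norm_num)) -e), Or.inr (by simp),
      Or.inl (by linear_combination (norm := (noncomm_ring <;> norm_num)) e)⟩
  rcases h.aux4 p1 (hn _ _) with (e' | e') | e'
  · exact ⟨c, key c d p (by rw [← e']; abel), Or.inl rfl, Or.inl (by rw [← e']; abel)⟩
  · exact ⟨-c, key (-c) (-d) (h.ci p) (by linear_combination (norm := (noncomm_ring <;> norm_num)) -e'),
      Or.inr (by simp), Or.inr (by linear_combination (norm := (noncomm_ring <;> norm_num)) -e')⟩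
  · exact (false_of_nsmul_one (E := E) (n := 4) (by norm_num)
      (by linear_combination (norm := (noncomm_ring <;> norm_num)) -e - e' - 2 • q0)).elim

theorem classify {b c d : E} (p : P 0 b c d) : (PM b 1 ∧ PM c 1 ∧ PM d 1) ∨
    ∃ φ : E, (φ * φ = φ + 1 ∧ P 0 0 φ (φ - 1)) ∧ ((b = 0 ∧ PM c φ ∧ PM d (φ - 1)) ∨
      (c = 0 ∧ PM d φ ∧ PM b (φ - 1)) ∨ (d = 0 ∧ PM b φ ∧ PM c (φ - 1))) := by
  refine or_iff_not_imp_left.2 fun hn => ?_
  rcases h.aux5 p hn with rfl | rfl | rfl
  · obtain ⟨φ, h1, h2⟩ := h.aux6 p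
    exact ⟨φ, h1, Or.inl ⟨rfl, h2⟩⟩
  · obtain ⟨φ, h1, h2⟩ := h.aux6 (h.rot (h.rot p))
    exact ⟨φ, h1, Or.inr (Or.inl ⟨rfl, h2⟩)⟩
  · obtain ⟨φ, h1, h2⟩ := h.aux6 (h.rot p)
    exact ⟨φ, h1, Or.inr (Or.inr ⟨rfl, h2⟩)⟩

theorem golden_unique {φ ψ : E} (h1 : φ * φ = φ + 1) (p : P 0 0 φ (φ - 1)) (h2 : ψ * ψ = ψ + 1)
    (q : P 0 0 ψ (ψ - 1)) : φ = ψ := by
  have := h.nt
  have f : ∀ {n : ℕ}, n ≠ 0 → n • (1 : E) ≠ 0 := false_of_nsmul_one
  have h1' : ∀ x, φ * (φ * x) = φ * x + x := fun x => by rw [← mul_assoc, h1, add_mul, one_mul]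
  have h2' : ∀ x, ψ * (ψ * x) = ψ * x + x := fun x => by rw [← mul_assoc, h2, add_mul, one_mul]
  obtain ⟨δ, hδ⟩ : ∃ δ, δ = φ * ψ + ψ * φ - φ - ψ + 1 := ⟨_, rfl⟩
  obtain ⟨c, hc⟩ : ∃ c, c = φ * ψ - ψ * φ := ⟨_, rfl⟩
  have cc : c * c = δ * δ - δ - 6 := by
    rw [← sub_eq_zero]
    simp only [hc, hδ, mul_add, add_mul, mul_sub, sub_mul, mul_assoc, mul_one, one_mul, h1, h2, h1',
      h2']
    noncomm_ring
    norm_num
  have pp : (φ + ψ - 1) * (φ + ψ - 1) = δ + 2 := by
    rw [← sub_eq_zero]
    simp only [hδ, mul_add, add_mul, mul_sub, sub_mul, mul_one, one_mul, h1, h2]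
    noncomm_ring
    norm_num
  have φ0 : φ ≠ 0 := fun e => by simp [e] at h1
  by_contra hne
  have d1 : δ * δ - 2 • δ - 3 = 0 := by
    have q' : P 0 0 ψ (-(ψ - 1)) := by simpa using h.cj q
    rcases h.pair p q' (-(2 • (φ + ψ - 1))) (-(2 • c)) 0 0 (by noncomm_ring)
      (by rw [hc]; noncomm_ring) (by noncomm_ring) (by noncomm_ring) with e | e | e | e
    · exact (hne e.2.2.1).elim
    · exact (hne (by linear_combination (norm := (noncomm_ring <;> norm_num)) e.2.2.2)).elim
    · exfalso
      rcases e.1 with e | e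
      · obtain rfl : ψ = -φ := sub_eq_zero.1 (eq_zero_of_nsmul two_ne_zero
          (by linear_combination (norm := (noncomm_ring <;> norm_num)) -e))
        exact φ0 (eq_zero_of_nsmul two_ne_zero (by linear_combination (norm := (noncomm_ring <;> norm_num)) h2 - h1))
      · obtain rfl : ψ = 2 - φ := sub_eq_zero.1 (eq_zero_of_nsmul two_ne_zero
          (by linear_combination (norm := (noncomm_ring <;> norm_num)) -e))
        obtain rfl : φ = 1 := sub_eq_zero.1 (eq_zero_of_nsmul two_ne_zero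
          (by linear_combination (norm := (noncomm_ring <;> norm_num)) h1 - h2))
        exact f one_ne_zero (by linear_combination (norm := (noncomm_ring <;> norm_num)) -h1)
    · apply eq_zero_of_nsmul (n := 4) (by norm_num)
      linear_combination (norm := (noncomm_ring <;> norm_num)) 4 • pp - 4 • cc - e.1
  have d2 : δ ≠ 1 := fun e => by
    rw [e] at d1
    exact f (n := 4) (by norm_num) (by linear_combination (norm := (noncomm_ring <;> norm_num)) -d1)
  have d3 : δ = -1 := by
    rcases h.pair p q (-(2 • δ)) 0 0 0 (by rw [hδ]; noncomm_ring)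
      (by noncomm_ring) (by noncomm_ring) (by noncomm_ring) with e | e | e | e
    · exact (hne e.2.2.1).elim
    · exact (f two_ne_zero
        (by linear_combination (norm := (noncomm_ring <;> norm_num)) e.2.2.1 - e.2.2.2)).elim
    · rcases e.1 with e | e
      · exact sub_eq_zero.1 (eq_zero_of_nsmul two_ne_zero
          (by linear_combination (norm := (noncomm_ring <;> norm_num)) -e))
      · exact (d2 (sub_eq_zero.1 (eq_zero_of_nsmul two_ne_zero
          (by linear_combination (norm := (noncomm_ring <;> norm_num)) -e)))).elim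
    · refine (d2 (sub_eq_zero.1 (eq_zero_of_nsmul (n := 8) (by norm_num) ?_))).elim
      linear_combination (norm := (noncomm_ring <;> norm_num)) e.1 - 4 • d1
  have c0 : c ≠ 0 := fun e => by
    rw [e, d3] at cc
    exact f (n := 4) (by norm_num) (by linear_combination (norm := (noncomm_ring <;> norm_num)) cc)
  rcases h.pair p (h.rot q) (2 - φ + ψ) c c (-c)
    (by linear_combination (norm := (noncomm_ring <;> norm_num)) hδ - d3)
    (by rw [hc]; noncomm_ring) (by rw [hc]; noncomm_ring) (by rw [hc]; noncomm_ring)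
    with e | e | e | e
  · exact φ0 e.2.2.1
  · exact φ0 (by rw [e.2.2.1, neg_zero])
  · exact c0 e.2.1
  · refine c0 (eq_zero_of_nsmul (n := 4) (by norm_num) ?_)
    rw [← e.2.1]
    simp only [hc, mul_add, add_mul, mul_sub, sub_mul, mul_assoc, mul_neg, neg_mul, h1, h2, h1',
      h2', mul_one]
    noncomm_ring

end QSys

end Coeff

end H25
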