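import Cfsg.Agent.H25.Zas1
import Cfsg.Agent.H25.Zas2
import Cfsg.Agent.H25.SL25

/-! The elements of order three of a Frobenius complement. -/

set_option autoImplicit false

namespace H25

open Subgroup

universe u v

variable {R : Type v} [Ring R] [Algebra ℚ R]

/-- the coefficient algebra of a quaternion frame -/
abbrev QCen (i j : R) : Subalgebra ℚ R := Subalgebra.centralizer ℚ ({i, j} : Set R)

structure QFr (i j : R) : Prop where
  ii : i * i = -1
  jj : j * j = -1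
  ji : j * i = -(i * j)

def qq {i j : R} (a b c d : QCen i j) : R := a + b * i + c * j + d * (i * j)

theorem qcen_i {i j : R} (e : QCen i j) : i * e = e * i := e.2 i (by simp)
theorem qcen_j {i j : R} (e : QCen i j) : j * e = e * j := e.2 j (by simp)
theorem qcen_i' {i j : R} (e : QCen i j) (x : R) : i * (e * x) = e * (i * x) := by
  rw [← mul_assoc, qcen_i, mul_assoc]
theorem qcen_j' {i j : R} (e : QCen i j) (x : R) : j * (e * x) = e * (j * x) := by
  rw [← mul_assoc, qcen_j, mul_assoc]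

theorem qq_add {i j : R} (a b c d a' b' c' d' : QCen i j) :
    qq a b c d + qq a' b' c' d' = qq (a + a') (b + b') (c + c') (d + d') := by
  simp only [qq, Subalgebra.coe_add, add_mul]; abel

theorem qq_neg {i j : R} (a b c d : QCen i j) : -qq a b c d = qq (-a) (-b) (-c) (-d) := by
  simp only [qq, Subalgebra.coe_neg, neg_mul]; abel

theorem qq_sc {i j : R} (a : QCen i j) : qq a 0 0 0 = a := by simp [qq]

namespace QFr

variable {i j : R} (h : QFr i j)
include h

omit [Algebra ℚ R] in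
theorem ii' (x : R) : i * (i * x) = -x := by rw [← mul_assoc, h.ii, neg_one_mul]
omit [Algebra ℚ R] in
theorem jj' (x : R) : j * (j * x) = -x := by rw [← mul_assoc, h.jj, neg_one_mul]
omit [Algebra ℚ R] in
theorem ji' (x : R) : j * (i * x) = -(i * (j * x)) := by rw [← mul_assoc, h.ji, neg_mul, mul_assoc]

theorem qq_mul (a b c d a' b' c' d' : QCen i j) : qq a b c d * qq a' b' c' d' =
    qq (a * a' - b * b' - c * c' - d * d') (a * b' + b * a' + c * d' - d * c')
      (a * c' - b * d' + c * a' + d * b') (a * d' + b * c' - c * b' + d * a') := by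
  simp only [qq, Subalgebra.coe_add, Subalgebra.coe_sub, Subalgebra.coe_mul, add_mul, mul_add,
    sub_mul, mul_assoc, qcen_i, qcen_j, qcen_i', qcen_j', h.ii, h.jj, h.ji, h.ii', h.jj', h.ji',
    mul_neg, neg_neg, mul_one]
  abel

theorem conj_i (a b c d : QCen i j) : i * qq a b c d * -i = qq a b (-c) (-d) := by
  simp only [qq, Subalgebra.coe_neg, add_mul, mul_add, mul_assoc, qcen_i, qcen_j, qcen_i', qcen_j',
    h.ii, h.jj, h.ji, h.ii', h.jj', h.ji', mul_neg, neg_neg, mul_one, neg_mul, neg_add]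

theorem conj_j (a b c d : QCen i j) : j * qq a b c d * -j = qq a (-b) c (-d) := by
  simp only [qq, Subalgebra.coe_neg, add_mul, mul_add, mul_assoc, qcen_i, qcen_j, qcen_i', qcen_j',
    h.ii, h.jj, h.ji, h.ii', h.jj', h.ji', mul_neg, neg_neg, mul_one, neg_mul, neg_add]

theorem re_eq_zero {a b c d : QCen i j} (e : qq a b c d = 0) : a = 0 := by
  have e1 := h.conj_i a b c d
  have e2 := h.conj_j a b c d
  have e3 := h.conj_j a b (-c) (-d)
  rw [e, mul_zero, zero_mul] at e1 e2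
  rw [← e1, mul_zero, zero_mul] at e3
  have : qq a b c d + qq a b (-c) (-d) + qq a (-b) c (-d) + qq a (-b) (-c) (- -d) = 0 := by
    rw [e, ← e1, ← e2, ← e3]; simp
  rw [qq_add, qq_add, qq_add] at this
  refine eq_zero_of_nsmul (n := 4) (by norm_num) (Subtype.ext ?_)
  rw [← qq_sc, Subalgebra.coe_zero, ← this]
  congr 1 <;> abel

theorem eq_zero {a b c d : QCen i j} (e : qq a b c d = 0) : a = 0 ∧ b = 0 ∧ c = 0 ∧ d = 0 := by
  have e1 := h.qq_mul a b c d 0 1 0 0
  have e2 := h.qq_mul a b c d 0 0 1 0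
  have e3 := h.qq_mul a b c d 0 0 0 1
  rw [e, zero_mul] at e1 e2 e3
  exact ⟨h.re_eq_zero e, by simpa using h.re_eq_zero e1.symm, by simpa using h.re_eq_zero e2.symm,
    by simpa using h.re_eq_zero e3.symm⟩

theorem qq_inj {a b c d a' b' c' d' : QCen i j} (e : qq a b c d = qq a' b' c' d') :
    a = a' ∧ b = b' ∧ c = c' ∧ d = d' := by
  rw [← sub_eq_zero, sub_eq_add_neg, qq_neg, qq_add] at e
  simpa only [add_neg_eq_zero] using h.eq_zero e

theorem avg_mem (x : R) : x - i * x * i - j * x * j - i * j * x * (i * j) ∈ QCen i j := by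
  rintro y (rfl | rfl) <;>
  · simp only [mul_sub, sub_mul, mul_assoc, h.ii, h.jj, h.ji, h.ii', h.jj', h.ji', mul_neg, neg_neg,
      mul_one]
    abel

theorem exists_qq (x : R) : ∃ a b c d : QCen i j, x = qq a b c d := by
  refine ⟨(1 / 4 : ℚ) • ⟨_, h.avg_mem x⟩, (1 / 4 : ℚ) • ⟨_, h.avg_mem (-(x * i))⟩,
    (1 / 4 : ℚ) • ⟨_, h.avg_mem (-(x * j))⟩, (1 / 4 : ℚ) • ⟨_, h.avg_mem (-(x * (i * j)))⟩, ?_⟩
  simp only [qq, Subalgebra.coe_smul, smul_mul_assoc, mul_sub, sub_mul, mul_assoc, h.ii, h.jj, h.ji,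
    h.ii', h.jj', h.ji', mul_neg, neg_neg, mul_one, neg_mul]
  module

theorem qsq {w x y z n : QCen i j} (e : qq w x y z * qq w x y z = n) : QSq w x y z n := by
  rw [h.qq_mul, ← qq_sc] at e
  obtain ⟨e0, e1, e2, e3⟩ := h.qq_inj e
  exact ⟨e0, by rw [← e1]; abel, by rw [← e2]; abel, by rw [← e3]; abel⟩

end QFr

variable {G : Type u} [Group G]

/-- the pure quaternion attached to an element -/
def av (ρ : G →* R) (x : G) : R := ρ x - ρ x⁻¹

omit [Algebra ℚ R] in
theorem av_inv (ρ : G →* R) (x : G) : av ρ x⁻¹ = -av ρ x := by simp [av]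

omit [Algebra ℚ R] in
theorem av_conj (ρ : G →* R) (g x : G) : av ρ (g * x * g⁻¹) = ρ g * av ρ x * ρ g⁻¹ := by
  simp only [av, mul_inv_rev, inv_inv, map_mul, mul_sub, sub_mul, mul_assoc]

theorem orderOf_conj_three {x : G} (hx : orderOf x = 3) (g : G) : orderOf (g * x * g⁻¹) = 3 := by
  rw [← hx]; exact (MulAut.conj g).orderOf_eq x

namespace QF

variable [Finite G] {ρ : G →* R} (h : QF ρ)
include h

omit [Finite G] in
theorem av_eq {x : G} (hx : orderOf x = 3) : av ρ x = ρ x + ρ x + 1 := by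
  rw [av, h.three_inv hx]; abel

omit [Finite G] in
theorem av_sq {x : G} (hx : orderOf x = 3) : av ρ x * av ρ x = -3 := by
  rw [h.av_eq hx]
  linear_combination (norm := (noncomm_ring <;> norm_num)) 4 • h.three hx

theorem av_inj {x y : G} (hx : orderOf x = 3) (hy : orderOf y = 3) (e : av ρ x = av ρ y) : x = y := by
  rw [h.av_eq hx, h.av_eq hy] at e
  refine h.inj (sub_eq_zero.1 (eq_zero_of_nsmul two_ne_zero ?_))
  linear_combination (norm := (noncomm_ring <;> norm_num)) e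

omit [Finite G] in
theorem av_acomm {x y : G} (hx : orderOf x = 3) (hy : orderOf y = 3) :
    av ρ x * av ρ y + av ρ y * av ρ x = 4 • (ρ (x * y) + ρ (x * y)⁻¹) - 2 := by
  rw [h.av_eq hx, h.av_eq hy, mul_inv_rev, map_mul, map_mul, h.three_inv hx, h.three_inv hy, ← sub_eq_zero]
  noncomm_ring
  norm_num

theorem eq_one_of_tr {g : G} (e : ρ g + ρ g⁻¹ = 2) : g = 1 := by
  by_contra h1
  have := h.nt
  have h2 := (h.isUnit h1).mul (h.isUnit h1)
  have h3 : ρ g * ρ g⁻¹ = 1 := by rw [← map_mul, mul_inv_cancel, map_one]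
  rw [show (1 - ρ g) * (1 - ρ g) = 0 by
    linear_combination (norm := (noncomm_ring <;> norm_num)) ρ g * e - h3] at h2
  exact not_isUnit_zero h2

omit [Finite G] in
theorem tr_four {g : G} (hg : orderOf g = 4) : ρ g + ρ g⁻¹ = 0 := by
  have h4 : g ^ 4 = 1 := hg ▸ pow_orderOf_eq_one g
  have h2 := h.invol (g := g ^ 2) (by rw [← pow_mul, h4]) (pow_ne_one_of_lt_orderOf (by norm_num) (by omega))
  rw [show g⁻¹ = g ^ 2 * g by rw [inv_eq_iff_mul_eq_one, ← pow_succ, ← pow_succ', h4], map_mul, h2]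
  simp

omit [Finite G] in
theorem tr_six {g : G} (hg : orderOf g = 6) : ρ g + ρ g⁻¹ = 1 := by
  have h6 : g ^ 6 = 1 := hg ▸ pow_orderOf_eq_one g
  have h2 := h.invol (g := g ^ 3) (by rw [← pow_mul, h6]) (pow_ne_one_of_lt_orderOf (by norm_num) (by omega))
  have h3 := h.three (g := g ^ 2) (by rw [orderOf_pow' _ two_ne_zero, hg]; rfl)
  rw [← map_mul, ← pow_add, show 2 + 2 = 3 + 1 from rfl, pow_succ, map_mul, h2] at h3
  rw [show g⁻¹ = g ^ 3 * g ^ 2 by rw [inv_eq_iff_mul_eq_one, ← pow_add, ← pow_succ', h6], map_mul, h2]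
  linear_combination (norm := (noncomm_ring <;> norm_num)) -h3

omit [Finite G] in
theorem tr_ten {g : G} (hg : orderOf g = 10) :
    (ρ g + ρ g⁻¹) * (ρ g + ρ g⁻¹) = ρ g + ρ g⁻¹ + 1 := by
  have h10 : g ^ 10 = 1 := hg ▸ pow_orderOf_eq_one g
  have h5 := h.invol (g := g ^ 5) (by rw [← pow_mul, h10]) (pow_ne_one_of_lt_orderOf (by norm_num) (by omega))
  have h2 := h.nrm (g ^ 2) (pow_ne_one_of_lt_orderOf (by norm_num) (by omega))
  rw [orderOf_pow' _ two_ne_zero, hg, show 10 / Nat.gcd 10 2 = 5 from rfl] at h2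
  simp only [Finset.sum_range_succ, Finset.range_zero, Finset.sum_empty, map_pow] at h2
  rw [show g⁻¹ = g ^ 5 * g ^ 4 by rw [inv_eq_iff_mul_eq_one, ← pow_add, ← pow_succ', h10], map_mul, h5,
    map_pow]
  rw [map_pow] at h5
  generalize ρ g = x at *
  linear_combination (norm := (noncomm_ring <;> norm_num)) h2 - 2 • h5 - x * h5

theorem tr_inv {x y : G} (hx : orderOf x = 3) (hy : orderOf y = 3) :
    ρ (x * y⁻¹) + ρ (x * y⁻¹)⁻¹ = 1 - (ρ (x * y) + ρ (x * y)⁻¹) := by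
  have e1 := h.av_acomm hx hy
  have e2 := h.av_acomm hx ((orderOf_inv y).trans hy)
  rw [av_inv] at e2
  refine sub_eq_zero.1 (eq_zero_of_nsmul (n := 4) (by norm_num) ?_)
  linear_combination (norm := (noncomm_ring <;> norm_num)) -e1 - e2

theorem acomm_cases {x y : G} (hx : orderOf x = 3) (hy : orderOf y = 3) :
    x = y ∨ x = y⁻¹ ∨ av ρ x * av ρ y + av ρ y * av ρ x = 2 ∨
      av ρ x * av ρ y + av ρ y * av ρ x = -2 ∨
      (av ρ x * av ρ y + av ρ y * av ρ x) * (av ρ x * av ρ y + av ρ y * av ρ x) = 20 := by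
  have e := h.tr_inv hx hy
  rw [h.av_acomm hx hy]
  rcases h.order_cases e with o | o | o | o | o
  · exact Or.inr (Or.inl (eq_inv_of_mul_eq_one_left (orderOf_eq_one_iff.1 o)))
  · refine Or.inl (mul_inv_eq_one.1 (h.eq_one_of_tr ?_))
    rw [e, h.three_inv o]; norm_num
  · rw [h.tr_four o]; simp
  · rw [h.tr_six o]; norm_num
  · refine Or.inr (Or.inr (Or.inr (Or.inr ?_)))
    linear_combination (norm := (noncomm_ring <;> norm_num)) 16 • h.tr_ten o

theorem tr_sq_one {g : G} (e : (ρ g + ρ g⁻¹) * (ρ g + ρ g⁻¹) = 1) :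
    ρ g + ρ g⁻¹ = 1 ∨ ρ g + ρ g⁻¹ = -1 := by
  have := h.nt
  have h3 : ρ g * ρ g⁻¹ = 1 := by rw [← map_mul, mul_inv_cancel, map_one]
  by_cases h1 : g ^ 3 = 1
  · right
    have : g ≠ 1 := by
      rintro rfl
      simp only [inv_one, map_one] at e
      exact false_of_nsmul_one (E := R) (n := 3) (by norm_num)
        (by linear_combination (norm := (noncomm_ring <;> norm_num)) e)
    rw [h.three_inv (orderOf_eq_prime h1 this)]; abel
  · left
    have h2 := h.isUnit h1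
    rw [map_pow, show 1 - ρ g ^ 3 = (1 - ρ g) * ρ g * (ρ g + ρ g⁻¹ + 1) by
      linear_combination (norm := (noncomm_ring <;> norm_num)) (ρ g - 1) * h3] at h2
    obtain ⟨u, hu⟩ := h2
    have e2 : (ρ g + ρ g⁻¹ + 1) * (ρ g + ρ g⁻¹ - 1) = 0 := by
      linear_combination (norm := (noncomm_ring <;> norm_num)) e
    have : (u : R) * (ρ g + ρ g⁻¹ - 1) = 0 := by rw [hu, mul_assoc, e2, mul_zero]
    exact sub_eq_zero.1 ((Units.mul_right_eq_zero u).1 this)

theorem yx_eq {x y : G} (hx : orderOf x = 3) (hy : orderOf y = 3)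
    (e : av ρ x * av ρ y + av ρ y * av ρ x = 2) : ρ y * ρ x = -ρ x - ρ y - ρ x * ρ y := by
  rw [h.av_eq hx, h.av_eq hy] at e
  refine sub_eq_zero.1 (eq_zero_of_nsmul (n := 4) (by norm_num) ?_)
  linear_combination (norm := (noncomm_ring <;> norm_num)) e

theorem frame {x y : G} (hx : orderOf x = 3) (hy : orderOf y = 3)
    (e : av ρ x * av ρ y + av ρ y * av ρ x = 2) :
    QFr (ρ (x * y * x)) (ρ (y * x⁻¹)) ∧
      av ρ x = ρ (x * y * x) + ρ (y * x⁻¹) + ρ (x * y * x) * ρ (y * x⁻¹) := by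
  have e1 := h.yx_eq hx hy e
  have e2 := h.three hx
  have e3 := h.three hy
  rw [h.av_eq hx, map_mul, map_mul, map_mul, h.three_inv hx]
  generalize ρ x = X at *
  generalize ρ y = Y at *
  have e1' : ∀ r, Y * (X * r) = -(X * r) - Y * r - X * (Y * r) := fun r => by
    rw [← mul_assoc, e1]; noncomm_ring
  have e2' : ∀ r, X * (X * r) = -r - X * r := fun r => by rw [← mul_assoc, e2]; noncomm_ring
  have e3' : ∀ r, Y * (Y * r) = -r - Y * r := fun r => by rw [← mul_assoc, e3]; noncomm_ring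
  refine ⟨⟨?_, ?_, ?_⟩, ?_⟩ <;>
  · simp only [mul_add, add_mul, mul_sub, sub_mul, mul_neg, neg_mul, mul_assoc, mul_one, one_mul,
      e1, e2, e3, e1', e2', e3']
    abel

theorem qsys {x gi gj : G} (hx : orderOf x = 3) (F : QFr (ρ gi) (ρ gj))
    (e : av ρ x = ρ gi + ρ gj + ρ gi * ρ gj) :
    QSys fun a b c d : QCen (ρ gi) (ρ gj) => ∃ w, orderOf w = 3 ∧ av ρ w = qq a b c d := by
  have := h.nt
  have hi : ρ gi⁻¹ = -ρ gi := by
    have h3 : ρ gi * ρ gi⁻¹ = 1 := by rw [← map_mul, mul_inv_cancel, map_one]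
    linear_combination (norm := (noncomm_ring <;> norm_num)) F.ii * ρ gi⁻¹ - ρ gi * h3
  have e1 : av ρ x = qq (0 : QCen (ρ gi) (ρ gj)) 1 1 1 := by simp [qq, e]
  refine ⟨inferInstance, ?_, ?_, ?_, ?_, ⟨x, hx, e1⟩, ?_, ?_⟩
  · rintro a b c d ⟨w, hw, ew⟩
    exact F.qsq (by rw [← ew, h.av_sq hw]; rfl)
  · rintro a b c d ⟨w, hw, ew⟩
    exact ⟨w⁻¹, (orderOf_inv w).trans hw, by rw [av_inv, ew, qq_neg]⟩
  · rintro a b c d ⟨w, hw, ew⟩
    exact ⟨_, orderOf_conj_three hw gi, by rw [av_conj, ew, hi, F.conj_i]⟩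
  · rintro a b c d ⟨w, hw, ew⟩
    refine ⟨_, orderOf_conj_three hw x⁻¹, ?_⟩
    have e2 : ρ x + ρ x = qq (-1 : QCen (ρ gi) (ρ gj)) 1 1 1 := by
      rw [h.av_eq hx] at e
      simp only [qq, Subalgebra.coe_neg, Subalgebra.coe_one, one_mul]
      linear_combination (norm := (noncomm_ring <;> norm_num)) e
    have e3 : qq a b c d * (ρ x + ρ x) = (ρ x + ρ x) * qq a d b c := by
      rw [e2, F.qq_mul, F.qq_mul]
      congr 1 <;> noncomm_ring
    have e4 : qq a b c d * ρ x = ρ x * qq a d b c :=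
      sub_eq_zero.1 (eq_zero_of_nsmul two_ne_zero
        (by linear_combination (norm := (noncomm_ring <;> norm_num)) e3))
    rw [av_conj, ew, inv_inv, mul_assoc, e4, ← mul_assoc, ← map_mul, inv_mul_cancel, map_one, one_mul]
  · rintro a b c d a' b' c' d' ⟨u, hu, eu⟩ ⟨v, hv, ev⟩ w x y z rfl rfl rfl rfl
    have := h.acomm_cases hu hv
    rw [eu, ev, F.qq_mul, F.qq_mul, qq_add] at this
    rcases this with o | o | o | o | o
    · exact Or.inl (F.qq_inj (by rw [← eu, ← ev, o]))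
    · exact Or.inr (Or.inl (F.qq_inj (by rw [← qq_neg, ← eu, ← ev, o, av_inv])))
    · obtain ⟨o1, o2⟩ := F.qq_inj (o.trans (qq_sc 2).symm)
      exact Or.inr (Or.inr (Or.inl ⟨Or.inl o1, o2⟩))
    · obtain ⟨o1, o2⟩ := F.qq_inj (o.trans (qq_sc (-2)).symm)
      exact Or.inr (Or.inr (Or.inl ⟨Or.inr o1, o2⟩))
    · exact Or.inr (Or.inr (Or.inr (F.qsq o)))
  · rintro a b c d ⟨w, hw, ew⟩ e1 e2
    have e3 : ρ (w * gi) + ρ (w * gi)⁻¹ = qq (-b) a 0 0 := by
      refine sub_eq_zero.1 (eq_zero_of_nsmul two_ne_zero ?_)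
      have e4 : qq a b c d * qq (0 : QCen (ρ gi) (ρ gj)) 1 0 0 +
          qq (0 : QCen (ρ gi) (ρ gj)) 1 0 0 * qq a b c d =
          qq (-b) a 0 0 + qq (-b) a 0 0 := by
        rw [F.qq_mul, F.qq_mul, qq_add, qq_add]
        congr 1 <;> noncomm_ring
      rw [← ew, h.av_eq hw, show qq (0 : QCen (ρ gi) (ρ gj)) 1 0 0 = ρ gi by simp [qq]] at e4
      rw [mul_inv_rev, map_mul, map_mul, hi, h.three_inv hw]
      linear_combination (norm := (noncomm_ring <;> norm_num)) e4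
    have e5 := h.tr_sq_one (g := w * gi) (by
      rw [e3, F.qq_mul]
      refine Eq.trans ?_ (qq_sc (1 : QCen (ρ gi) (ρ gj)))
      congr 1
      · linear_combination (norm := (noncomm_ring <;> norm_num)) e1
      · linear_combination (norm := (noncomm_ring <;> norm_num)) -e2
      · simp
      · simp)
    rw [e3] at e5
    rcases e5 with o | o
    · exact (F.qq_inj (o.trans (qq_sc 1).symm)).2.1
    · exact (F.qq_inj (o.trans (qq_sc (-1)).symm)).2.1

theorem ncard_le_of_list (L : List R) (hL : ∀ w, orderOf w = 3 → av ρ w ∈ L) :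
    {w : G | orderOf w = 3}.ncard ≤ L.length := by
  classical
  rw [← Set.InjOn.ncard_image (f := av ρ) (s := {w : G | orderOf w = 3})
    fun a ha b hb e => h.av_inj ha hb e]
  refine le_trans ?_ (List.toFinset_card_le L)
  rw [← Set.ncard_coe_finset]
  refine Set.ncard_le_ncard ?_ (Set.toFinite _)
  rintro _ ⟨w, hw, rfl⟩
  simpa using hL w hw

theorem frame_bound {x y : G} (hx : orderOf x = 3) (hy : orderOf y = 3)
    (e : av ρ x * av ρ y + av ρ y * av ρ x = 2) :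
    {w : G | orderOf w = 3}.ncard ≤ 8 ∨ ({w : G | orderOf w = 3}.ncard ≤ 20 ∧ ∃ u v : G,
      orderOf u = 3 ∧ orderOf v = 3 ∧
      (av ρ u * av ρ v + av ρ v * av ρ u) * (av ρ u * av ρ v + av ρ v * av ρ u) = 20) := by
  obtain ⟨F, e1⟩ := h.frame hx hy e
  have S := h.qsys hx F e1
  set i := ρ (x * y * x)
  set j := ρ (y * x⁻¹)
  have key : ∀ w, orderOf w = 3 → ∃ b c d : QCen i j, av ρ w = qq 0 b c d ∧
      ((PM b 1 ∧ PM c 1 ∧ PM d 1) ∨ ∃ φ : QCen i j, (φ * φ = φ + 1 ∧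
      ∃ w, orderOf w = 3 ∧ av ρ w = qq 0 0 φ (φ - 1)) ∧ ((b = 0 ∧ PM c φ ∧ PM d (φ - 1)) ∨
      (c = 0 ∧ PM d φ ∧ PM b (φ - 1)) ∨ (d = 0 ∧ PM b φ ∧ PM c (φ - 1)))) := fun w hw => by
    obtain ⟨a, b, c, d, ew⟩ := F.exists_qq (av ρ w)
    obtain rfl := S.re_eq_zero ⟨w, hw, ew⟩
    exact ⟨b, c, d, ew, S.classify ⟨w, hw, ew⟩⟩
  let L : List R := [qq (0 : QCen i j) 1 1 1, qq (0 : QCen i j) 1 1 (-1), qq (0 : QCen i j) 1 (-1) 1,
    qq (0 : QCen i j) 1 (-1) (-1), qq (0 : QCen i j) (-1) 1 1, qq (0 : QCen i j) (-1) 1 (-1),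
    qq (0 : QCen i j) (-1) (-1) 1, qq (0 : QCen i j) (-1) (-1) (-1)]
  have hL : ∀ b c d : QCen i j, PM b 1 ∧ PM c 1 ∧ PM d 1 → qq 0 b c d ∈ L := by
    rintro b c d ⟨rfl | rfl, rfl | rfl, rfl | rfl⟩ <;> simp [L]
  by_cases hφ : ∃ φ : QCen i j, φ * φ = φ + 1 ∧ ∃ w, orderOf w = 3 ∧ av ρ w = qq 0 0 φ (φ - 1)
  · obtain ⟨φ, h1, h2⟩ := hφ
    right
    constructor
    · refine h.ncard_le_of_list (L ++ [qq 0 0 φ (φ - 1), qq 0 0 φ (-(φ - 1)), qq 0 0 (-φ) (φ - 1),
        qq 0 0 (-φ) (-(φ - 1)), qq 0 (φ - 1) 0 φ, qq 0 (-(φ - 1)) 0 φ, qq 0 (φ - 1) 0 (-φ),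
        qq 0 (-(φ - 1)) 0 (-φ), qq 0 φ (φ - 1) 0, qq 0 φ (-(φ - 1)) 0, qq 0 (-φ) (φ - 1) 0,
        qq 0 (-φ) (-(φ - 1)) 0]) fun w hw => ?_
      obtain ⟨b, c, d, ew, o | ⟨ψ, ⟨h3, h4⟩, o⟩⟩ := key w hw
      · exact ew ▸ List.mem_append_left _ (hL b c d o)
      · obtain rfl := S.golden_unique h1 h2 h3 h4
        rw [ew]
        apply List.mem_append_right
        rcases o with ⟨rfl, rfl | rfl, rfl | rfl⟩ | ⟨rfl, rfl | rfl, rfl | rfl⟩ |
          ⟨rfl, rfl | rfl, rfl | rfl⟩ <;> simp only [List.mem_cons, true_or, or_true]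
    · obtain ⟨w, hw, ew⟩ := h2
      refine ⟨x, w, hx, hw, ?_⟩
      rw [ew, show av ρ x = qq (0 : QCen i j) 1 1 1 by simp [qq, e1], F.qq_mul, F.qq_mul, qq_add,
        F.qq_mul]
      refine Eq.trans ?_ (qq_sc (20 : QCen i j))
      congr 1
      · linear_combination (norm := (noncomm_ring <;> norm_num)) 16 • h1
      all_goals noncomm_ring
  · left
    refine h.ncard_le_of_list L fun w hw => ?_
    obtain ⟨b, c, d, ew, o | ⟨ψ, h3, -⟩⟩ := key w hw
    · exact ew ▸ hL b c d o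
    · exact (hφ ⟨ψ, h3⟩).elim

theorem acomm_conj {x y : G} (hx : orderOf x = 3) (hy : orderOf y = 3)
    (e : (av ρ x * av ρ y + av ρ y * av ρ x) * (av ρ x * av ρ y + av ρ y * av ρ x) = 20) :
    av ρ (x⁻¹ * y * x) * av ρ y + av ρ y * av ρ (x⁻¹ * y * x) = -2 := by
  have e1 := av_conj ρ x⁻¹ y
  rw [inv_inv] at e1
  have a2 := h.av_sq hx
  have b2 := h.av_sq hy
  have e2 : ρ x + ρ x = av ρ x - 1 := by rw [h.av_eq hx]; abel
  have e3 : ρ x⁻¹ + ρ x⁻¹ = -av ρ x - 1 := by rw [h.av_eq hx, h.three_inv hx]; abel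
  have e4 : 4 • av ρ (x⁻¹ * y * x) = (-av ρ x - 1) * av ρ y * (av ρ x - 1) := by
    rw [e1, ← e2, ← e3]; noncomm_ring
  refine sub_eq_zero.1 (eq_zero_of_nsmul (n := 4) (by norm_num) ?_)
  generalize av ρ (x⁻¹ * y * x) = c at *
  generalize av ρ x = a at *
  generalize av ρ y = b at *
  linear_combination (norm := (noncomm_ring <;> norm_num)) e4 * b + b * e4 - e + a * b2 * a +
    b * a2 * b - 3 • b2 + 2 • b2 + a * b2 - b2 * a - 3 • a2

theorem exists_sl25 {x y : G} (hx : orderOf x = 3) (hy : orderOf y = 3)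
    (e : (av ρ x * av ρ y + av ρ y * av ρ x) * (av ρ x * av ρ y + av ρ y * av ρ x) = 20) :
    ∃ f : SL25 →* G, Function.Injective f := by
  have := h.nt
  have hy' : orderOf (x⁻¹ * y * x) = 3 := by simpa using orderOf_conj_three hy x⁻¹
  have e1 := h.acomm_conj hx hy e
  rw [h.av_acomm hy' hy] at e1
  have e2 : ρ (x⁻¹ * y * x * y) + ρ (x⁻¹ * y * x * y)⁻¹ = 0 := eq_zero_of_nsmul (n := 4)
    (by norm_num) (by linear_combination (norm := (noncomm_ring <;> norm_num)) e1)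
  obtain ⟨z, hz⟩ : ∃ z, z = (x⁻¹ * y * x * y) ^ 2 := ⟨_, rfl⟩
  have ez : ρ z = -1 := by
    have h3 : ρ (x⁻¹ * y * x * y) * ρ (x⁻¹ * y * x * y)⁻¹ = 1 := by
      rw [← map_mul, mul_inv_cancel, map_one]
    rw [hz, map_pow]
    linear_combination (norm := (noncomm_ring <;> norm_num)) ρ (x⁻¹ * y * x * y) * e2 - h3
  have zc : ∀ g, Commute z g := fun g => h.inj (by simp [ez])
  have z2 : z ^ 2 = 1 := h.inj (by simp [ez])
  have z1 : z ≠ 1 := by
    rintro rfl
    exact false_of_nsmul_one (E := R) two_ne_zero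
      (by rw [map_one] at ez; linear_combination (norm := (noncomm_ring <;> norm_num)) ez)
  have o10 : orderOf (x * y⁻¹) = 10 := by
    have hy2 := (orderOf_inv y).trans hy
    have e3 := h.av_acomm hx hy2
    rw [av_inv] at e3
    have e4 : (4 • (ρ (x * y⁻¹) + ρ (x * y⁻¹)⁻¹) - 2) * (4 • (ρ (x * y⁻¹) + ρ (x * y⁻¹)⁻¹) - 2)
        = 20 := by rw [← e3, ← e]; noncomm_ring
    have f : (16 : ℕ) • (1 : R) ≠ 0 := false_of_nsmul_one (by norm_num)
    rcases h.order_cases (h.tr_inv hx hy2) with o | o | o | o | o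
    · rw [orderOf_eq_one_iff.1 o, inv_one, map_one] at e4
      exact (f (by linear_combination (norm := (noncomm_ring <;> norm_num)) e4)).elim
    · rw [h.three_inv o] at e4
      exact (f (by linear_combination (norm := (noncomm_ring <;> norm_num)) e4)).elim
    · rw [h.tr_four o] at e4
      exact (f (by linear_combination (norm := (noncomm_ring <;> norm_num)) -e4)).elim
    · rw [h.tr_six o] at e4
      exact (f (by linear_combination (norm := (noncomm_ring <;> norm_num)) -e4)).elim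
    · exact o
  have e5 : (y * x * y) ^ 5 = z := by
    have : y * x * y = y * (x * y⁻¹) * y⁻¹ * y ^ 3 := by group
    rw [this, ← hy, pow_orderOf_eq_one, mul_one, conj_pow]
    apply h.inj
    rw [map_mul, map_mul, h.invol (g := (x * y⁻¹) ^ 5) (by rw [← pow_mul, show 5 * 2 = 10 from rfl, ← o10, pow_orderOf_eq_one])
      (pow_ne_one_of_lt_orderOf (by norm_num) (by omega)), ez, mul_neg_one, neg_mul, ← map_mul]
    simp
  obtain ⟨f, -, -, hf⟩ := exists_hom_sl25 x⁻¹ (z * (y * x * y)) z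
    (by rw [inv_pow, ← hx, pow_orderOf_eq_one, inv_one])
    (by rw [(zc _).mul_pow, e5, ← pow_succ, show 5 + 1 = 2 * 3 from rfl, pow_mul, z2, one_pow])
    z2 (zc _) (zc _) (by
      rw [← mul_assoc, ← (zc _).eq, mul_assoc, (zc _).mul_pow, z2, one_mul, hz]
      simp only [mul_assoc])
  exact ⟨f, sl25_injective f (hf ▸ z1)⟩

theorem three_cases : {w : G | orderOf w = 3}.ncard ≤ 8 ∨
    ∃ f : SL25 →* G, Function.Injective f ∧ ∀ w, orderOf w = 3 → w ∈ f.range := by
  have key : ∀ x y : G, orderOf x = 3 → orderOf y = 3 →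
      av ρ x * av ρ y + av ρ y * av ρ x = 2 → {w : G | orderOf w = 3}.ncard ≤ 8 ∨
      ∃ f : SL25 →* G, Function.Injective f ∧ ∀ w, orderOf w = 3 → w ∈ f.range := by
    intro x y hx hy e
    refine (h.frame_bound hx hy e).imp_right ?_
    rintro ⟨h20, u, v, hu, hv, e⟩
    obtain ⟨f, hf⟩ := h.exists_sl25 hu hv e
    refine ⟨f, hf, fun w hw => ?_⟩
    have : f '' {g | orderOf g = 3} = {w : G | orderOf w = 3} := by
      refine Set.eq_of_subset_of_ncard_le ?_ ?_ (Set.toFinite _)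
      · rintro _ ⟨g, hg, rfl⟩
        exact (orderOf_injective f hf g).trans hg
      · rw [Set.ncard_image_of_injective _ hf]
        exact h20.trans ncard_sl25_three
    obtain ⟨g, -, rfl⟩ := this.ge hw
    exact ⟨g, rfl⟩
  have key2 : ∀ x y : G, orderOf x = 3 → orderOf y = 3 →
      av ρ x * av ρ y + av ρ y * av ρ x = -2 → {w : G | orderOf w = 3}.ncard ≤ 8 ∨
      ∃ f : SL25 →* G, Function.Injective f ∧ ∀ w, orderOf w = 3 → w ∈ f.range :=
    fun x y hx hy e => key x y⁻¹ hx ((orderOf_inv y).trans hy) (by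
      rw [av_inv]; linear_combination (norm := (noncomm_ring <;> norm_num)) -e)
  by_cases h0 : ∃ y : G, orderOf y = 3
  · obtain ⟨y, hy⟩ := h0
    by_cases h1 : ∀ x : G, orderOf x = 3 → x = y ∨ x = y⁻¹
    · exact Or.inl ((h.ncard_le_of_list [av ρ y, av ρ y⁻¹] fun w hw => by
        rcases h1 w hw with rfl | rfl <;> simp).trans (by simp))
    · push Not at h1
      obtain ⟨x, hx, h1, h2⟩ := h1
      rcases h.acomm_cases hx hy with o | o | o | o | o
      · exact (h1 o).elim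
      · exact (h2 o).elim
      · exact key x y hx hy o
      · exact key2 x y hx hy o
      · exact key2 _ y (by simpa using orderOf_conj_three hy x⁻¹) hy (h.acomm_conj hx hy o)
  · exact Or.inl ((h.ncard_le_of_list [] fun w hw => (h0 ⟨w, hw⟩).elim).trans (by simp))

end QF

end H25
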